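import Cfsg.Agent.Lib.Spor.UFourThreeType.CertGStepsA
import Cfsg.Agent.Lib.Spor.UFourThreeType.CertGStepsB
import Cfsg.Agent.Lib.Spor.UFourThreeType.CertGStepsC
import Cfsg.Agent.Lib.Spor.UFourThreeType.CertGEdgesA
import Cfsg.Agent.Lib.Spor.UFourThreeType.CertGEdgesB
import Cfsg.Agent.Lib.Spor.UFourThreeType.CertGEdgesC
import Cfsg.Agent.Lib.Spor.UFourThreeType.CertGEdgesD
import Cfsg.Agent.Lib.Spor.UFourThreeType.CertGEdgesE

/-!
Coset enumeration certificate: the groups of type U4(3) have at most 2835 cosets of an involution centralizer.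
-/

set_option autoImplicit false
set_option maxRecDepth 100000

namespace Cfsg.Agent.Spor.UFour.CertG

open Cfsg.Agent.Spor.PC

theorem steps_all : ∀ k, 6274 ≤ k → k < 24244 → ∃ s, stepOK dat k s = true := by
  intro k h0 hk
  rcases Nat.lt_or_ge k 6874 with h1 | h0
  · exact stepsOK_spec _ _ st0_ok k (by omega) (by rw [st0_len]; omega)
  rcases Nat.lt_or_ge k 7474 with h1 | h0
  · exact stepsOK_spec _ _ st600_ok k (by omega) (by rw [st600_len]; omega)
  rcases Nat.lt_or_ge k 8074 with h1 | h0
  · exact stepsOK_spec _ _ st1200_ok k (by omega) (by rw [st1200_len]; omega)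
  rcases Nat.lt_or_ge k 8674 with h1 | h0
  · exact stepsOK_spec _ _ st1800_ok k (by omega) (by rw [st1800_len]; omega)
  rcases Nat.lt_or_ge k 9274 with h1 | h0
  · exact stepsOK_spec _ _ st2400_ok k (by omega) (by rw [st2400_len]; omega)
  rcases Nat.lt_or_ge k 9874 with h1 | h0
  · exact stepsOK_spec _ _ st3000_ok k (by omega) (by rw [st3000_len]; omega)
  rcases Nat.lt_or_ge k 10474 with h1 | h0
  · exact stepsOK_spec _ _ st3600_ok k (by omega) (by rw [st3600_len]; omega)
  rcases Nat.lt_or_ge k 11074 with h1 | h0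
  · exact stepsOK_spec _ _ st4200_ok k (by omega) (by rw [st4200_len]; omega)
  rcases Nat.lt_or_ge k 11674 with h1 | h0
  · exact stepsOK_spec _ _ st4800_ok k (by omega) (by rw [st4800_len]; omega)
  rcases Nat.lt_or_ge k 12274 with h1 | h0
  · exact stepsOK_spec _ _ st5400_ok k (by omega) (by rw [st5400_len]; omega)
  rcases Nat.lt_or_ge k 12874 with h1 | h0
  · exact stepsOK_spec _ _ st6000_ok k (by omega) (by rw [st6000_len]; omega)
  rcases Nat.lt_or_ge k 13474 with h1 | h0
  · exact stepsOK_spec _ _ st6600_ok k (by omega) (by rw [st6600_len]; omega)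
  rcases Nat.lt_or_ge k 14074 with h1 | h0
  · exact stepsOK_spec _ _ st7200_ok k (by omega) (by rw [st7200_len]; omega)
  rcases Nat.lt_or_ge k 14674 with h1 | h0
  · exact stepsOK_spec _ _ st7800_ok k (by omega) (by rw [st7800_len]; omega)
  rcases Nat.lt_or_ge k 15274 with h1 | h0
  · exact stepsOK_spec _ _ st8400_ok k (by omega) (by rw [st8400_len]; omega)
  rcases Nat.lt_or_ge k 15874 with h1 | h0
  · exact stepsOK_spec _ _ st9000_ok k (by omega) (by rw [st9000_len]; omega)
  rcases Nat.lt_or_ge k 16474 with h1 | h0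
  · exact stepsOK_spec _ _ st9600_ok k (by omega) (by rw [st9600_len]; omega)
  rcases Nat.lt_or_ge k 17074 with h1 | h0
  · exact stepsOK_spec _ _ st10200_ok k (by omega) (by rw [st10200_len]; omega)
  rcases Nat.lt_or_ge k 17674 with h1 | h0
  · exact stepsOK_spec _ _ st10800_ok k (by omega) (by rw [st10800_len]; omega)
  rcases Nat.lt_or_ge k 18274 with h1 | h0
  · exact stepsOK_spec _ _ st11400_ok k (by omega) (by rw [st11400_len]; omega)
  rcases Nat.lt_or_ge k 18874 with h1 | h0
  · exact stepsOK_spec _ _ st12000_ok k (by omega) (by rw [st12000_len]; omega)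
  rcases Nat.lt_or_ge k 19474 with h1 | h0
  · exact stepsOK_spec _ _ st12600_ok k (by omega) (by rw [st12600_len]; omega)
  rcases Nat.lt_or_ge k 20074 with h1 | h0
  · exact stepsOK_spec _ _ st13200_ok k (by omega) (by rw [st13200_len]; omega)
  rcases Nat.lt_or_ge k 20674 with h1 | h0
  · exact stepsOK_spec _ _ st13800_ok k (by omega) (by rw [st13800_len]; omega)
  rcases Nat.lt_or_ge k 21274 with h1 | h0
  · exact stepsOK_spec _ _ st14400_ok k (by omega) (by rw [st14400_len]; omega)
  rcases Nat.lt_or_ge k 21874 with h1 | h0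
  · exact stepsOK_spec _ _ st15000_ok k (by omega) (by rw [st15000_len]; omega)
  rcases Nat.lt_or_ge k 22474 with h1 | h0
  · exact stepsOK_spec _ _ st15600_ok k (by omega) (by rw [st15600_len]; omega)
  rcases Nat.lt_or_ge k 23074 with h1 | h0
  · exact stepsOK_spec _ _ st16200_ok k (by omega) (by rw [st16200_len]; omega)
  rcases Nat.lt_or_ge k 23674 with h1 | h0
  · exact stepsOK_spec _ _ st16800_ok k (by omega) (by rw [st16800_len]; omega)
  exact stepsOK_spec _ _ st17400_ok k (by omega) (by rw [st17400_len]; omega)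

theorem edges_all : ∀ k, 0 ≤ k → k < 25515 → ∃ s, edgeOK dat 24244 k s = true := by
  intro k h0 hk
  rcases Nat.lt_or_ge k 600 with h1 | h0
  · exact edgesOK_spec _ _ ed0_ok k (by omega) (by rw [ed0_len]; omega)
  rcases Nat.lt_or_ge k 1200 with h1 | h0
  · exact edgesOK_spec _ _ ed600_ok k (by omega) (by rw [ed600_len]; omega)
  rcases Nat.lt_or_ge k 1800 with h1 | h0
  · exact edgesOK_spec _ _ ed1200_ok k (by omega) (by rw [ed1200_len]; omega)
  rcases Nat.lt_or_ge k 2400 with h1 | h0
  · exact edgesOK_spec _ _ ed1800_ok k (by omega) (by rw [ed1800_len]; omega)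
  rcases Nat.lt_or_ge k 3000 with h1 | h0
  · exact edgesOK_spec _ _ ed2400_ok k (by omega) (by rw [ed2400_len]; omega)
  rcases Nat.lt_or_ge k 3600 with h1 | h0
  · exact edgesOK_spec _ _ ed3000_ok k (by omega) (by rw [ed3000_len]; omega)
  rcases Nat.lt_or_ge k 4200 with h1 | h0
  · exact edgesOK_spec _ _ ed3600_ok k (by omega) (by rw [ed3600_len]; omega)
  rcases Nat.lt_or_ge k 4800 with h1 | h0
  · exact edgesOK_spec _ _ ed4200_ok k (by omega) (by rw [ed4200_len]; omega)
  rcases Nat.lt_or_ge k 5400 with h1 | h0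
  · exact edgesOK_spec _ _ ed4800_ok k (by omega) (by rw [ed4800_len]; omega)
  rcases Nat.lt_or_ge k 6000 with h1 | h0
  · exact edgesOK_spec _ _ ed5400_ok k (by omega) (by rw [ed5400_len]; omega)
  rcases Nat.lt_or_ge k 6600 with h1 | h0
  · exact edgesOK_spec _ _ ed6000_ok k (by omega) (by rw [ed6000_len]; omega)
  rcases Nat.lt_or_ge k 7200 with h1 | h0
  · exact edgesOK_spec _ _ ed6600_ok k (by omega) (by rw [ed6600_len]; omega)
  rcases Nat.lt_or_ge k 7800 with h1 | h0
  · exact edgesOK_spec _ _ ed7200_ok k (by omega) (by rw [ed7200_len]; omega)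
  rcases Nat.lt_or_ge k 8400 with h1 | h0
  · exact edgesOK_spec _ _ ed7800_ok k (by omega) (by rw [ed7800_len]; omega)
  rcases Nat.lt_or_ge k 9000 with h1 | h0
  · exact edgesOK_spec _ _ ed8400_ok k (by omega) (by rw [ed8400_len]; omega)
  rcases Nat.lt_or_ge k 9600 with h1 | h0
  · exact edgesOK_spec _ _ ed9000_ok k (by omega) (by rw [ed9000_len]; omega)
  rcases Nat.lt_or_ge k 10200 with h1 | h0
  · exact edgesOK_spec _ _ ed9600_ok k (by omega) (by rw [ed9600_len]; omega)
  rcases Nat.lt_or_ge k 10800 with h1 | h0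
  · exact edgesOK_spec _ _ ed10200_ok k (by omega) (by rw [ed10200_len]; omega)
  rcases Nat.lt_or_ge k 11400 with h1 | h0
  · exact edgesOK_spec _ _ ed10800_ok k (by omega) (by rw [ed10800_len]; omega)
  rcases Nat.lt_or_ge k 12000 with h1 | h0
  · exact edgesOK_spec _ _ ed11400_ok k (by omega) (by rw [ed11400_len]; omega)
  rcases Nat.lt_or_ge k 12600 with h1 | h0
  · exact edgesOK_spec _ _ ed12000_ok k (by omega) (by rw [ed12000_len]; omega)
  rcases Nat.lt_or_ge k 13200 with h1 | h0
  · exact edgesOK_spec _ _ ed12600_ok k (by omega) (by rw [ed12600_len]; omega)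
  rcases Nat.lt_or_ge k 13800 with h1 | h0
  · exact edgesOK_spec _ _ ed13200_ok k (by omega) (by rw [ed13200_len]; omega)
  rcases Nat.lt_or_ge k 14400 with h1 | h0
  · exact edgesOK_spec _ _ ed13800_ok k (by omega) (by rw [ed13800_len]; omega)
  rcases Nat.lt_or_ge k 15000 with h1 | h0
  · exact edgesOK_spec _ _ ed14400_ok k (by omega) (by rw [ed14400_len]; omega)
  rcases Nat.lt_or_ge k 15600 with h1 | h0
  · exact edgesOK_spec _ _ ed15000_ok k (by omega) (by rw [ed15000_len]; omega)
  rcases Nat.lt_or_ge k 16200 with h1 | h0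
  · exact edgesOK_spec _ _ ed15600_ok k (by omega) (by rw [ed15600_len]; omega)
  rcases Nat.lt_or_ge k 16800 with h1 | h0
  · exact edgesOK_spec _ _ ed16200_ok k (by omega) (by rw [ed16200_len]; omega)
  rcases Nat.lt_or_ge k 17400 with h1 | h0
  · exact edgesOK_spec _ _ ed16800_ok k (by omega) (by rw [ed16800_len]; omega)
  rcases Nat.lt_or_ge k 18000 with h1 | h0
  · exact edgesOK_spec _ _ ed17400_ok k (by omega) (by rw [ed17400_len]; omega)
  rcases Nat.lt_or_ge k 18600 with h1 | h0
  · exact edgesOK_spec _ _ ed18000_ok k (by omega) (by rw [ed18000_len]; omega)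
  rcases Nat.lt_or_ge k 19200 with h1 | h0
  · exact edgesOK_spec _ _ ed18600_ok k (by omega) (by rw [ed18600_len]; omega)
  rcases Nat.lt_or_ge k 19800 with h1 | h0
  · exact edgesOK_spec _ _ ed19200_ok k (by omega) (by rw [ed19200_len]; omega)
  rcases Nat.lt_or_ge k 20400 with h1 | h0
  · exact edgesOK_spec _ _ ed19800_ok k (by omega) (by rw [ed19800_len]; omega)
  rcases Nat.lt_or_ge k 21000 with h1 | h0
  · exact edgesOK_spec _ _ ed20400_ok k (by omega) (by rw [ed20400_len]; omega)
  rcases Nat.lt_or_ge k 21600 with h1 | h0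
  · exact edgesOK_spec _ _ ed21000_ok k (by omega) (by rw [ed21000_len]; omega)
  rcases Nat.lt_or_ge k 22200 with h1 | h0
  · exact edgesOK_spec _ _ ed21600_ok k (by omega) (by rw [ed21600_len]; omega)
  rcases Nat.lt_or_ge k 22800 with h1 | h0
  · exact edgesOK_spec _ _ ed22200_ok k (by omega) (by rw [ed22200_len]; omega)
  rcases Nat.lt_or_ge k 23400 with h1 | h0
  · exact edgesOK_spec _ _ ed22800_ok k (by omega) (by rw [ed22800_len]; omega)
  rcases Nat.lt_or_ge k 24000 with h1 | h0
  · exact edgesOK_spec _ _ ed23400_ok k (by omega) (by rw [ed23400_len]; omega)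
  rcases Nat.lt_or_ge k 24600 with h1 | h0
  · exact edgesOK_spec _ _ ed24000_ok k (by omega) (by rw [ed24000_len]; omega)
  rcases Nat.lt_or_ge k 25200 with h1 | h0
  · exact edgesOK_spec _ _ ed24600_ok k (by omega) (by rw [ed24600_len]; omega)
  exact edgesOK_spec _ _ ed25200_ok k (by omega) (by rw [ed25200_len]; omega)

theorem checked : Checked dat 24244 where
  defs := defsOK_spec _ defs_ok
  steps := steps_all
  edges := fun k hk => edges_all k (Nat.zero_le k) hk
  pos := by decide
  rep0 := by decide +kernel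

end Cfsg.Agent.Spor.UFour.CertG
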