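import Cfsg.Agent.Lib.Spor.UFourThreeType.CertNData

/-!
Coset enumeration certificate for four identities in the normalizer of an elementary abelian group of order sixteen.
-/

set_option autoImplicit false
set_option maxRecDepth 100000

namespace Cfsg.Agent.Spor.UFour.CertN

open Cfsg.Agent.Spor.PC

/-- checked items -/
def ed0 : List ℕ := [
0x5408001140009200fb7007a9003cf8001d400fae002a300151001ee200ce0001b3006b600147601a250007d806b8802a5c01acb00d36805cb002ea80176f00b33006b5000d340176e00baa8069f00357a0146b00d658069b402e98000fa00d5d806afc00e140036700670803dc002036004a20074e80406000a8e00faf00075803cfc01ea600fb6000240001103600000,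
0x8a00049007db803d4801e7c000ea007d700151800a8800f7100670000d98035b000a3b00d128003ec035c40152e00d658069b402e580175400bb7806bbc035d8012230086d800934019d200ea8007f880408401ff800fbd005638000002400000,
0xa8000000803e80000cc00ffd00810003fc001d520100400108003cd40202201ade00ce10027d0035a400d3e0084c803f6c0190000c8f002490037e40153000d6800197002d8401db400f33000c8003d180006c00a840066d802c98019d200ea8007f880408401ff800fbd005638000002b00000,
0x1df000a9d0000200000801bbe003a20071a80337001ace000f2007418010b000892010aa00890004324021b401af10042f806964035a2007de009f8801f58024dc0006c008c380470002002011c800928006b6802fa00176e00baa8069f00357a0146b00d658069b402e98000fa00d5d806afc00e140036700670803dc002036004a20074e80406000a8e00faf00075803cfc01ea600fb6000240001103c00000]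

theorem ed0_ok : edgesOK dat 3449 ed0 0 = true := by decide +kernel

theorem ed0_len : ed0.length = 4 := by decide +kernel

end Cfsg.Agent.Spor.UFour.CertN
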