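import Cfsg.Agent.Lib.Spor.UFourThreeType.CertNStepsA
import Cfsg.Agent.Lib.Spor.UFourThreeType.CertNEdgesA

/-!
Coset enumeration certificate for four identities in the normalizer of an elementary abelian group of order sixteen.
-/

set_option autoImplicit false
set_option maxRecDepth 100000

namespace Cfsg.Agent.Spor.UFour.CertN

open Cfsg.Agent.Spor.PC

theorem steps_all : ∀ k, 1344 ≤ k → k < 3449 → ∃ s, stepOK dat k s = true := by
  intro k h0 hk
  rcases Nat.lt_or_ge k 1944 with h1 | h0
  · exact stepsOK_spec _ _ st0_ok k (by omega) (by rw [st0_len]; omega)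
  rcases Nat.lt_or_ge k 2544 with h1 | h0
  · exact stepsOK_spec _ _ st600_ok k (by omega) (by rw [st600_len]; omega)
  rcases Nat.lt_or_ge k 3144 with h1 | h0
  · exact stepsOK_spec _ _ st1200_ok k (by omega) (by rw [st1200_len]; omega)
  exact stepsOK_spec _ _ st1800_ok k (by omega) (by rw [st1800_len]; omega)

theorem edges_all : ∀ k, 0 ≤ k → k < 4 → ∃ s, edgeOK dat 3449 k s = true := by
  intro k h0 hk
  exact edgesOK_spec _ _ ed0_ok k (by omega) (by rw [ed0_len]; omega)

theorem checked : Checked dat 3449 where
  defs := defsOK_spec _ defs_ok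
  steps := steps_all
  edges := fun k hk => edges_all k (Nat.zero_le k) hk
  pos := by decide
  rep0 := by decide +kernel

end Cfsg.Agent.Spor.UFour.CertN
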