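import Cfsg.Agent.Lib.Spor.UFourThreeType.Frame
import Cfsg.Agent.Lib.Spor.UFourThreeType.CertN

/-!
The normalizer of the elementary abelian subgroup of order 16 in a frame: an element `dW` of order
three commuting with `ev 624`, and an element exchanging the two cyclically.
-/

set_option autoImplicit false
set_option maxRecDepth 100000

namespace Cfsg.Agent.Spor.UFour

open Cfsg.Agent.Spor.PC

/-- a complement of order 24 in the normalizer -/
def sList : List ℕ := [0, 7, 184, 191, 256, 263, 328, 335, 403, 404, 563, 564, 624, 631, 683, 684, 803, 804,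
  936, 943, 987, 988, 1115, 1116]

/-- the codes of the letters -/
def lc : List ℕ := [96, inv 96, 676, inv 676, 2, 1, inv 1, 624, inv 624]

/-- the action of a letter on the elementary abelian group -/
def aL (l e : ℕ) : ℕ :=
  bif Nat.blt l 9 then cj (lc.getD l 0) e
  else bif Nat.beq l 9 then fT e else bif Nat.beq l 10 then fT (fT e) else e

/-- the action of a word -/
def aW : List ℕ → ℕ → ℕ
  | [], e => e
  | a :: w, e => aL a (aW w e)

/-- the element that cycles a four-group and commutes with `ev 624` -/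
def GRel.dW {G : Type*} [Group G] (R : GRel G) : G := R.g * R.ev 224 * R.g * R.g * R.ev 104

/-- the element inducing an automorphism of order four -/
def GRel.eta {G : Type*} [Group G] (R : GRel G) : G := R.ev 676 * R.g⁻¹ * R.ev 4

theorem aL_ok : allLt 16 (fun l => eList.all fun e => eList.contains (aL l e)) = true := by decide +kernel

theorem eList_lt : ∀ e ∈ eList, e < 1152 ∧ inT e = true := by decide +kernel

theorem lc_lt : ∀ l, l < 9 → lc.getD l 0 < 1152 := by decide +kernel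

theorem e_cent_ok : allLt 1152 (fun p => eList.contains p ||
    !eList.all fun e => Nat.beq (mul (cj p e) (inv e)) 0) = true := by decide +kernel

theorem e_sq : ∀ e ∈ eList, mul e e = 0 := by decide +kernel

theorem s_meet_e : ∀ a ∈ sList, ∀ e ∈ eList, mul e (inv a) = 0 → e = 0 := by decide +kernel

theorem sList_closed : ∀ a ∈ sList, inv a ∈ sList ∧ a < 1152 ∧ ∀ b ∈ sList, mul a b ∈ sList := by decide +kernel

namespace Frame

variable {G : Type*} [Group G] (F : Frame G)

/-- the value of a letter -/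
def lv (l : ℕ) : G :=
  bif Nat.blt l 9 then F.ev (lc.getD l 0) else bif Nat.beq l 9 then F.g else bif Nat.beq l 10 then F.g⁻¹ else 1

theorem lv_lt {l : ℕ} (h : l < 9) : F.lv l = F.ev (lc.getD l 0) := by
  rw [lv, show Nat.blt l 9 = true from Nat.ble_eq_true_of_le h, cond_true]

theorem aL_lt {l : ℕ} (h : l < 9) (e : ℕ) : aL l e = cj (lc.getD l 0) e := by
  rw [aL, show Nat.blt l 9 = true from Nat.ble_eq_true_of_le h, cond_true]

theorem lv_conj {l e : ℕ} (hl : l < 16) (he : e ∈ eList) :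
    F.lv l * F.ev e * (F.lv l)⁻¹ = F.ev (aL l e) ∧ aL l e ∈ eList := by
  have hm : aL l e ∈ eList := List.contains_iff_mem.1 (List.all_eq_true.1 (allLt_spec aL_ok l hl) e he)
  refine ⟨?_, hm⟩
  obtain ⟨h1, h2⟩ := eList_lt e he
  rcases Nat.lt_or_ge l 9 with h | h
  · rw [F.lv_lt h, aL_lt h, F.toHRel.ev_cj (lc_lt l h) h1]
  · have h9 : Nat.blt l 9 = false := Bool.eq_false_iff.2 fun hh => by
      have : l < 9 := Nat.le_of_ble_eq_true hh
      omega
    by_cases e9 : l = 9
    · subst e9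
      exact F.g_T e h1 h2
    · by_cases e10 : l = 10
      · subst e10
        show F.g⁻¹ * F.ev e * F.g⁻¹⁻¹ = F.ev (fT (fT e))
        have hf : fT e ∈ eList := by
          have := List.all_eq_true.1 (allLt_spec aL_ok 9 (by omega)) e he
          exact List.contains_iff_mem.1 this
        have hg : F.g⁻¹ = F.g * F.g := inv_eq_of_mul_eq_one_left F.g_cube
        rw [inv_inv, ← F.g_T _ (eList_lt _ hf).1 (eList_lt _ hf).2, ← F.g_T e h1 h2]
        calc F.g⁻¹ * F.ev e * F.g = F.g * F.g * F.ev e * (F.g * F.g)⁻¹ := by rw [← hg, inv_inv]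
          _ = _ := by group
      · have hne : ∀ k, k ≠ l → Nat.beq l k = false := fun k hk => Bool.eq_false_iff.2 fun hh =>
          hk (Nat.eq_of_beq_eq_true hh).symm
        simp [lv, aL, h9, hne 9 (Ne.symm e9), hne 10 (Ne.symm e10)]

/-- the value of a word -/
def wv (w : List ℕ) : G := (w.map F.lv).prod

theorem wv_cons (a : ℕ) (w : List ℕ) : F.wv (a :: w) = F.lv a * F.wv w := by simp [wv]

theorem wv_conj : ∀ w : List ℕ, (∀ l ∈ w, l < 16) → ∀ e ∈ eList,
    F.wv w * F.ev e * (F.wv w)⁻¹ = F.ev (aW w e) ∧ aW w e ∈ eList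
  | [], _, e, he => by simpa [wv, aW] using he
  | a :: w, h, e, he => by
    obtain ⟨h1, h2⟩ := wv_conj w (fun l hl => h l (List.mem_cons_of_mem a hl)) e he
    obtain ⟨h3, h4⟩ := F.lv_conj (h a List.mem_cons_self) h2
    refine ⟨?_, h4⟩
    rw [wv_cons, show aW (a :: w) e = aL a (aW w e) from rfl, ← h3, ← h1]
    group

/-- a word acting trivially on the elementary abelian group is one of its elements -/
theorem mem_E (w : List ℕ) (hl : ∀ l ∈ w, l < 16) (h : ∀ e ∈ eList, aW w e = e) :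
    ∃ e ∈ eList, F.wv w = F.ev e := by
  have hc : ∀ e ∈ eList, F.wv w * F.ev e * (F.wv w)⁻¹ = F.ev e := fun e he => by
    rw [(F.wv_conj w hl e he).1, h e he]
  obtain ⟨p, hp, e1⟩ := F.cent (F.wv w) (by
    rw [← F.toHRel.ev_z]
    exact mul_inv_eq_iff_eq_mul.1 (hc 4 (by decide)))
  have hk : ∀ e ∈ eList, Nat.beq (mul (cj p e) (inv e)) 0 = true := fun e he => by
    have he' := (eList_lt e he).1
    have h1 : F.ev (cj p e) = F.ev e := by rw [F.toHRel.ev_cj hp he', ← e1]; exact hc e he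
    have h0 := F.ev_inj (p := cj p e) (HRel.mul_lt (HRel.mul_lt hp he') (HRel.inv_lt hp)) he' h1
    rw [h0]; rfl
  refine ⟨p, ?_, e1⟩
  have := allLt_spec e_cent_ok p hp
  rw [List.all_eq_true.2 hk] at this
  simpa using this

theorem wv_append (v w : List ℕ) : F.wv (v ++ w) = F.wv v * F.wv w := by simp [wv]

theorem wv_rep (v : List ℕ) : ∀ k : ℕ, F.wv (List.replicate k v).flatten = F.wv v ^ k
  | 0 => by simp [wv]
  | k + 1 => by rw [List.replicate_succ, List.flatten_cons, wv_append, wv_rep v k, pow_succ']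

/-- a fixed-point-free action of order `k` gives a relation -/
theorem pow_one_of_fpf (v : List ℕ) (k : ℕ) (hl : ∀ l ∈ v, l < 16)
    (hlw : ∀ l ∈ (List.replicate k v).flatten, l < 16)
    (hfix : ∀ e ∈ eList, aW (List.replicate k v).flatten e = e)
    (hfp : ∀ e ∈ eList, mul (aW v e) (inv e) = 0 → e = 0) :
    F.wv (List.replicate k v).flatten = 1 := by
  obtain ⟨e, he, h⟩ := F.mem_E _ hlw hfix
  obtain ⟨h1, h2⟩ := F.wv_conj v hl e he
  have hc : F.ev (aW v e) = F.ev e := by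
    rw [← h1, ← h, wv_rep]
    group
  rw [h, hfp e he (F.ev_inj (eList_lt _ h2).1 (eList_lt _ he).1 hc), F.toHRel.ev_zero]

/-- the square of a word acting trivially is one -/
theorem sq_one_of_fix (w : List ℕ) (hl : ∀ l ∈ w, l < 16) (h : ∀ e ∈ eList, aW w e = e) :
    F.wv (w ++ w) = 1 := by
  obtain ⟨e, he, h1⟩ := F.mem_E w hl h
  rw [wv_append, h1, ← F.toHRel.ev_mul (eList_lt e he).1 (eList_lt e he).1, e_sq e he, F.toHRel.ev_zero]

/-- words without `g` -/
theorem wv_pure : ∀ w : List ℕ, (∀ l ∈ w, l < 9) →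
    (w.map fun l => lc.getD l 0).foldr mul 0 < 1152 ∧ F.wv w = F.ev ((w.map fun l => lc.getD l 0).foldr mul 0) := by
  intro w hw
  have hlt : ∀ t ∈ w.map (fun l => lc.getD l 0), t < 1152 := by
    intro t ht
    obtain ⟨l, hl, rfl⟩ := List.mem_map.1 ht
    exact lc_lt l (hw l hl)
  refine ⟨(F.ev_prod _ hlt).1, ?_⟩
  rw [← (F.ev_prod _ hlt).2, wv, List.map_map]
  exact congrArg List.prod (List.map_congr_left fun l hl => F.lv_lt (hw l hl))

theorem pure_one (w : List ℕ) (hw : ∀ l ∈ w, l < 9) (h : (w.map fun l => lc.getD l 0).foldr mul 0 = 0) :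
    F.wv w = 1 := by rw [(F.wv_pure w hw).2, h, F.toHRel.ev_zero]

/-- relators `g a g⁻¹ b` -/
theorem gconj_one (a b : List ℕ) (ha : ∀ l ∈ a, l < 9) (hb : ∀ l ∈ b, l < 9)
    (hT : inT ((a.map fun l => lc.getD l 0).foldr mul 0) = true)
    (hlt : fT ((a.map fun l => lc.getD l 0).foldr mul 0) < 1152)
    (h : mul (fT ((a.map fun l => lc.getD l 0).foldr mul 0)) ((b.map fun l => lc.getD l 0).foldr mul 0) = 0) :
    F.wv (9 :: (a ++ 10 :: b)) = 1 := by
  obtain ⟨ha1, ha2⟩ := F.wv_pure a ha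
  obtain ⟨hb1, hb2⟩ := F.wv_pure b hb
  rw [wv_cons, wv_append, wv_cons, ha2, hb2, show F.lv 9 = F.g from rfl, show F.lv 10 = F.g⁻¹ from rfl,
    ← mul_assoc, ← mul_assoc, F.g_T _ ha1 hT, ← F.toHRel.ev_mul hlt hb1, h, F.toHRel.ev_zero]

theorem cancel_one (a b : ℕ) (ha : a < 9) (hb : b < 9) (h : mul (lc.getD a 0) (lc.getD b 0) = 0) :
    F.wv [a, b] = 1 := by
  simp only [wv, List.map_cons, List.map_nil, List.prod_cons, List.prod_nil, mul_one, F.lv_lt ha, F.lv_lt hb]
  rw [← F.toHRel.ev_mul (lc_lt a ha) (lc_lt b hb), h, F.toHRel.ev_zero]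

theorem rel_ok : ∀ w ∈ CertN.wordList.take 32, F.wv w = 1 := by
  intro w hw
  simp only [List.take, List.mem_cons, List.not_mem_nil, or_false, CertN.wordList] at hw
  rcases hw with rfl | rfl | rfl | rfl | rfl | rfl | rfl | rfl | rfl | rfl | rfl | rfl | rfl | rfl | rfl | rfl |
    rfl | rfl | rfl | rfl | rfl | rfl | rfl | rfl | rfl | rfl | rfl | rfl | rfl | rfl | rfl | rfl
  · exact F.cancel_one 1 0 (by omega) (by omega) (by decide +kernel)
  · exact F.cancel_one 0 1 (by omega) (by omega) (by decide +kernel)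
  · exact F.cancel_one 3 2 (by omega) (by omega) (by decide +kernel)
  · exact F.cancel_one 2 3 (by omega) (by omega) (by decide +kernel)
  · exact F.cancel_one 4 4 (by omega) (by omega) (by decide +kernel)
  · exact F.cancel_one 6 5 (by omega) (by omega) (by decide +kernel)
  · exact F.cancel_one 5 6 (by omega) (by omega) (by decide +kernel)
  · exact F.cancel_one 8 7 (by omega) (by omega) (by decide +kernel)
  · exact F.cancel_one 7 8 (by omega) (by omega) (by decide +kernel)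
  · show F.g⁻¹ * (F.g * 1) = 1
    group
  · show F.g * (F.g⁻¹ * 1) = 1
    group
  all_goals first
    | exact F.pure_one _ (by decide) (by decide +kernel)
    | skip
  · show F.g * (F.g * (F.g * 1)) = 1
    rw [mul_one, ← mul_assoc]; exact F.g_cube
  · exact F.gconj_one [0] [2, 6, 4, 3, 4] (by decide) (by decide) (by decide +kernel) (by decide +kernel)
      (by decide +kernel)
  · exact F.gconj_one [2, 4, 2, 4] [4, 1, 1] (by decide) (by decide) (by decide +kernel) (by decide +kernel)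
      (by decide +kernel)
  · exact F.gconj_one [4] [2, 1, 4, 3, 1] (by decide) (by decide) (by decide +kernel) (by decide +kernel)
      (by decide +kernel)
  · exact F.gconj_one [5] [1, 4] (by decide) (by decide) (by decide +kernel) (by decide +kernel) (by decide +kernel)
  · show F.g * (F.ev 676 * (F.g * (F.ev (inv 676) * (F.ev 1 * (F.ev 2 * 1))))) = 1
    rw [F.toHRel.ev_inv (by omega), mul_one, ← F.toHRel.ev_mul (by omega) (by omega), ← mul_assoc, ← mul_assoc,
      ← mul_assoc, F.g_j, ← F.toHRel.ev_mul (by omega) (HRel.mul_lt (by omega) (by omega)),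
      show mul 7 (mul 1 2) = 0 by decide +kernel, F.toHRel.ev_zero]
  · exact F.pow_one_of_fpf [9, 7] 5 (by decide) (by decide) (by decide +kernel) (by decide +kernel)
  · exact F.sq_one_of_fix [9, 8, 9, 8, 9, 8, 9, 8] (by decide) (by decide +kernel)

/-- the complement as a subgroup -/
def sSub : Subgroup G where
  carrier := {x | ∃ p ∈ sList, x = F.ev p}
  one_mem' := ⟨0, by decide, (F.toHRel.ev_zero).symm⟩
  mul_mem' := by
    rintro _ _ ⟨a, ha, rfl⟩ ⟨b, hb, rfl⟩
    exact ⟨mul a b, (sList_closed a ha).2.2 b hb,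
      (F.toHRel.ev_mul (sList_closed a ha).2.1 (sList_closed b hb).2.1).symm⟩
  inv_mem' := by
    rintro _ ⟨a, ha, rfl⟩
    exact ⟨inv a, (sList_closed a ha).1, (F.toHRel.ev_inv (sList_closed a ha).2.1).symm⟩

theorem iv_ok : ∀ k, k < 16 → F.lv (ivL CertN.dat.iw k) = (F.lv k)⁻¹ := by
  intro k hk
  rcases Nat.lt_or_ge k 9 with h | h
  · have h2 : ∀ l, l < 9 → ivL CertN.dat.iw l < 9 ∧
        mul (lc.getD (ivL CertN.dat.iw l) 0) (lc.getD l 0) = 0 := by decide +kernel
    obtain ⟨h3, h4⟩ := h2 k h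
    refine eq_inv_of_mul_eq_one_left ?_
    rw [F.lv_lt h3, F.lv_lt h, ← F.toHRel.ev_mul (lc_lt _ h3) (lc_lt _ h), h4, F.toHRel.ev_zero]
  · have e : ∀ l, 9 ≤ l → l < 16 → ivL CertN.dat.iw l = (if l = 9 then 10 else if l = 10 then 9 else l) := by
      decide +kernel
    rw [e k h hk]
    interval_cases k
    · rfl
    · exact (inv_inv F.g).symm
    all_goals exact inv_one.symm

/-- the moving words are trivial -/
theorem target_one : ∀ w ∈ CertN.moveList, F.wv w = 1 := by
  have hrel : ∀ k, k < CertN.dat.nw →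
      (k < CertN.dat.nr → ((wDecode (fld CertN.dat.words 512 k)).map F.lv).prod = 1) ∧
      ((wDecode (fld CertN.dat.words 512 k)).map F.lv).prod ∈ F.sSub := by
    intro k hk
    have hd : wDecode (fld CertN.dat.words 512 k) = CertN.wordList.getD k [] := by
      have := congrArg (fun l : List (List ℕ) => l.getD k []) CertN.words_ok
      simpa [hk] using this
    have hk' : k < 34 := hk
    rw [hd]
    by_cases h : k < 32
    · have h1 : F.wv (CertN.wordList.getD k []) = 1 := F.rel_ok _ (by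
        have hlen : k < (CertN.wordList.take 32).length := lt_of_lt_of_eq h (by decide +kernel)
        rw [List.getD_eq_getElem _ _ (lt_of_lt_of_eq hk' (by decide +kernel : 34 = CertN.wordList.length))]
        have := List.getElem_mem hlen
        rwa [List.getElem_take] at this)
      exact ⟨fun _ => h1, by show F.wv _ ∈ F.sSub; rw [h1]; exact one_mem _⟩
    · refine ⟨fun hh => absurd (show k < 32 from hh) h, ?_⟩
      have hs : ∀ l ∈ ([[7], [2, 4, 0, 6]] : List (List ℕ)), F.wv l ∈ F.sSub := by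
        intro l hl
        have hl9 : ∀ a ∈ l, a < 9 := by fin_cases hl <;> decide
        refine ⟨_, ?_, (F.wv_pure l hl9).2⟩
        fin_cases hl <;> decide +kernel
      refine hs _ ?_
      obtain rfl | rfl : k = 32 ∨ k = 33 := by omega
      all_goals decide +kernel
  obtain ⟨v, hv0, hv⟩ := closed CertN.checked F.lv F.sSub F.iv_ok rfl hrel
  intro w hw
  obtain ⟨n, hn, rfl⟩ := List.mem_iff_getElem.1 hw
  have hn4 : n < 4 := lt_of_lt_of_eq hn (by decide +kernel)
  have hd : wDecode (fld CertN.dat.words 512 (CertN.dat.nw + n)) = CertN.moveList[n] := by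
    have hl : n < ((List.range CertN.dat.ne).map fun k =>
        wDecode (fld CertN.dat.words 512 (CertN.dat.nw + k))).length := by simpa using (show n < CertN.dat.ne from hn4)
    have := List.getElem_of_eq CertN.moves_ok hl
    rwa [List.getElem_map, List.getElem_range] at this
  obtain ⟨c, hc, hR⟩ := hv (F.wv CertN.moveList[n]) ⟨n, hn4, by rw [← hd]; rfl⟩ 0 (by decide +kernel)
  obtain rfl : c = 0 := Nat.lt_one_iff.1 hc
  rw [CertN.checked.rep0, hv0, one_mul, Rel, inv_one, mul_one] at hR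
  have hfix : ∀ m ∈ CertN.moveList, (∀ l ∈ m, l < 16) ∧ ∀ e ∈ eList, aW m e = e := by decide +kernel
  obtain ⟨h16, hf⟩ := hfix _ (List.getElem_mem hn)
  obtain ⟨e, he, h1⟩ := F.mem_E _ h16 hf
  obtain ⟨p, hp, h2⟩ := hR
  rw [h1, s_meet_e p hp e he (F.ev_inj (eList_lt e he).1 (sList_closed p hp).2.1 (h1.symm.trans h2)),
    F.toHRel.ev_zero]

theorem wv_dW : F.wv [9, 0, 4, 3, 4, 8, 9, 9, 0, 4, 0, 4] = F.dW := by
  rw [show ([9, 0, 4, 3, 4, 8, 9, 9, 0, 4, 0, 4] : List ℕ) = 9 :: ([0, 4, 3, 4, 8] ++ (9 :: 9 :: [0, 4, 0, 4]))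
    from rfl, wv_cons, F.wv_append [0, 4, 3, 4, 8], wv_cons _ 9, wv_cons _ 9,
    (F.wv_pure [0, 4, 3, 4, 8] (by decide)).2,
    (F.wv_pure [0, 4, 0, 4] (by decide)).2, show F.lv 9 = F.g from rfl, GRel.dW]
  simp only [← mul_assoc]
  congr 3

/-- the four identities -/
theorem local_identities : F.dW * F.ev 624 * F.dW⁻¹ = F.ev 624 ∧
    F.eta * F.ev 624 * F.eta⁻¹ = F.dW ∧ F.eta * F.dW * F.eta⁻¹ = (F.ev 624)⁻¹ ∧ F.dW * F.dW * F.dW = 1 := by
  have hw := F.wv_dW
  have he : F.wv [2, 10, 0, 0] = F.eta := by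
    rw [show ([2, 10, 0, 0] : List ℕ) = [2] ++ (10 :: [0, 0]) from rfl, F.wv_append [2], wv_cons _ 10,
      (F.wv_pure [2] (by decide)).2, (F.wv_pure [0, 0] (by decide)).2, show F.lv 10 = F.g⁻¹ from rfl, GRel.eta]
    simp only [← mul_assoc]
    congr 2
    all_goals (congr 1; decide +kernel)
  have hd : F.wv [7] = F.ev 624 := by
    show F.lv 7 * 1 = _
    rw [mul_one]; rfl
  have hinv : ∀ a b : List ℕ, F.wv (a ++ b) = 1 → F.wv b = (F.wv a)⁻¹ := fun a b h => by
    rw [wv_append] at h; exact eq_inv_of_mul_eq_one_right h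
  have hdi : F.wv [8] = (F.ev 624)⁻¹ := hd ▸ hinv [7] [8] (F.cancel_one 7 8 (by omega) (by omega) (by decide +kernel))
  have rev : ∀ m ∈ ([([9, 0, 4, 3, 4, 8, 9, 9, 0, 4, 0, 4], [4, 1, 4, 1, 10, 10, 7, 4, 2, 4, 1, 10]),
      ([2, 10, 0, 0], [1, 1, 9, 3])] : List (List ℕ × List ℕ)), F.wv m.2 = (F.wv m.1)⁻¹ := by
    have hl : ∀ l, l < 16 → F.lv (ivL CertN.dat.iw l) = (F.lv l)⁻¹ := F.iv_ok
    have key : ∀ a : List ℕ, (∀ l ∈ a, l < 16) → F.wv (a.reverse.map (ivL CertN.dat.iw)) = (F.wv a)⁻¹ := by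
      intro a ha
      induction a with
      | nil => simp [wv]
      | cons x a ih =>
        rw [List.reverse_cons, List.map_append, wv_append, ih fun l h => ha l (List.mem_cons_of_mem x h),
          List.map_cons, List.map_nil, wv_cons, wv_cons, mul_inv_rev, hl x (ha x List.mem_cons_self)]
        simp [wv]
    intro m hm
    rw [show m.2 = m.1.reverse.map (ivL CertN.dat.iw) by fin_cases hm <;> decide +kernel]
    exact key _ (by fin_cases hm <;> decide)
  have r1 := rev _ List.mem_cons_self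
  have r2 := rev _ (List.mem_cons_of_mem _ List.mem_cons_self)
  rw [hw] at r1
  rw [he] at r2
  have T := F.target_one
  refine ⟨?_, ?_, ?_, ?_⟩
  · have h := T [9, 0, 4, 3, 4, 8, 9, 9, 0, 4, 0, 4, 7, 4, 1, 4, 1, 10, 10, 7, 4, 2, 4, 1, 10, 8] (by decide)
    rw [show ([9, 0, 4, 3, 4, 8, 9, 9, 0, 4, 0, 4, 7, 4, 1, 4, 1, 10, 10, 7, 4, 2, 4, 1, 10, 8] : List ℕ) =
      [9, 0, 4, 3, 4, 8, 9, 9, 0, 4, 0, 4] ++ ([7] ++ ([4, 1, 4, 1, 10, 10, 7, 4, 2, 4, 1, 10] ++ [8])) from rfl,
      wv_append, wv_append, wv_append, hw, hd, hdi] at h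
    have r1' : F.wv [4, 1, 4, 1, 10, 10, 7, 4, 2, 4, 1, 10] = F.dW⁻¹ := by
      exact r1
    rw [r1', ← mul_assoc, ← mul_assoc, mul_inv_eq_one] at h
    exact h
  · have h := T [2, 10, 0, 0, 7, 1, 1, 9, 3, 4, 1, 4, 1, 10, 10, 7, 4, 2, 4, 1, 10] (by decide)
    rw [show ([2, 10, 0, 0, 7, 1, 1, 9, 3, 4, 1, 4, 1, 10, 10, 7, 4, 2, 4, 1, 10] : List ℕ) =
      [2, 10, 0, 0] ++ ([7] ++ ([1, 1, 9, 3] ++ [4, 1, 4, 1, 10, 10, 7, 4, 2, 4, 1, 10])) from rfl,
      wv_append, wv_append, wv_append, he, hd, r2, r1, ← mul_assoc, ← mul_assoc, mul_inv_eq_one] at h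
    exact h
  · have h := T [2, 10, 0, 0, 9, 0, 4, 3, 4, 8, 9, 9, 0, 4, 0, 4, 1, 1, 9, 3, 7] (by decide)
    rw [show ([2, 10, 0, 0, 9, 0, 4, 3, 4, 8, 9, 9, 0, 4, 0, 4, 1, 1, 9, 3, 7] : List ℕ) =
      [2, 10, 0, 0] ++ ([9, 0, 4, 3, 4, 8, 9, 9, 0, 4, 0, 4] ++ ([1, 1, 9, 3] ++ [7])) from rfl,
      wv_append, wv_append, wv_append, he, hw, r2, hd, ← mul_assoc, ← mul_assoc] at h
    exact eq_inv_of_mul_eq_one_left h
  · have h := T _ (show ([9, 0, 4, 3, 4, 8, 9, 9, 0, 4, 0, 4] ++ ([9, 0, 4, 3, 4, 8, 9, 9, 0, 4, 0, 4] ++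
      [9, 0, 4, 3, 4, 8, 9, 9, 0, 4, 0, 4])) ∈ CertN.moveList by decide)
    rw [wv_append, wv_append, hw, ← mul_assoc] at h
    exact h

end Frame

end Cfsg.Agent.Spor.UFour
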