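import Cfsg.Agent.Lib.Spor.UFourThreeType.Phi
import Cfsg.Agent.Lib.Spor.UFourThreeType.NormE
import Cfsg.Agent.Lib.Spor.UFourThreeType.CertG

/-!
The relations satisfied in the groups of type U4(3) bound their order by 2835 * 1152 = 3265920.
-/

set_option autoImplicit false
set_option maxRecDepth 100000

namespace Cfsg.Agent.Spor.UFour

open Cfsg.Agent.Spor.PC

/-- the codes of the letters of the coset enumeration -/
def gc : List ℕ := [96, inv 96, 576, inv 576, 8, inv 8, 48, inv 48, 2, 1, inv 1]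

/-- value in codes of a word without `g` -/
def gVal (w : List ℕ) : ℕ := (w.map fun l => gc.getD l 0).foldr mul 0

theorem gc_lt : ∀ l, l < 11 → gc.getD l 0 < 1152 := by decide +kernel

namespace GRel

variable {G : Type*} [Group G] (R : GRel G)

/-- the image of the involution centralizer -/
def hSub : Subgroup G where
  carrier := {x | ∃ p, p < 1152 ∧ x = R.ev p}
  one_mem' := ⟨0, by omega, (R.toHRel.ev_zero).symm⟩
  mul_mem' := by
    rintro _ _ ⟨a, ha, rfl⟩ ⟨b, hb, rfl⟩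
    exact ⟨mul a b, HRel.mul_lt ha hb, (R.toHRel.ev_mul ha hb).symm⟩
  inv_mem' := by
    rintro _ ⟨a, ha, rfl⟩
    exact ⟨inv a, HRel.inv_lt ha, (R.toHRel.ev_inv ha).symm⟩

theorem hSub_card : Finite R.hSub ∧ Nat.card R.hSub ≤ 1152 := by
  let f : Fin 1152 → R.hSub := fun i => ⟨R.ev i, i, i.2, rfl⟩
  have hf : Function.Surjective f := by
    rintro ⟨_, p, hp, rfl⟩
    exact ⟨⟨p, hp⟩, rfl⟩
  haveI := Finite.of_surjective f hf
  exact ⟨this, (Nat.card_le_card_of_surjective f hf).trans (by rw [Nat.card_fin])⟩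

/-- the relations that come from the local structure -/
structure Local : Prop where
  dW : R.dW * R.ev 624 * R.dW⁻¹ = R.ev 624
  comm : R.ev 648 * (R.dW * R.ev 648 * R.dW⁻¹) = R.dW * R.ev 648 * R.dW⁻¹ * R.ev 648
  dW' : R.trG.dW * R.trG.ev 624 * R.trG.dW⁻¹ = R.trG.ev 624

/-- the value of a letter -/
def glv (l : ℕ) : G :=
  bif Nat.blt l 11 then R.ev (gc.getD l 0) else bif Nat.beq l 11 then R.g else bif Nat.beq l 12 then R.g⁻¹ else 1

/-- the value of a word -/
def gwv (w : List ℕ) : G := (w.map R.glv).prod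

theorem gwv_cons (a : ℕ) (w : List ℕ) : R.gwv (a :: w) = R.glv a * R.gwv w := by simp [gwv]

theorem gwv_append (v w : List ℕ) : R.gwv (v ++ w) = R.gwv v * R.gwv w := by simp [gwv]

theorem ev_prod : ∀ l : List ℕ, (∀ t ∈ l, t < 1152) →
    l.foldr mul 0 < 1152 ∧ (l.map R.ev).prod = R.ev (l.foldr mul 0)
  | [], _ => ⟨by decide, (R.toHRel.ev_zero).symm⟩
  | a :: l, h => by
    obtain ⟨h1, h2⟩ := ev_prod l fun t ht => h t (List.mem_cons_of_mem a ht)
    refine ⟨HRel.mul_lt (h a List.mem_cons_self) h1, ?_⟩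
    rw [List.map_cons, List.prod_cons, h2, List.foldr_cons, R.toHRel.ev_mul (h a List.mem_cons_self) h1]

theorem glv_lt {l : ℕ} (h : l < 11) : R.glv l = R.ev (gc.getD l 0) := by
  rw [glv, show Nat.blt l 11 = true from Nat.ble_eq_true_of_le h, cond_true]

theorem gwv_pure (w : List ℕ) (hw : ∀ l ∈ w, l < 11) : gVal w < 1152 ∧ R.gwv w = R.ev (gVal w) := by
  have hlt : ∀ t ∈ w.map (fun l => gc.getD l 0), t < 1152 := by
    intro t ht
    obtain ⟨l, hl, rfl⟩ := List.mem_map.1 ht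
    exact gc_lt l (hw l hl)
  refine ⟨(R.ev_prod _ hlt).1, ?_⟩
  rw [gVal, ← (R.ev_prod _ hlt).2, gwv, List.map_map]
  exact congrArg List.prod (List.map_congr_left fun l hl => R.glv_lt (hw l hl))

theorem gpure_one (w : List ℕ) (hw : ∀ l ∈ w, l < 11) (h : gVal w = 0) : R.gwv w = 1 := by
  rw [(R.gwv_pure w hw).2, h, R.toHRel.ev_zero]

/-- relators `g a g⁻¹ b` -/
theorem ggconj_one (a b : List ℕ) (ha : ∀ l ∈ a, l < 11) (hb : ∀ l ∈ b, l < 11) (hT : inT (gVal a) = true)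
    (hlt : fT (gVal a) < 1152) (h : mul (fT (gVal a)) (gVal b) = 0) : R.gwv (11 :: (a ++ 12 :: b)) = 1 := by
  obtain ⟨ha1, ha2⟩ := R.gwv_pure a ha
  obtain ⟨hb1, hb2⟩ := R.gwv_pure b hb
  rw [gwv_cons, gwv_append, gwv_cons, ha2, hb2, show R.glv 11 = R.g from rfl, show R.glv 12 = R.g⁻¹ from rfl,
    ← mul_assoc, ← mul_assoc, R.g_T _ ha1 hT, ← R.toHRel.ev_mul hlt hb1, h, R.toHRel.ev_zero]

/-- words `g a g g b g⁻¹ g⁻¹ c g⁻¹ e` -/
theorem gform (a b c e : List ℕ) (ha : ∀ l ∈ a, l < 11) (hb : ∀ l ∈ b, l < 11) (hc : ∀ l ∈ c, l < 11)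
    {pa pb pm : ℕ} (h1 : pa < 1152) (h2 : pb < 1152) (h3 : pm < 1152) (ea : gVal a = pa)
    (eb : gVal b = mul (mul pb pm) (inv pb)) (ec : gVal c = inv pa) :
    R.gwv (11 :: (a ++ 11 :: 11 :: (b ++ 12 :: 12 :: (c ++ 12 :: e)))) =
      R.g * R.ev pa * R.g * R.g * R.ev pb * R.ev pm * (R.g * R.ev pa * R.g * R.g * R.ev pb)⁻¹ * R.gwv e := by
  simp only [gwv_cons, gwv_append, (R.gwv_pure a ha).2, (R.gwv_pure b hb).2, (R.gwv_pure c hc).2,
    show R.glv 11 = R.g from rfl, show R.glv 12 = R.g⁻¹ from rfl, ea, eb, ec,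
    R.toHRel.ev_mul (HRel.mul_lt h2 h3) (HRel.inv_lt h2), R.toHRel.ev_mul h2 h3, R.toHRel.ev_inv h1,
    R.toHRel.ev_inv h2]
  group

theorem dd_one (h : R.Local) : R.gwv [11, 0, 3, 4, 7, 5, 11, 11, 0, 4, 2, 6, 5, 1, 12, 12, 4, 6, 5, 2, 1, 12, 7, 3] = 1 := by
  have e := R.gform [0, 3, 4, 7, 5] [0, 4, 2, 6, 5, 1] [4, 6, 5, 2, 1] [7, 3] (by decide) (by decide) (by decide)
    (pa := 224) (pb := 104) (pm := 624) (by omega) (by omega) (by omega) (by decide +kernel) (by decide +kernel)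
    (by decide +kernel)
  refine e.trans ?_
  show R.dW * R.ev 624 * R.dW⁻¹ * _ = 1
  rw [h.dW, (R.gwv_pure [7, 3] (by decide)).2, show gVal [7, 3] = inv 624 by decide +kernel,
    R.toHRel.ev_inv (by omega), mul_inv_cancel]

theorem pdd_one (h : R.Local) :
    R.gwv [11, 0, 2, 0, 4, 7, 5, 11, 11, 3, 0, 4, 6, 4, 12, 12, 0, 3, 0, 4, 6, 5, 12, 2, 0, 7] = 1 := by
  have e := R.gform [0, 2, 0, 4, 7, 5] [3, 0, 4, 6, 4] [0, 3, 0, 4, 6, 5] [2, 0, 7] (by decide) (by decide)
    (by decide) (pa := phiC 224) (pb := phiC 104) (pm := phiC 624) (phiC_lt (by omega)) (phiC_lt (by omega))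
    (phiC_lt (by omega)) (by decide +kernel) (by decide +kernel) (by decide +kernel)
  refine e.trans ?_
  have h' := h.dW'
  simp only [GRel.dW] at h'
  rw [show R.trG.g = R.g from rfl, show R.trG.ev 224 = R.ev (phiC 224) from R.toHRel.tr_ev (by omega),
    show R.trG.ev 104 = R.ev (phiC 104) from R.toHRel.tr_ev (by omega),
    show R.trG.ev 624 = R.ev (phiC 624) from R.toHRel.tr_ev (by omega)] at h'
  rw [h', (R.gwv_pure [2, 0, 7] (by decide)).2, show gVal [2, 0, 7] = inv (phiC 624) by decide +kernel,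
    R.toHRel.ev_inv (phiC_lt (by omega)), mul_inv_cancel]

theorem comm_one (h : R.Local) : R.gwv [2, 7, 11, 0, 3, 4, 7, 5, 11, 11, 0, 4, 2, 7, 5, 1, 12, 12, 4, 6, 5, 2, 1, 12,
    6, 3, 11, 0, 3, 4, 7, 5, 11, 11, 0, 4, 6, 3, 5, 1, 12, 12, 4, 6, 5, 2, 1, 12] = 1 := by
  have e1 := R.gform [0, 3, 4, 7, 5] [0, 4, 2, 7, 5, 1] [4, 6, 5, 2, 1]
    [6, 3, 11, 0, 3, 4, 7, 5, 11, 11, 0, 4, 6, 3, 5, 1, 12, 12, 4, 6, 5, 2, 1, 12] (by decide) (by decide) (by decide)
    (pa := 224) (pb := 104) (pm := 648) (by omega) (by omega) (by omega) (by decide +kernel) (by decide +kernel)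
    (by decide +kernel)
  have e2 := R.gform [0, 3, 4, 7, 5] [0, 4, 6, 3, 5, 1] [4, 6, 5, 2, 1] [] (by decide) (by decide) (by decide)
    (pa := 224) (pb := 104) (pm := inv 648) (by omega) (by omega) (HRel.inv_lt (by omega)) (by decide +kernel)
    (by decide +kernel) (by decide +kernel)
  rw [show ([2, 7, 11, 0, 3, 4, 7, 5, 11, 11, 0, 4, 2, 7, 5, 1, 12, 12, 4, 6, 5, 2, 1, 12, 6, 3, 11, 0, 3, 4, 7, 5,
    11, 11, 0, 4, 6, 3, 5, 1, 12, 12, 4, 6, 5, 2, 1, 12] : List ℕ) = [2, 7] ++ (11 :: ([0, 3, 4, 7, 5] ++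
      11 :: 11 :: ([0, 4, 2, 7, 5, 1] ++ 12 :: 12 :: ([4, 6, 5, 2, 1] ++ 12 ::
      [6, 3, 11, 0, 3, 4, 7, 5, 11, 11, 0, 4, 6, 3, 5, 1, 12, 12, 4, 6, 5, 2, 1, 12])))) from rfl, R.gwv_append, e1,
    show ([6, 3, 11, 0, 3, 4, 7, 5, 11, 11, 0, 4, 6, 3, 5, 1, 12, 12, 4, 6, 5, 2, 1, 12] : List ℕ) =
      [6, 3] ++ (11 :: ([0, 3, 4, 7, 5] ++ 11 :: 11 :: ([0, 4, 6, 3, 5, 1] ++ 12 :: 12 :: ([4, 6, 5, 2, 1] ++
      12 :: [])))) from rfl, R.gwv_append, e2, (R.gwv_pure [2, 7] (by decide)).2, (R.gwv_pure [6, 3] (by decide)).2,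
    show gVal [2, 7] = 648 by decide +kernel, show gVal [6, 3] = inv 648 by decide +kernel,
    show R.gwv [] = 1 from rfl, mul_one]
  show R.ev 648 * (R.dW * R.ev 648 * R.dW⁻¹ * (R.ev (inv 648) * (R.dW * R.ev (inv 648) * R.dW⁻¹))) = 1
  rw [R.toHRel.ev_inv (by omega), ← mul_assoc, ← mul_assoc, h.comm]
  group

theorem grel_ok (h : R.Local) : ∀ w ∈ CertG.wordList.take 40, R.gwv w = 1 := by
  intro w hw
  simp only [List.take, List.mem_cons, List.not_mem_nil, or_false, CertG.wordList] at hw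
  rcases hw with rfl | rfl | rfl | rfl | rfl | rfl | rfl | rfl | rfl | rfl | rfl | rfl | rfl | rfl | rfl | rfl |
    rfl | rfl | rfl | rfl | rfl | rfl | rfl | rfl | rfl | rfl | rfl | rfl | rfl | rfl | rfl | rfl | rfl | rfl |
    rfl | rfl | rfl | rfl | rfl | rfl
  all_goals first
    | exact R.gpure_one _ (by decide) (by decide +kernel)
    | skip
  · show R.g⁻¹ * (R.g * 1) = 1
    group
  · show R.g * (R.g⁻¹ * 1) = 1
    group
  · show R.g * (R.g * (R.g * 1)) = 1
    rw [mul_one, ← mul_assoc]; exact R.g_cube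
  · exact R.ggconj_one [0, 4] [4, 1] (by decide) (by decide) (by decide +kernel) (by decide +kernel) (by decide +kernel)
  · exact R.ggconj_one [0] [10, 6, 5, 7, 3, 1, 2] (by decide) (by decide) (by decide +kernel) (by decide +kernel) (by decide +kernel)
  · exact R.ggconj_one [8] [8, 7, 4, 6, 3, 1, 2] (by decide) (by decide) (by decide +kernel) (by decide +kernel) (by decide +kernel)
  · rw [show ([11, 2, 0, 3, 11, 2, 1, 3, 9, 8] : List ℕ) = 11 :: ([2, 0, 3] ++ 11 :: [2, 1, 3, 9, 8]) from rfl,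
      gwv_cons, R.gwv_append [2, 0, 3], R.gwv_cons 11, (R.gwv_pure [2, 0, 3] (by decide)).2,
      (R.gwv_pure [2, 1, 3, 9, 8] (by decide)).2, show gVal [2, 0, 3] = 676 by decide +kernel,
      show gVal [2, 1, 3, 9, 8] = mul (inv 676) (inv 7) by decide +kernel,
      R.toHRel.ev_mul (HRel.inv_lt (by omega)) (HRel.inv_lt (by omega)), R.toHRel.ev_inv (by omega),
      R.toHRel.ev_inv (by omega), show R.glv 11 = R.g from rfl, ← R.g_j]
    group
  · exact R.ggconj_one [2, 0, 3, 6, 4, 7] [8, 1, 1] (by decide) (by decide) (by decide +kernel) (by decide +kernel) (by decide +kernel)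
  · exact R.ggconj_one [2, 0, 3, 7, 4, 6, 8, 10] [10, 8, 5, 1] (by decide) (by decide) (by decide +kernel) (by decide +kernel) (by decide +kernel)
  · exact R.dd_one h
  · exact R.pdd_one h
  · exact R.comm_one h

theorem giv_ok : ∀ k, k < 16 → R.glv (ivL CertG.dat.iw k) = (R.glv k)⁻¹ := by
  intro k hk
  rcases Nat.lt_or_ge k 11 with h | h
  · have h2 : ∀ l, l < 11 → ivL CertG.dat.iw l < 11 ∧
        mul (gc.getD (ivL CertG.dat.iw l) 0) (gc.getD l 0) = 0 := by decide +kernel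
    obtain ⟨h3, h4⟩ := h2 k h
    refine eq_inv_of_mul_eq_one_left ?_
    rw [R.glv_lt h3, R.glv_lt h, ← R.toHRel.ev_mul (gc_lt _ h3) (gc_lt _ h), h4, R.toHRel.ev_zero]
  · have e : ∀ l, l < 16 → 11 ≤ l → ivL CertG.dat.iw l = (if l = 11 then 12 else if l = 12 then 11 else l) := by
      decide +kernel
    rw [e k hk h]
    interval_cases k
    · rfl
    · exact (inv_inv R.g).symm
    all_goals exact inv_one.symm

/-- the subgroup generated by the frame elements -/
def gen : Subgroup G := Subgroup.closure {R.ev 96, R.ev 576, R.ev 2, R.ev 1, R.g}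

theorem gen_bound (h : R.Local) : Finite R.gen ∧ Nat.card R.gen ≤ 2835 * 1152 := by
  haveI := R.hSub_card.1
  have hrel : ∀ k, k < CertG.dat.nw →
      (k < CertG.dat.nr → ((wDecode (fld CertG.dat.words 512 k)).map R.glv).prod = 1) ∧
      ((wDecode (fld CertG.dat.words 512 k)).map R.glv).prod ∈ R.hSub := by
    intro k hk
    have hd : wDecode (fld CertG.dat.words 512 k) = CertG.wordList.getD k [] := by
      have := congrArg (fun l : List (List ℕ) => l.getD k []) CertG.words_ok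
      simpa [hk] using this
    have hk' : k < 46 := hk
    rw [hd]
    by_cases hlt : k < 40
    · have h1 : R.gwv (CertG.wordList.getD k []) = 1 := R.grel_ok h _ (by
        have hlen : k < (CertG.wordList.take 40).length := lt_of_lt_of_eq hlt (by decide +kernel)
        rw [List.getD_eq_getElem _ _ (lt_of_lt_of_eq hk' (by decide +kernel : 46 = CertG.wordList.length))]
        have := List.getElem_mem hlen
        rwa [List.getElem_take] at this)
      exact ⟨fun _ => h1, by show R.gwv _ ∈ R.hSub; rw [h1]; exact one_mem _⟩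
    · refine ⟨fun hh => absurd (show k < 40 from hh) hlt, ?_⟩
      have hs : ∀ n, n < 46 → 40 ≤ n → (CertG.wordList.getD n []).all (fun l => Nat.blt l 11) = true := by
        decide +kernel
      have h11 : ∀ l ∈ CertG.wordList.getD k [], l < 11 := fun l hl =>
        Nat.le_of_ble_eq_true (List.all_eq_true.1 (hs k hk' (by omega)) l hl)
      exact ⟨_, (R.gwv_pure _ h11).1, (R.gwv_pure _ h11).2⟩
  have H := card_le CertG.checked R.glv R.hSub R.giv_ok rfl hrel R.gen _ rfl ?_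
  · exact ⟨H.1, H.2.trans (Nat.mul_le_mul_left _ R.hSub_card.2)⟩
  · have mv : ∀ n, n < 9 → R.gwv (CertG.moveList.getD n []) ∈ moves CertG.dat R.glv := by
      intro n hn
      refine ⟨n, hn, ?_⟩
      have := congrArg (fun l : List (List ℕ) => l.getD n []) CertG.moves_ok
      simp [show n < CertG.dat.ne from hn] at this
      simp [this, gwv]
    have mv' : ∀ n, n < 9 → ∀ l, CertG.moveList.getD n [] = [l] → R.glv l ∈ moves CertG.dat R.glv := by
      intro n hn l e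
      have := mv n hn
      rw [e] at this
      simpa [gwv] using this
    have hinv : ∀ a, a < 1152 → (R.ev a)⁻¹ = R.ev (inv a) := fun a ha => (R.toHRel.ev_inv ha).symm
    rintro x (rfl | rfl | rfl | rfl | rfl)
    · refine ⟨?_, ?_⟩
      · exact mv' 0 (by omega) _ rfl
      · rw [hinv 96 (by omega)]; exact mv' 1 (by omega) _ rfl
    · refine ⟨?_, ?_⟩
      · exact mv' 2 (by omega) _ rfl
      · rw [hinv 576 (by omega)]; exact mv' 3 (by omega) _ rfl
    · refine ⟨?_, ?_⟩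
      · exact mv' 4 (by omega) _ rfl
      · rw [hinv 2 (by omega), show inv 2 = 2 by decide +kernel]
        exact mv' 4 (by omega) _ rfl
    · refine ⟨?_, ?_⟩
      · exact mv' 5 (by omega) _ rfl
      · rw [hinv 1 (by omega)]; exact mv' 6 (by omega) _ rfl
    · refine ⟨?_, ?_⟩
      · exact mv' 7 (by omega) _ rfl
      · exact mv' 8 (by omega) _ rfl

end GRel

namespace Frame

variable {G : Type*} [Group G] (F : Frame G)

theorem tr_dW_eq : F.tr.dW * F.tr.ev 624 * F.tr.dW⁻¹ = F.tr.ev 624 := F.tr.local_identities.1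

end Frame

end Cfsg.Agent.Spor.UFour
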