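import Cfsg.Agent.Lib.Spor.UFourThreeType.NormE
import Cfsg.Agent.Lib.Spor.U43Sylow
import Cfsg.Agent.Lib.Perm.LivingstoneWagner.Main

/-!
The centralizer of the element `ev 624` of order three in a frame: its Sylow 3-subgroup has order at
least 27, and the element `ev 648` commutes with its conjugate under the cycling element.
-/

set_option autoImplicit false
set_option maxRecDepth 100000

namespace Cfsg.Agent.Spor.UFour

/-- the subgroup of order nine -/
def pList : List ℕ := [0, 48, 72, 576, 624, 648, 864, 912, 936]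

/-- the part of the centralizer of `ev 624` in the involution centralizer fixing `ev 648` -/
def cyList : List ℕ := [0, 4, 48, 52, 72, 76, 576, 580, 624, 628, 648, 652, 864, 868, 912, 916, 936, 940]

/-- third power -/
def cube (p : ℕ) : ℕ := mul p (mul p p)

theorem pList_ok : ∀ a ∈ pList, inv a ∈ pList ∧ a < 1152 ∧ cube a = 0 ∧ mul a 624 = mul 624 a ∧
    mul a 4 = mul 4 a ∧ ∀ b ∈ pList, mul a b ∈ pList ∧ mul a b = mul b a := by decide +kernel

theorem pList_nodup : pList.Nodup := by decide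

theorem cy_of_cent : allLt 1152 (fun p => cyList.contains p ||
    !(Nat.beq (mul (cj p 624) (inv 624)) 0 && ([648, 864, 48] : List ℕ).any fun t =>
      Nat.beq (mul (cj p 648) (inv t)) 0)) = true := by decide +kernel

theorem centP_of_cent : allLt 1152 (fun p => cyList.contains p ||
    !(pList.all fun t => Nat.beq (mul (cj p t) (inv t)) 0)) = true := by decide +kernel

theorem centD_of_cent : allLt 1152 (fun p => !(Nat.beq (mul (cj p 624) (inv 624)) 0) ||
    !(Nat.beq (cube (cube p)) 0) || pList.contains p) = true := by decide +kernel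

theorem normP_sq : allLt 1152 (fun p =>
    !(pList.all fun t => pList.any fun t' => Nat.beq (mul (cj p t) (inv t')) 0) ||
    (pList.all fun t => Nat.beq (mul (cj p (cj p t)) (inv t)) 0)) = true := by decide +kernel

theorem cyList_pow : ∀ p ∈ cyList, cube (cube p) = 0 ∧ p ∈ pList ∨ cube (cube p) = 4 := by decide +kernel

theorem cyList_nodup_lt : cyList.Nodup ∧ ∀ p ∈ cyList, p < 1152 := by decide

/-- powers of an element on both sides of the list -/
theorem pList_span : ∀ t ∈ pList, t ≠ 0 → t ≠ 624 → t ≠ 936 → ∀ p ∈ pList,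
    ∃ a ∈ ([0, 624, 936] : List ℕ), ∃ b ∈ ([0, t, mul t t] : List ℕ), p = mul a b := by decide +kernel

theorem pList_cases : ∀ t ∈ pList, t ∈ ([0, 624, 936] : List ℕ) ∨
    ∃ a ∈ ([0, 624, 936] : List ℕ), t = mul a 648 ∨ t = mul a (inv 648) := by decide +kernel

theorem eq_of_mul_self_odd {G : Type*} [Group G] {x : G} (h : x * x = 1) (ho : Odd (orderOf x)) : x = 1 := by
  have h2 : orderOf x ∣ 2 := orderOf_dvd_of_pow_eq_one (by rw [pow_two]; exact h)
  rcases (Nat.dvd_prime Nat.prime_two).1 h2 with h3 | h3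
  · exact orderOf_eq_one_iff.1 h3
  · rw [h3] at ho; exact absurd ho (by decide)

/-- splitting an element of a subgroup of odd order under an involution normalizing it -/
theorem exists_split {G : Type*} [Group G] {O : Subgroup G} (hO : ∀ x ∈ O, Odd (orderOf x)) {t : G}
    (ht : t * t = 1) (hn : ∀ x ∈ O, t * x * t ∈ O) {o : G} (ho : o ∈ O) :
    ∃ c ∈ O, ∃ n ∈ O, o = c * n ∧ t * c * t = c ∧ t * n * t = n⁻¹ := by
  have hti : t⁻¹ = t := inv_eq_of_mul_eq_one_right ht
  obtain ⟨a, ha_def⟩ : ∃ a, a = (t * o * t)⁻¹ * o := ⟨_, rfl⟩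
  have ha : a ∈ O := ha_def ▸ mul_mem (inv_mem (hn o ho)) ho
  obtain ⟨k, hk⟩ := hO a ha
  have hka : a ^ (2 * k + 1) = 1 := hk ▸ pow_orderOf_eq_one a
  have hinv : t * a * t = a⁻¹ := by
    rw [ha_def, mul_inv_rev ((t * o * t)⁻¹) o, inv_inv, mul_inv_rev, mul_inv_rev, hti]
    calc t * (t * (o⁻¹ * t) * o) * t = (t * t) * o⁻¹ * (t * o * t) := by group
      _ = _ := by rw [ht, one_mul]
  have hpow : ∀ j : ℕ, t * a ^ j * t = (a ^ j)⁻¹ := fun j => by
    have h := conj_pow (i := j) (a := t) (b := a)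
    rw [hti] at h
    rw [← h, hinv, inv_pow]
  refine ⟨o * (a ^ (k + 1))⁻¹, mul_mem ho (inv_mem (pow_mem ha _)), a ^ (k + 1), pow_mem ha _,
    by rw [inv_mul_cancel_right], ?_, hpow _⟩
  have h1 : t * o * t = o * a⁻¹ := by rw [ha_def]; group
  calc t * (o * (a ^ (k + 1))⁻¹) * t = t * o * t * (t * a ^ (k + 1) * t)⁻¹ := by
        rw [mul_inv_rev, mul_inv_rev, hti]
        calc _ = t * o * ((t * t) * (a ^ (k + 1))⁻¹) * t := by rw [ht, one_mul]; group
          _ = _ := by group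
    _ = o * (a⁻¹ * a ^ (k + 1)) := by rw [h1, hpow, inv_inv, mul_assoc]
    _ = o * (a ^ (k + 1))⁻¹ := by
      congr 1
      refine eq_inv_of_mul_eq_one_left ?_
      rw [mul_assoc, ← pow_add, show k + 1 + (k + 1) = 2 * k + 1 + 1 by omega, pow_succ, hka, one_mul,
        inv_mul_cancel]

namespace Frame

variable {G : Type*} [Group G] (F : Frame G)

theorem ev_comm {p q : ℕ} (hp : p < 1152) (hq : q < 1152) (h : mul p q = mul q p) : Commute (F.ev p) (F.ev q) := by
  rw [Commute, SemiconjBy, ← F.toHRel.ev_mul hp hq, h, F.toHRel.ev_mul hq hp]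

/-- the subgroup of order nine -/
def pSub : Subgroup G where
  carrier := {x | ∃ p ∈ pList, x = F.ev p}
  one_mem' := ⟨0, by decide, (F.toHRel.ev_zero).symm⟩
  mul_mem' := by
    rintro _ _ ⟨a, ha, rfl⟩ ⟨b, hb, rfl⟩
    exact ⟨mul a b, ((pList_ok a ha).2.2.2.2.2 b hb).1,
      (F.toHRel.ev_mul (pList_ok a ha).2.1 (pList_ok b hb).2.1).symm⟩
  inv_mem' := by
    rintro _ ⟨a, ha, rfl⟩
    exact ⟨inv a, (pList_ok a ha).1, (F.toHRel.ev_inv (pList_ok a ha).2.1).symm⟩

theorem ev_eq {p q : ℕ} (hp : p ∈ pList) (hq : q ∈ pList) (h : F.ev p = F.ev q) : p = q := by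
  have h0 : ∀ a ∈ pList, ∀ b ∈ pList, mul a (inv b) = 0 → a = b := by decide +kernel
  exact h0 p hp q hq (F.ev_inj (pList_ok p hp).2.1 (pList_ok q hq).2.1 h)

theorem card_pSub : Nat.card F.pSub = 9 := by
  let f : Fin 9 → F.pSub := fun i => ⟨F.ev pList[i.1], _, List.getElem_mem i.2, rfl⟩
  have hb : Function.Bijective f := by
    refine ⟨fun a b h => Fin.ext ((List.Nodup.getElem_inj_iff pList_nodup).1
      (F.ev_eq (List.getElem_mem a.2) (List.getElem_mem b.2) (congrArg Subtype.val h))), ?_⟩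
    rintro ⟨_, p, hp, rfl⟩
    obtain ⟨i, hi, rfl⟩ := List.mem_iff_getElem.1 hp
    exact ⟨⟨i, hi⟩, rfl⟩
  rw [← Nat.card_eq_of_bijective f hb, Nat.card_fin]

theorem z_ev : F.ev 4 * F.ev 4 = 1 ∧ F.ev 4 ≠ 1 := by
  refine ⟨?_, fun h => absurd (F.inj 4 (by omega) h) (by decide)⟩
  rw [← F.toHRel.ev_mul (by omega) (by omega), show mul 4 4 = 0 by decide +kernel, F.toHRel.ev_zero]

/-- a subgroup meeting the involution centralizer in at most 18 elements of this shape has small 2-part -/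
theorem not_four_dvd [Finite G] (K : Subgroup G) (hz : F.ev 4 ∈ K)
    (hK : ∀ p, p < 1152 → F.ev p ∈ K → p ∈ cyList) : ¬ 4 ∣ Nat.card K := by
  intro h4
  haveI : Fact (Nat.Prime 2) := ⟨Nat.prime_two⟩
  let z' : K := ⟨F.ev 4, hz⟩
  have hz' : orderOf z' = 2 := by
    rw [← Subgroup.orderOf_coe]; exact orderOf_eq_prime (by rw [pow_two]; exact F.z_ev.1) F.z_ev.2
  have hc : Nat.card (Subgroup.zpowers z') = 2 ^ 1 := by rw [Nat.card_zpowers, hz', pow_one]
  obtain ⟨S, hS, hle⟩ := Sylow.exists_subgroup_card_pow_prime_le 2 (m := 2) (by simpa using h4)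
    (Subgroup.zpowers z') hc (by omega)
  haveI : IsMulCommutative S := IsPGroup.isMulCommutative_of_card_eq_prime_sq (p := 2) hS
  have hall : ∀ x ∈ S, x = 1 ∨ x = z' := by
    intro x hx
    have hxz : (x : G) * F.f 1 = F.f 1 * x := by
      rw [← F.toHRel.ev_z]
      exact congrArg (fun a : S => ((a : K) : G))
        (mul_comm' (⟨x, hx⟩ : S) ⟨z', hle (Subgroup.mem_zpowers z')⟩)
    obtain ⟨p, hp, e⟩ := F.cent x hxz
    have hpc := hK p hp (e ▸ x.2)
    have h4' : x ^ 4 = 1 := by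
      have := orderOf_dvd_natCard (⟨x, hx⟩ : S)
      rw [Subgroup.orderOf_mk, hS] at this
      exact orderOf_dvd_iff_pow_eq_one.1 this
    have hmem : mul p (mul p (mul p p)) = 0 := F.inj _ (HRel.mul_lt hp (HRel.mul_lt hp (HRel.mul_lt hp hp))) (by
      rw [F.toHRel.ev_mul hp (HRel.mul_lt hp (HRel.mul_lt hp hp)), F.toHRel.ev_mul hp (HRel.mul_lt hp hp),
        F.toHRel.ev_mul hp hp, ← e]
      have := congrArg (fun a : K => (a : G)) h4'
      simpa [pow_succ, mul_assoc] using this)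
    have hh : ∀ q ∈ cyList, mul q (mul q (mul q q)) = 0 → q = 0 ∨ q = 4 := by decide +kernel
    rcases hh p hpc hmem with rfl | rfl
    · left; exact Subtype.ext (by rw [e]; exact F.toHRel.ev_zero)
    · right; exact Subtype.ext e
  have : Nat.card S ≤ Nat.card (Subgroup.zpowers z') := Subgroup.card_le_of_le fun x hx => by
    rcases hall x hx with rfl | rfl
    · exact one_mem _
    · exact Subgroup.mem_zpowers z'
  rw [hS, hc] at this
  norm_num at this

theorem conj_eq_ev {p : ℕ} (hp : p < 1152) {a b : ℕ} (ha : a < 1152) (hb : b < 1152)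
    (h : F.ev p * F.ev a * (F.ev p)⁻¹ = F.ev b) : Nat.beq (mul (cj p a) (inv b)) 0 = true := by
  rw [← F.toHRel.ev_cj hp ha] at h
  rw [F.ev_inj (p := cj p a) (HRel.mul_lt (HRel.mul_lt hp ha) (HRel.inv_lt hp)) hb h]; rfl

theorem pSub_le : ∀ x ∈ F.pSub, x * F.ev 624 = F.ev 624 * x := by
  rintro _ ⟨p, hp, rfl⟩
  exact (F.ev_comm (pList_ok p hp).2.1 (by omega) (pList_ok p hp).2.2.2.1).eq

/-- the Sylow 3-subgroup of the centralizer of `ev 624` has order at least 27 -/
theorem dvd_card_cent [Finite G] : 27 ∣ Nat.card (Subgroup.centralizer ({F.ev 624} : Set G)) := by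
  by_contra h27
  haveI : Fact (Nat.Prime 3) := ⟨Nat.prime_three⟩
  haveI : Fact (Nat.Prime 2) := ⟨Nat.prime_two⟩
  set d := F.ev 624
  set C := Subgroup.centralizer ({d} : Set G)
  have memC : ∀ {x : G}, x ∈ C ↔ d * x = x * d := fun {x} => by
    simp [C, Subgroup.mem_centralizer_iff]
  have hP : F.pSub ≤ C := fun x hx => memC.2 (F.pSub_le x hx).symm
  have h9 : 3 ^ 2 ∣ Nat.card C := by
    rw [show (3 : ℕ) ^ 2 = Nat.card F.pSub by rw [F.card_pSub]; norm_num]
    exact Subgroup.card_dvd_of_le hP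
  have hfac : (Nat.card C).factorization 3 = 2 := by
    have h1 := (Nat.Prime.pow_dvd_iff_le_factorization Nat.prime_three (Nat.card_pos.ne')).1 h9
    have h2 : ¬ 3 ≤ (Nat.card C).factorization 3 := fun h => h27
      ((Nat.Prime.pow_dvd_iff_le_factorization Nat.prime_three (Nat.card_pos.ne')).2 h)
    omega
  obtain ⟨hdW, he1, he2, hW3⟩ := F.local_identities
  set w := F.dW
  have hd3 : d * d * d = 1 := by
    show F.ev 624 * F.ev 624 * F.ev 624 = 1
    rw [← F.toHRel.ev_mul (by omega) (by omega), ← F.toHRel.ev_mul (HRel.mul_lt (by omega) (by omega)) (by omega),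
      show mul (mul 624 624) 624 = 0 by decide +kernel, F.toHRel.ev_zero]
  have hwd : w * d = d * w := mul_inv_eq_iff_eq_mul.1 hdW
  set R := Subgroup.closure ({d, w} : Set G)
  have hRC : R ≤ C := (Subgroup.closure_le _).2 (by
    rintro x (rfl | rfl)
    · exact memC.2 rfl
    · exact memC.2 hwd.symm)
  have hRcent : R ≤ Subgroup.centralizer (R : Set G) := by
    have h1 : R ≤ Subgroup.centralizer ({d, w} : Set G) := (Subgroup.closure_le _).2 (by
      rintro x (rfl | rfl) <;> refine Subgroup.mem_centralizer_iff.2 ?_ <;> rintro y (rfl | rfl) <;>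
        first | rfl | exact hwd | exact hwd.symm)
    rwa [show Subgroup.centralizer (R : Set G) = Subgroup.centralizer ({d, w} : Set G) from
      Subgroup.centralizer_closure _]
  have hR3 : ∀ x ∈ R, x ^ 3 = 1 := by
    intro x hx
    induction hx using Subgroup.closure_induction with
    | mem x hx => rcases hx with rfl | rfl <;> simpa [pow_succ] using (by assumption)
    | one => simp
    | mul a b ha hb iha ihb =>
      rw [(show Commute a b from (Subgroup.mem_centralizer_iff.1 (hRcent ha) b hb).symm).mul_pow, iha, ihb, mul_one]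
    | inv a _ iha => rw [inv_pow, iha, inv_one]
  have hRp : IsPGroup 3 (R.subgroupOf C) := fun ⟨x, hx⟩ => ⟨1, Subtype.ext (by
    rw [pow_one]; exact Subtype.ext (hR3 (x : G) hx))⟩
  obtain ⟨S, hS⟩ := hRp.exists_le_sylow
  let SP : Sylow 3 C := Sylow.ofCard (F.pSub.subgroupOf C) (by
    rw [Nat.card_congr (Subgroup.subgroupOfEquivOfLe hP).toEquiv, F.card_pSub, hfac]; norm_num)
  obtain ⟨c, hc⟩ := MulAction.exists_smul_eq C S SP
  have hin : ∀ x ∈ R, (c : G) * x * (c : G)⁻¹ ∈ F.pSub := by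
    intro x hx
    have h1 : MulAut.conj c ⟨x, hRC hx⟩ ∈ ((c • S : Sylow 3 C) : Subgroup C) :=
      Subgroup.mem_map_of_mem _ (hS (show (⟨x, hRC hx⟩ : C) ∈ R.subgroupOf C from hx))
    rw [hc, Sylow.coe_ofCard, Subgroup.mem_subgroupOf] at h1
    simpa using h1
  set n := (c : G) * F.eta * (c : G)⁻¹
  obtain ⟨p0, hp0, ep0⟩ := hin w (Subgroup.subset_closure (by simp))
  have hcd : (c : G) * d * (c : G)⁻¹ = d := by rw [← memC.1 c.2, mul_inv_cancel_right]
  have hn1 : n * d * n⁻¹ = F.ev p0 := by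
    calc n * d * n⁻¹ = n * ((c : G) * d * (c : G)⁻¹) * n⁻¹ := by rw [hcd]
      _ = (c : G) * (F.eta * d * F.eta⁻¹) * (c : G)⁻¹ := by simp only [n]; group
      _ = _ := by rw [he1, ← ep0]
  have hn2 : n * F.ev p0 * n⁻¹ = d⁻¹ := by
    calc n * F.ev p0 * n⁻¹ = (c : G) * (F.eta * w * F.eta⁻¹) * (c : G)⁻¹ := by rw [← ep0]; simp only [n]; group
      _ = ((c : G) * d * (c : G)⁻¹)⁻¹ := by rw [he2]; simp only [d]; group
      _ = d⁻¹ := by rw [hcd]
  have hwne : w * F.ev 4 ≠ F.ev 4 * w := by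
    intro h
    obtain ⟨h1, -⟩ := F.wv_conj [9, 0, 4, 3, 4, 8, 9, 9, 0, 4, 0, 4] (by decide) 4 (by decide)
    rw [show aW [9, 0, 4, 3, 4, 8, 9, 9, 0, 4, 0, 4] 4 = 2 by decide +kernel, F.wv_dW,
      h, mul_inv_cancel_right] at h1
    exact absurd (F.ev_inj (by omega) (by omega) h1) (by decide +kernel)
  have hp0d : ∀ a ∈ ([0, 624, 936] : List ℕ), p0 ≠ a := by
    intro a ha e
    refine hwne ?_
    have haP : a ∈ pList := by fin_cases ha <;> decide
    have hz : Commute (F.ev a) (F.ev 4) :=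
      F.ev_comm (pList_ok a haP).2.1 (by omega) (pList_ok a haP).2.2.2.2.1
    have hcw : w = F.ev a := by
      have h1 : w = (c : G)⁻¹ * F.ev p0 * (c : G) := by rw [← ep0]; group
      have hda : d * F.ev a = F.ev a * d := (F.pSub_le _ ⟨a, haP, rfl⟩).symm
      have hcc : Commute (c : G) (F.ev a) := by
        have hd' : Commute (c : G) d := (memC.1 c.2).symm
        fin_cases ha
        · exact (F.toHRel.ev_zero).symm ▸ Commute.one_right _
        · exact hd'
        · rw [show (936 : ℕ) = inv 624 by decide +kernel, F.toHRel.ev_inv (by omega)]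
          exact hd'.inv_right
      rw [h1, e, mul_assoc, ← hcc.eq, inv_mul_cancel_left]
    rw [hcw]; exact hz.eq
  -- `n` normalizes the subgroup of order nine and squares to inversion
  have hmap : ∀ t ∈ pList, ∃ t' ∈ pList, n * F.ev t * n⁻¹ = F.ev t' := by
    intro t ht
    obtain ⟨a, ha, b, hb, rfl⟩ := pList_span p0 hp0 (hp0d 0 (by simp)) (hp0d 624 (by simp)) (hp0d 936 (by simp)) t ht
    have h624 : (624 : ℕ) ∈ pList := by decide
    have haP : a ∈ pList := by fin_cases ha <;> decide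
    have hbP : b ∈ pList := by
      fin_cases hb
      · decide
      · exact hp0
      · exact ((pList_ok p0 hp0).2.2.2.2.2 p0 hp0).1
    have hx : ∀ {a b : G}, a ∈ F.pSub → b ∈ F.pSub → n * (a * b) * n⁻¹ = n * a * n⁻¹ * (n * b * n⁻¹) :=
      fun _ _ => by group
    have hd_in : n * d * n⁻¹ ∈ F.pSub := hn1 ▸ ⟨p0, hp0, rfl⟩
    have hp_in : n * F.ev p0 * n⁻¹ ∈ F.pSub := hn2 ▸ inv_mem ⟨624, h624, rfl⟩
    suffices n * (F.ev a * F.ev b) * n⁻¹ ∈ F.pSub by
      rw [F.toHRel.ev_mul (pList_ok a haP).2.1 (pList_ok b hbP).2.1]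
      exact this
    rw [hx ⟨a, haP, rfl⟩ ⟨b, hbP, rfl⟩]
    refine mul_mem ?_ ?_
    · fin_cases ha
      · rw [F.toHRel.ev_zero, mul_one, mul_inv_cancel]; exact one_mem _
      · exact hd_in
      · rw [show (936 : ℕ) = inv 624 by decide +kernel, F.toHRel.ev_inv (by omega),
          show n * d⁻¹ * n⁻¹ = (n * d * n⁻¹)⁻¹ by group]
        exact inv_mem hd_in
    · fin_cases hb
      · rw [F.toHRel.ev_zero, mul_one, mul_inv_cancel]; exact one_mem _
      · exact hp_in
      · rw [F.toHRel.ev_mul (pList_ok p0 hp0).2.1 (pList_ok p0 hp0).2.1, hx ⟨p0, hp0, rfl⟩ ⟨p0, hp0, rfl⟩]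
        exact mul_mem hp_in hp_in
  set K := Subgroup.centralizer (F.pSub : Set G)
  have hzK : F.ev 4 ∈ K := Subgroup.mem_centralizer_iff.2 (by
    rintro _ ⟨p, hp, rfl⟩
    exact (F.ev_comm (pList_ok p hp).2.1 (by omega) (pList_ok p hp).2.2.2.2.1).eq)
  have hK4 : ¬ 4 ∣ Nat.card K := F.not_four_dvd K hzK (fun p hp hpK => by
    have hall : (pList.all fun t => Nat.beq (mul (cj p t) (inv t)) 0) = true := List.all_eq_true.2 fun t ht =>
      F.conj_eq_ev hp (pList_ok t ht).2.1 (pList_ok t ht).2.1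
        (mul_inv_eq_iff_eq_mul.2 (Subgroup.mem_centralizer_iff.1 hpK _ ⟨t, ht, rfl⟩).symm)
    have := allLt_spec centP_of_cent p hp
    rw [hall] at this
    simpa using this)
  have hzn : n * F.ev 4 * n⁻¹ ∈ K := Subgroup.mem_centralizer_iff.2 (by
    intro x hx
    obtain ⟨t, ht, rfl⟩ := hx
    have hsurj : ∃ t' ∈ pList, n * F.ev t' * n⁻¹ = F.ev t := by
      let f : F.pSub → F.pSub := fun x => ⟨n * (x : G) * n⁻¹, by
        obtain ⟨_, p, hp, rfl⟩ := x
        obtain ⟨t', ht', e⟩ := hmap p hp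
        exact ⟨t', ht', e⟩⟩
      have hf : Function.Injective f := fun x y h => Subtype.ext (by simpa [f] using congrArg Subtype.val h)
      obtain ⟨⟨_, t', ht', rfl⟩, he⟩ := (Finite.injective_iff_surjective.1 hf) ⟨_, t, ht, rfl⟩
      exact ⟨t', ht', congrArg Subtype.val he⟩
    obtain ⟨t', ht', e⟩ := hsurj
    rw [← e]
    have := Subgroup.mem_centralizer_iff.1 hzK _ ⟨t', ht', rfl⟩
    calc n * F.ev t' * n⁻¹ * (n * F.ev 4 * n⁻¹) = n * (F.ev t' * F.ev 4) * n⁻¹ := by group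
      _ = _ := by rw [this]; group)
  obtain ⟨k, hk⟩ : ∃ k : K, (k : G) * (n * F.ev 4 * n⁻¹) * (k : G)⁻¹ = F.ev 4 := by
    have hfac2 : (Nat.card K).factorization 2 = 1 := by
      have hz2 : orderOf (F.ev 4) = 2 := orderOf_eq_prime (by rw [pow_two]; exact F.z_ev.1) F.z_ev.2
      have h2 : 2 ^ 1 ∣ Nat.card K := by
        rw [pow_one, ← hz2]; simpa using orderOf_dvd_natCard (⟨F.ev 4, hzK⟩ : K)
      have h1 := (Nat.Prime.pow_dvd_iff_le_factorization Nat.prime_two (Nat.card_pos.ne')).1 h2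
      have h3 : ¬ 2 ≤ (Nat.card K).factorization 2 := fun h => hK4
        ((Nat.Prime.pow_dvd_iff_le_factorization Nat.prime_two (Nat.card_pos.ne')).2 h)
      omega
    have hzc : ∀ x : G, x ∈ K → x * x = 1 → x ≠ 1 → Nat.card (Subgroup.zpowers x) = 2 ^ 1 := fun x _ h1 h2 => by
      rw [Nat.card_zpowers, orderOf_eq_prime (by rw [pow_two]; exact h1) h2, pow_one]
    have hq : n * F.ev 4 * n⁻¹ * (n * F.ev 4 * n⁻¹) = 1 := by
      calc _ = n * (F.ev 4 * F.ev 4) * n⁻¹ := by group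
        _ = 1 := by rw [F.z_ev.1, mul_one, mul_inv_cancel]
    have hq1 : n * F.ev 4 * n⁻¹ ≠ 1 := fun h => F.z_ev.2 (by simpa using h)
    obtain ⟨k, hkK, hk⟩ := U43.exists_conj_of_card hfac2 (Subgroup.zpowers_le.2 hzn) (Subgroup.zpowers_le.2 hzK)
      (hzc _ hzn hq hq1) (hzc _ hzK F.z_ev.1 F.z_ev.2)
    have hm : k * (n * F.ev 4 * n⁻¹) * k⁻¹ ∈ Subgroup.zpowers (F.ev 4) :=
      hk ▸ Subgroup.mem_map_of_mem _ (Subgroup.mem_zpowers _)
    obtain ⟨i, hi⟩ := Subgroup.mem_zpowers_iff.1 hm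
    refine ⟨⟨k, hkK⟩, ?_⟩
    rcases Int.even_or_odd i with ⟨j, rfl⟩ | ⟨j, rfl⟩
    · rw [← two_mul, zpow_mul, zpow_two, F.z_ev.1, one_zpow] at hi
      exact absurd (conj_eq_one_iff.1 hi.symm) hq1
    · rw [zpow_add, zpow_one, zpow_mul, zpow_two, F.z_ev.1, one_zpow, one_mul] at hi
      exact hi.symm
  obtain ⟨h, hh, eh⟩ := F.cent ((k : G) * n) (by
    rw [← F.toHRel.ev_z]
    exact mul_inv_eq_iff_eq_mul.1 (by nth_rewrite 2 [← hk]; group))
  have hact : ∀ t ∈ pList, ∀ t' ∈ pList, n * F.ev t * n⁻¹ = F.ev t' → F.ev h * F.ev t * (F.ev h)⁻¹ = F.ev t' := by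
    intro t _ t' ht' e
    rw [← eh, show (k : G) * n * F.ev t * ((k : G) * n)⁻¹ = (k : G) * (n * F.ev t * n⁻¹) * (k : G)⁻¹ by group, e,
      ← (Subgroup.mem_centralizer_iff.1 k.2 _ ⟨t', ht', rfl⟩), mul_inv_cancel_right]
  have hN : (pList.all fun t => pList.any fun t' => Nat.beq (mul (cj h t) (inv t')) 0) = true :=
    List.all_eq_true.2 fun t ht => by
      obtain ⟨t', ht', e⟩ := hmap t ht
      exact List.any_eq_true.2 ⟨t', ht', F.conj_eq_ev hh (pList_ok t ht).2.1 (pList_ok t' ht').2.1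
        (hact t ht t' ht' e)⟩
  have hsq := allLt_spec normP_sq h hh
  rw [hN, Bool.not_true, Bool.false_or] at hsq
  have h624 : (624 : ℕ) ∈ pList := by decide
  have e1 := hact 624 h624 p0 hp0 hn1
  have e2 := hact p0 hp0 (inv 624) (pList_ok 624 h624).1 (by rw [F.toHRel.ev_inv (by omega)]; exact hn2)
  have hz := Nat.eq_of_beq_eq_true (List.all_eq_true.1 hsq 624 h624)
  have h0 : F.ev (cj h (cj h 624)) = F.ev (inv 624) := by
    rw [F.toHRel.ev_cj (q := cj h 624) hh (HRel.mul_lt (HRel.mul_lt hh (by omega)) (HRel.inv_lt hh)),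
      F.toHRel.ev_cj hh (by omega), e1, e2]
  have hlt : cj h (cj h 624) < 1152 :=
    HRel.mul_lt (HRel.mul_lt hh (HRel.mul_lt (HRel.mul_lt hh (by omega)) (HRel.inv_lt hh))) (HRel.inv_lt hh)
  have h1 : F.ev (cj h (cj h 624)) = F.ev 624 := by
    rw [← mul_inv_eq_one, ← F.toHRel.ev_inv (by omega : 624 < 1152),
      ← F.toHRel.ev_mul hlt (HRel.inv_lt (by omega)), hz, F.toHRel.ev_zero]
  exact absurd (F.ev_eq h624 (pList_ok 624 h624).1 (h1.symm.trans h0)) (by decide +kernel)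

/-- two conjugate elements of order three in the centralizer of `ev 624` commute -/
theorem cent_comm [Finite G] :
    F.ev 648 * (F.dW * F.ev 648 * F.dW⁻¹) = F.dW * F.ev 648 * F.dW⁻¹ * F.ev 648 := by
  classical
  haveI : Fact (Nat.Prime 3) := ⟨Nat.prime_three⟩
  obtain ⟨hdW, -, -, hW3⟩ := F.local_identities
  set d := F.ev 624
  set y := F.ev 648
  set w := F.dW
  have hwd : Commute w d := mul_inv_eq_iff_eq_mul.1 hdW
  have hin : ∀ p ∈ pList, F.ev p ∈ F.pSub := fun p hp => ⟨p, hp, rfl⟩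
  have hdP : d ∈ F.pSub := hin 624 (by decide)
  have hyP : y ∈ F.pSub := hin 648 (by decide)
  have hcy : Commute d y := F.ev_comm (by omega) (by omega) (by decide +kernel)
  -- the stabilizer of the coset `y * <d>`
  have hy3 : F.ev 864 = y * d ∧ F.ev 48 = y * d⁻¹ := by
    refine ⟨?_, ?_⟩
    · rw [← F.toHRel.ev_mul (by omega) (by omega)]; congr 1
    · rw [← F.toHRel.ev_inv (by omega), ← F.toHRel.ev_mul (by omega) (HRel.inv_lt (by omega))]; congr 1
  let Cy : Subgroup G :=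
    { carrier := {c | Commute c d ∧ ∃ k : ℤ, c * y * c⁻¹ = y * d ^ k}
      one_mem' := ⟨Commute.one_left d, 0, by simp⟩
      mul_mem' := by
        rintro a b ⟨ha, i, hi⟩ ⟨hb, j, hj⟩
        refine ⟨ha.mul_left hb, i + j, ?_⟩
        calc a * b * y * (a * b)⁻¹ = a * (b * y * b⁻¹) * a⁻¹ := by group
          _ = a * y * a⁻¹ * (a * d ^ j * a⁻¹) := by rw [hj]; group
          _ = _ := by rw [hi, (ha.zpow_right j).eq, mul_inv_cancel_right, mul_assoc, ← zpow_add]
      inv_mem' := by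
        rintro a ⟨ha, i, hi⟩
        refine ⟨ha.inv_left, -i, ?_⟩
        have h1 : y = a⁻¹ * (y * d ^ i) * a := by rw [← hi]; group
        calc a⁻¹ * y * a⁻¹⁻¹ = a⁻¹ * (y * d ^ i) * (d ^ (-i) * a) := by group
          _ = a⁻¹ * (y * d ^ i) * (a * d ^ (-i)) := by rw [(ha.zpow_right (-i)).eq]
          _ = a⁻¹ * (y * d ^ i) * a * d ^ (-i) := by group
          _ = y * d ^ (-i) := by rw [← h1] }
  have hd3 : d ^ (3 : ℕ) = 1 := by
    show F.ev 624 ^ 3 = 1
    rw [pow_succ, pow_succ, pow_one, ← F.toHRel.ev_mul (by omega) (by omega),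
      ← F.toHRel.ev_mul (HRel.mul_lt (by omega) (by omega)) (by omega),
      show mul (mul 624 624) 624 = 0 by decide +kernel, F.toHRel.ev_zero]
  have hdk : ∀ k : ℤ, d ^ k = 1 ∨ d ^ k = d ∨ d ^ k = d⁻¹ := by
    intro k
    have hd3' : d ^ (3 : ℤ) = 1 := by exact_mod_cast hd3
    rw [← Int.emod_add_mul_ediv k 3, zpow_add, zpow_mul, hd3', one_zpow, mul_one]
    have h1 := Int.emod_nonneg k (by norm_num : (3 : ℤ) ≠ 0)
    have h2 := Int.emod_lt_of_pos k (by norm_num : (0 : ℤ) < 3)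
    rcases (show k % 3 = 0 ∨ k % 3 = 1 ∨ k % 3 = 2 by omega) with h | h | h <;> rw [h]
    · simp
    · simp
    · right; right
      refine eq_inv_of_mul_eq_one_left ?_
      rw [← zpow_add_one]
      exact hd3'
  have hcy_list : ∀ p, p < 1152 → F.ev p ∈ Cy → p ∈ cyList := by
    rintro p hp ⟨h1, k, hk⟩
    have ha := F.conj_eq_ev hp (by omega) (by omega) (mul_inv_eq_iff_eq_mul.2 h1.eq)
    have hb : (([648, 864, 48] : List ℕ).any fun t => Nat.beq (mul (cj p 648) (inv t)) 0) = true := by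
      rcases hdk k with h | h | h <;> rw [h] at hk
      · exact List.any_eq_true.2 ⟨648, by simp, F.conj_eq_ev hp (by omega) (by omega) (by simpa using hk)⟩
      · exact List.any_eq_true.2 ⟨864, by simp, F.conj_eq_ev hp (by omega) (by omega) (hk.trans hy3.1.symm)⟩
      · exact List.any_eq_true.2 ⟨48, by simp, F.conj_eq_ev hp (by omega) (by omega) (hk.trans hy3.2.symm)⟩
    have := allLt_spec cy_of_cent p hp
    rw [ha, hb] at this
    simpa using this
  have hPC : ∀ p ∈ pList, F.ev p ∈ Cy := fun p hp =>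
    ⟨F.pSub_le _ (hin p hp), 0, by
      rw [(F.ev_comm (pList_ok p hp).2.1 (by omega) ((pList_ok p hp).2.2.2.2.2 648 (by decide)).2).eq,
        mul_inv_cancel_right, zpow_zero, mul_one]⟩
  have hzCy : F.ev 4 ∈ Cy := by
    refine ⟨F.ev_comm (by omega) (by omega) (by decide +kernel), 0, ?_⟩
    rw [(F.ev_comm (p := 4) (q := 648) (by omega) (by omega) (by decide +kernel)).eq,
      mul_inv_cancel_right, zpow_zero, mul_one]
  -- a subgroup of order 27 inside
  have h27 : 27 ∣ Nat.card Cy := by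
    have hP : F.pSub ≤ Subgroup.centralizer ({d} : Set G) := fun x hx => Subgroup.mem_centralizer_iff.2
      fun t ht => by rw [Set.mem_singleton_iff] at ht; rw [ht]; exact (F.pSub_le x hx).symm
    obtain ⟨R, hR, hle⟩ := Sylow.exists_subgroup_card_pow_prime_le 3 (m := 3)
      (by simpa using F.dvd_card_cent) (F.pSub.subgroupOf (Subgroup.centralizer ({d} : Set G)))
      (n := 2) (by rw [Nat.card_congr (Subgroup.subgroupOfEquivOfLe hP).toEquiv, F.card_pSub]; norm_num) (by omega)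
    set N := (F.pSub.subgroupOf (Subgroup.centralizer ({d} : Set G))).subgroupOf R
    haveI hN : N.Normal := Subgroup.normal_of_index_eq_minFac_card (by
      rw [hR, Nat.Prime.pow_minFac Nat.prime_three (by omega)]
      have h1 := Subgroup.card_mul_index N
      rw [Nat.card_congr (Subgroup.subgroupOfEquivOfLe hle).toEquiv,
        Nat.card_congr (Subgroup.subgroupOfEquivOfLe hP).toEquiv, F.card_pSub, hR] at h1
      omega)
    suffices hRC : R.map (Subgroup.centralizer ({d} : Set G)).subtype ≤ Cy by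
      have h1 := Subgroup.card_dvd_of_le hRC
      rwa [Nat.card_congr (Subgroup.equivMapOfInjective R _ (Subgroup.subtype_injective _)).symm.toEquiv, hR] at h1
    rintro _ ⟨r, hr, rfl⟩
    have hrd : Commute (r : G) d := (Subgroup.mem_centralizer_iff.1 r.2 d rfl).symm
    have h := hN.conj_mem ⟨⟨y, hP hyP⟩, hle (show y ∈ F.pSub from hyP)⟩
      (show y ∈ F.pSub from hyP) ⟨r, hr⟩
    have hconj : (r : G) * y * (r : G)⁻¹ ∈ F.pSub := h
    obtain ⟨t, ht, et⟩ := hconj
    refine ⟨hrd, ?_⟩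
    show ∃ k : ℤ, (r : G) * y * (r : G)⁻¹ = y * d ^ k
    have hD : ∀ a ∈ ([0, 624, 936] : List ℕ), ∃ k : ℤ, F.ev a = d ^ k := by
      intro a ha
      fin_cases ha
      · exact ⟨0, F.toHRel.ev_zero.trans (zpow_zero d).symm⟩
      · exact ⟨1, (zpow_one d).symm⟩
      · exact ⟨-1, by rw [show (936 : ℕ) = inv 624 by decide +kernel, F.toHRel.ev_inv (by omega), zpow_neg_one]⟩
    have hodd : Odd (orderOf (r : G)) := by
      have h1 : orderOf r ∣ 3 ^ 3 := by
        rw [← hR]; exact Subgroup.orderOf_dvd_natCard R hr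
      rw [Subgroup.orderOf_coe]
      exact Odd.of_dvd_nat (Odd.pow (by decide)) h1
    have hyd : ∀ k : ℤ, y ≠ d ^ k := by
      intro k hk
      have h648 : (648 : ℕ) ∈ pList := by decide
      rcases hdk k with h | h | h <;> rw [h] at hk
      · exact absurd (F.ev_eq h648 (by decide) (hk.trans F.toHRel.ev_zero.symm)) (by omega)
      · exact absurd (F.ev_eq h648 (by decide) hk) (by omega)
      · exact absurd (F.ev_eq h648 (by decide) (hk.trans ((F.toHRel.ev_inv (by omega : 624 < 1152)).symm))) (by decide +kernel)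
    rcases pList_cases t ht with hc | ⟨a, ha, rfl | rfl⟩
    · obtain ⟨k, hk⟩ := hD t hc
      refine absurd ?_ (hyd k)
      calc y = (r : G)⁻¹ * ((r : G) * y * (r : G)⁻¹) * r := by group
        _ = (r : G)⁻¹ * (d ^ k * r) := by rw [et, hk, mul_assoc]
        _ = d ^ k := by rw [← (hrd.zpow_right k).eq, inv_mul_cancel_left]
    · obtain ⟨k, hk⟩ := hD a ha
      refine ⟨k, ?_⟩
      rw [et, F.toHRel.ev_mul (by fin_cases ha <;> omega) (by omega), hk]
      exact (hcy.zpow_left k).eq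
    · obtain ⟨k, hk⟩ := hD a ha
      rw [F.toHRel.ev_mul (by fin_cases ha <;> omega) (HRel.inv_lt (by omega)), hk, F.toHRel.ev_inv (by omega)] at et
      change _ = d ^ k * y⁻¹ at et
      have hy' : (r : G) * y⁻¹ * (r : G)⁻¹ = y * d ^ (-k) := by
        calc _ = ((r : G) * y * (r : G)⁻¹)⁻¹ := by group
          _ = _ := by rw [et]; group
      have h2 : (r : G) * r * y * ((r : G) * r)⁻¹ = y := by
        calc _ = (r : G) * ((r : G) * y * (r : G)⁻¹) * (r : G)⁻¹ := by group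
          _ = (r : G) * d ^ k * (r : G)⁻¹ * ((r : G) * y⁻¹ * (r : G)⁻¹) := by rw [et]; group
          _ = d ^ k * (y * d ^ (-k)) := by rw [(hrd.zpow_right k).eq, mul_inv_cancel_right, hy']
          _ = d ^ k * (d ^ (-k) * y) := by rw [(hcy.zpow_left (-k)).eq]
          _ = y := by group
      have h3 : (r : G) * y * (r : G)⁻¹ = y := by
        obtain ⟨j, hj⟩ := hodd
        have hc2 : Commute ((r : G) * r) y := mul_inv_eq_iff_eq_mul.1 h2
        have hrr : (r : G) = ((r : G) * r) ^ (j + 1) := by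
          rw [← pow_two, ← pow_mul, show 2 * (j + 1) = (2 * j + 1) + 1 by omega, pow_succ, ← hj, pow_orderOf_eq_one,
            one_mul]
        rw [hrr]
        exact mul_inv_eq_iff_eq_mul.2 (hc2.pow_left _).eq
      exact ⟨0, by simpa using h3⟩
  -- the normal subgroup of odd order
  have hev2 : 2 ∣ Nat.card Cy := by
    have h := orderOf_dvd_natCard (⟨F.ev 4, hzCy⟩ : Cy)
    rwa [Subgroup.orderOf_mk, orderOf_eq_prime (p := 2) (by rw [pow_two]; exact F.z_ev.1) F.z_ev.2] at h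
  obtain ⟨m, hm⟩ := hev2
  have hmo : Odd m := by
    rcases Nat.even_or_odd m with ⟨j, rfl⟩ | h
    · exact absurd ⟨j, by omega⟩ (F.not_four_dvd Cy hzCy hcy_list)
    · exact h
  obtain ⟨O', hO'⟩ := Perm.LW.exists_index_two hmo hm
  have hidx : O'.index = 2 := by
    have := Subgroup.card_mul_index O'
    rw [hO', hm] at this
    exact Nat.eq_of_mul_eq_mul_left (hmo.pos) (by rw [this]; ring)
  haveI := Subgroup.normal_of_index_eq_two hidx
  set O := O'.map Cy.subtype
  have hOle : O ≤ Cy := Subgroup.map_subtype_le _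
  have hOodd : ∀ x ∈ O, Odd (orderOf x) := by
    rintro _ ⟨x, hx, rfl⟩
    rw [Subgroup.coe_subtype, Subgroup.orderOf_coe]
    exact Odd.of_dvd_nat (hO' ▸ hmo) (Subgroup.orderOf_dvd_natCard O' hx)
  have hOmem : ∀ x ∈ Cy, Odd (orderOf x) → x ∈ O := by
    intro x hx ho
    refine ⟨⟨x, hx⟩, ?_, rfl⟩
    obtain ⟨j, hj⟩ := ho
    have h1 : (⟨x, hx⟩ : Cy) ^ (2 * j + 1) = 1 := Subtype.ext (by
      rw [SubgroupClass.coe_pow, ← hj]; exact pow_orderOf_eq_one x)
    have h2 : (⟨x, hx⟩ : Cy) * ⟨x, hx⟩ ∈ O' := Subgroup.mul_self_mem_of_index_two hidx _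
    have h3 : ((⟨x, hx⟩ : Cy) * ⟨x, hx⟩) ^ (j + 1) ∈ O' := pow_mem h2 _
    rwa [← pow_two, ← pow_mul, show 2 * (j + 1) = (2 * j + 1) + 1 by omega, pow_succ, h1, one_mul] at h3
  -- the four group acting
  have hzO : ∀ x ∈ O, F.ev 4 * x * F.ev 4 ∈ O := fun x hx => by
    refine hOmem _ (mul_mem (mul_mem hzCy (hOle hx)) hzCy) ?_
    rw [show F.ev 4 * x * F.ev 4 = F.ev 4 * x * (F.ev 4)⁻¹ by rw [inv_eq_of_mul_eq_one_right F.z_ev.1],
      ← MulAut.conj_apply, MulEquiv.orderOf_eq]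
    exact hOodd x hx
  have hinvs : ∀ t ∈ ([2, 6] : List ℕ), F.ev t * F.ev t = 1 ∧ Commute (F.ev t) d ∧
      F.ev t * y * (F.ev t)⁻¹ = y⁻¹ ∧ Commute (F.ev t) (F.ev 4) := by
    intro t ht
    have h : ∀ t ∈ ([2, 6] : List ℕ), t < 1152 ∧ mul t t = 0 ∧ mul t 624 = mul 624 t ∧ cj t 648 = inv 648 ∧
        mul t 4 = mul 4 t := by decide +kernel
    obtain ⟨h0, h1, h2, h3, h4⟩ := h t ht
    refine ⟨by rw [← F.toHRel.ev_mul h0 h0, h1, F.toHRel.ev_zero], F.ev_comm h0 (by omega) h2, ?_,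
      F.ev_comm h0 (by omega) h4⟩
    rw [← F.toHRel.ev_cj h0 (by omega), h3, F.toHRel.ev_inv (by omega)]
  have heO : ∀ t ∈ ([2, 6] : List ℕ), ∀ x ∈ O, F.ev t * x * F.ev t ∈ O := by
    intro t ht x hx
    obtain ⟨h1, h2, h3, -⟩ := hinvs t ht
    have hti : (F.ev t)⁻¹ = F.ev t := inv_eq_of_mul_eq_one_right h1
    obtain ⟨hxd, k, hk⟩ := hOle hx
    refine hOmem _ ⟨(h2.mul_left hxd).mul_left h2, -k, ?_⟩ ?_
    · rw [hti] at h3
      calc F.ev t * x * F.ev t * y * (F.ev t * x * F.ev t)⁻¹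
          = F.ev t * (x * (F.ev t * y * (F.ev t)⁻¹) * x⁻¹) * (F.ev t)⁻¹ := by group
        _ = F.ev t * (x * y * x⁻¹)⁻¹ * (F.ev t)⁻¹ := by rw [hti, h3]; group
        _ = F.ev t * (d ^ (-k) * y⁻¹) * (F.ev t)⁻¹ := by rw [hk]; group
        _ = d ^ (-k) * (F.ev t * y * (F.ev t)⁻¹)⁻¹ := by
          rw [← mul_assoc, (h2.zpow_right (-k)).eq]; group
        _ = _ := by rw [hti, h3, inv_inv, (hcy.zpow_left (-k)).eq]
    · rw [show F.ev t * x * F.ev t = F.ev t * x * (F.ev t)⁻¹ by rw [hti], ← MulAut.conj_apply, MulEquiv.orderOf_eq]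
      exact hOodd x hx
  have hfixz : ∀ x ∈ O, F.ev 4 * x * F.ev 4 = x → x ∈ F.pSub := by
    intro x hx hxz
    have hc : x * F.ev 4 = F.ev 4 * x := by
      calc x * F.ev 4 = F.ev 4 * x * F.ev 4 * F.ev 4 := by rw [hxz]
        _ = _ := by rw [mul_assoc _ (F.ev 4), F.z_ev.1, mul_one]
    obtain ⟨p, hp, e⟩ := F.cent x (by rw [← F.toHRel.ev_z]; exact hc)
    have hpc := hcy_list p hp (e ▸ hOle hx)
    rcases cyList_pow p hpc with ⟨-, h⟩ | h
    · exact ⟨p, h, e⟩
    · exfalso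
      have h9 : x ^ 9 = F.ev 4 := by
        rw [← h, cube, cube, e, F.toHRel.ev_mul (HRel.mul_lt hp (HRel.mul_lt hp hp))
          (HRel.mul_lt (HRel.mul_lt hp (HRel.mul_lt hp hp)) (HRel.mul_lt hp (HRel.mul_lt hp hp))),
          F.toHRel.ev_mul (HRel.mul_lt hp (HRel.mul_lt hp hp)) (HRel.mul_lt hp (HRel.mul_lt hp hp)),
          F.toHRel.ev_mul hp (HRel.mul_lt hp hp), F.toHRel.ev_mul hp hp]
        simp [pow_succ, mul_assoc]
      have hd2 := (orderOf_pow_dvd (x := x) 9)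
      rw [h9, orderOf_eq_prime (p := 2) (by rw [pow_two]; exact F.z_ev.1) F.z_ev.2] at hd2
      exact Nat.not_even_iff_odd.2 (hOodd x hx) (even_iff_two_dvd.2 hd2)
  have hD3 : ∀ x : G, (∃ k : ℤ, x = d ^ k) → Commute x (F.ev 4) ∧ Commute x (F.ev 2) := by
    rintro x ⟨k, rfl⟩
    exact ⟨(F.ev_comm (p := 624) (q := 4) (by omega) (by omega) (by decide +kernel)).zpow_left k,
      ((hinvs 2 (by simp)).2.1.symm).zpow_left k⟩
  -- some element outside `<d>` is fixed by one of the two involutions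
  obtain ⟨t, ht, o, ho, hot, hoD⟩ : ∃ t ∈ ([2, 6] : List ℕ), ∃ o ∈ O, F.ev t * o * F.ev t = o ∧
      ∀ k : ℤ, o ≠ d ^ k := by
    by_contra hcon
    push Not at hcon
    have hOP : O ≤ F.pSub := by
      intro o ho
      obtain ⟨c1, hc1, m1, hm1, rfl, hc1z, hm1z⟩ := exists_split hOodd F.z_ev.1 hzO ho
      obtain ⟨he1, -, -, he4⟩ := hinvs 2 (by simp)
      obtain ⟨c', hc', n, hn, rfl, hc'e, hne⟩ := exists_split hOodd he1 (heO 2 (by simp)) hm1
      obtain ⟨k, hk⟩ := hcon 2 (by simp) c' hc' hc'e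
      obtain ⟨hc'z, -⟩ := hD3 c' ⟨k, hk⟩
      have hcn : Commute c' n := hk ▸ ((hOle hn).1.symm.zpow_left k)
      have hzi : (F.ev 4)⁻¹ = F.ev 4 := inv_eq_of_mul_eq_one_right F.z_ev.1
      have hei : (F.ev 2)⁻¹ = F.ev 2 := inv_eq_of_mul_eq_one_right he1
      have hzc : F.ev 4 * c' * F.ev 4 = c' := by rw [← hc'z.eq, mul_assoc, F.z_ev.1, mul_one]
      have hz1 : c' * (F.ev 4 * n * F.ev 4) = n⁻¹ * c'⁻¹ := by
        rw [← mul_inv_rev, ← hm1z]
        calc c' * (F.ev 4 * n * F.ev 4) = F.ev 4 * c' * F.ev 4 * (F.ev 4 * n * F.ev 4) := by rw [hzc]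
          _ = F.ev 4 * c' * (F.ev 4 * F.ev 4) * n * F.ev 4 := by group
          _ = _ := by rw [F.z_ev.1]; group
      have hz2 : F.ev 4 * n * F.ev 4 = c'⁻¹ * c'⁻¹ * n⁻¹ := by
        rw [mul_assoc c'⁻¹, (hcn.inv_left.inv_right).eq, ← hz1, inv_mul_cancel_left]
      have hmix : F.ev 2 * (F.ev 4 * n * F.ev 4) * F.ev 2 = (F.ev 4 * n * F.ev 4)⁻¹ := by
        calc _ = F.ev 2 * F.ev 4 * n * (F.ev 4 * F.ev 2) := by group
          _ = F.ev 4 * F.ev 2 * n * (F.ev 2 * F.ev 4) := congrArg₂ (fun a b => a * n * b) he4.eq he4.eq.symm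
          _ = F.ev 4 * (F.ev 2 * n * F.ev 2) * F.ev 4 := by group
          _ = _ := by rw [hne, mul_inv_rev, mul_inv_rev, hzi]; group
      have hce : Commute (F.ev 2) c' := (hD3 c' ⟨k, hk⟩).2.symm
      have hmix' : F.ev 2 * (F.ev 4 * n * F.ev 4) * F.ev 2 = c'⁻¹ * c'⁻¹ * n := by
        rw [hz2]
        calc F.ev 2 * (c'⁻¹ * c'⁻¹ * n⁻¹) * F.ev 2 = F.ev 2 * (c'⁻¹ * c'⁻¹) * n⁻¹ * F.ev 2 := by group
          _ = c'⁻¹ * c'⁻¹ * (F.ev 2 * n * (F.ev 2)⁻¹)⁻¹ := by
              rw [(hce.inv_right.mul_right hce.inv_right).eq, mul_inv_rev, mul_inv_rev, inv_inv, hei]; group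
          _ = _ := by rw [hei, hne, inv_inv]
      have hc4 : c' * c' * (c' * c') = 1 := by
        have h1 := hmix.symm.trans hmix'
        rw [hz2, mul_inv_rev, inv_inv, mul_inv_rev, inv_inv] at h1
        have h2 : n * (c' * c') = c'⁻¹ * c'⁻¹ * n := h1
        rw [(hcn.mul_left hcn).symm.eq] at h2
        have h3 := mul_right_cancel h2
        rw [← mul_inv_rev] at h3
        nth_rewrite 1 [h3]
        exact inv_mul_cancel _
      have hc'1 : c' = 1 := by
        have h2 : c' * c' = 1 := eq_of_mul_self_odd hc4 (by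
          rw [← pow_two]; exact Odd.of_dvd_nat (hOodd c' hc') (orderOf_pow_dvd 2))
        exact eq_of_mul_self_odd h2 (hOodd c' hc')
      subst hc'1
      rw [inv_one, one_mul, one_mul] at hz2
      have hfix6 : F.ev 6 * n * F.ev 6 = n := by
        rw [show F.ev 6 = F.ev 2 * F.ev 4 by rw [← F.toHRel.ev_mul (by omega) (by omega)]; congr 1]
        calc F.ev 2 * F.ev 4 * n * (F.ev 2 * F.ev 4) = F.ev 2 * F.ev 4 * n * (F.ev 4 * F.ev 2) :=
              congrArg (fun b => F.ev 2 * F.ev 4 * n * b) he4.eq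
          _ = F.ev 2 * (F.ev 4 * n * F.ev 4) * F.ev 2 := by group
          _ = n := by rw [hmix, hz2, inv_inv]
      obtain ⟨k', hk'⟩ := hcon 6 (by simp) n hn hfix6
      obtain ⟨hnz, -⟩ := hD3 n ⟨k', hk'⟩
      have hn1 : n = 1 := by
        refine eq_of_mul_self_odd ?_ (hOodd n hn)
        have : F.ev 4 * n * F.ev 4 = n := by rw [← hnz.eq, mul_assoc, F.z_ev.1, mul_one]
        rw [hz2] at this
        nth_rewrite 1 [← this]
        exact inv_mul_cancel n
      rw [hn1, mul_one, mul_one]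
      exact hfixz c1 hc1 hc1z
    have h1 := Subgroup.card_dvd_of_le hOP
    rw [Nat.card_congr (Subgroup.equivMapOfInjective O' _ (Subgroup.subtype_injective _)).symm.toEquiv, hO',
      F.card_pSub] at h1
    have h2 : 27 ∣ m := (Nat.Coprime.dvd_mul_left (by norm_num)).1 (hm ▸ h27)
    have := Nat.le_of_dvd (by norm_num) (h2.trans h1)
    omega
  -- the fixed element gives a conjugate of `y`
  obtain ⟨h4w, -⟩ := F.wv_conj [9, 0, 4, 3, 4, 8, 9, 9, 0, 4, 0, 4] (by decide) 4 (by decide)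
  obtain ⟨h2w, -⟩ := F.wv_conj [9, 0, 4, 3, 4, 8, 9, 9, 0, 4, 0, 4] (by decide) 2 (by decide)
  rw [show aW [9, 0, 4, 3, 4, 8, 9, 9, 0, 4, 0, 4] 4 = 2 by decide +kernel, F.wv_dW] at h4w
  rw [show aW [9, 0, 4, 3, 4, 8, 9, 9, 0, 4, 0, 4] 2 = 6 by decide +kernel, F.wv_dW] at h2w
  -- `v` maps `ev 4` to `ev t`
  obtain ⟨v, hvd, hvz, hvw⟩ : ∃ v : G, Commute v d ∧ v * F.ev 4 * v⁻¹ = F.ev t ∧ (v = w ∨ v = w * w) := by
    fin_cases ht
    · exact ⟨w, hwd, h4w, Or.inl rfl⟩
    · refine ⟨w * w, hwd.mul_left hwd, ?_, Or.inr rfl⟩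
      calc w * w * F.ev 4 * (w * w)⁻¹ = w * (w * F.ev 4 * w⁻¹) * w⁻¹ := by group
        _ = _ := by rw [h4w, h2w]
  obtain ⟨ht1, -, hty, -⟩ := hinvs t ht
  have hxz : v⁻¹ * o * v * F.ev 4 = F.ev 4 * (v⁻¹ * o * v) := by
    have hot' : o * F.ev t = F.ev t * o := by
      calc o * F.ev t = F.ev t * o * F.ev t * F.ev t := by rw [hot]
        _ = _ := by rw [mul_assoc _ (F.ev t), ht1, mul_one]
    calc v⁻¹ * o * v * F.ev 4 = v⁻¹ * (o * (v * F.ev 4 * v⁻¹)) * v := by group
      _ = v⁻¹ * ((v * F.ev 4 * v⁻¹) * o) * v := by rw [hvz, hot']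
      _ = _ := by group
  obtain ⟨p, hp, ep⟩ := F.cent (v⁻¹ * o * v) (by rw [← F.toHRel.ev_z]; exact hxz)
  have hpd : Commute (F.ev p) d := ep ▸ ((hvd.inv_left.mul_left (hOle ho).1).mul_left hvd)
  have hodd : Odd (orderOf (F.ev p)) := by
    rw [← ep, show v⁻¹ * o * v = v⁻¹ * o * v⁻¹⁻¹ by rw [inv_inv], ← MulAut.conj_apply, MulEquiv.orderOf_eq]
    exact hOodd o ho
  have hpP : p ∈ pList := by
    have ha := F.conj_eq_ev hp (by omega) (by omega) (mul_inv_eq_iff_eq_mul.2 hpd.eq)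
    have hb : cube (cube p) = 0 := by
      have h18 : ∀ q, q < 1152 → mul (cube (cube q)) (cube (cube q)) = 0 ∨
          Nat.beq (mul (cj q 624) (inv 624)) 0 = false := by
        intro q hq
        have h0 : allLt 1152 (fun q => Nat.beq (mul (cube (cube q)) (cube (cube q))) 0 ||
            !(Nat.beq (mul (cj q 624) (inv 624)) 0)) = true := by decide +kernel
        have := allLt_spec h0 q hq
        rw [Bool.or_eq_true] at this
        rcases this with h | h
        · exact Or.inl (Nat.eq_of_beq_eq_true h)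
        · exact Or.inr (by simpa using h)
      have hc : ∀ {q : ℕ}, q < 1152 → cube q < 1152 := fun {q} hq => HRel.mul_lt hq (HRel.mul_lt hq hq)
      have hce : ∀ {q : ℕ}, q < 1152 → F.ev (cube q) = F.ev q ^ 3 := fun {q} hq => by
        rw [cube, F.toHRel.ev_mul hq (HRel.mul_lt hq hq), F.toHRel.ev_mul hq hq]; simp [pow_succ, mul_assoc]
      refine F.inj _ (hc (hc hp)) (eq_of_mul_self_odd ?_ ?_)
      · rcases h18 p hp with h | h
        · rw [← F.toHRel.ev_mul (hc (hc hp)) (hc (hc hp)), h, F.toHRel.ev_zero]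
        · rw [ha] at h; cases h
      · rw [hce (hc hp), hce hp, ← pow_mul]
        exact Odd.of_dvd_nat hodd (orderOf_pow_dvd _)
    have := allLt_spec centD_of_cent p hp
    rw [ha, hb] at this
    simpa using this
  have hoe : o = v * F.ev p * v⁻¹ := by rw [← ep]; group
  have hD : ∀ a ∈ ([0, 624, 936] : List ℕ), ∃ k : ℤ, F.ev a = d ^ k := by
    intro a ha
    fin_cases ha
    · exact ⟨0, F.toHRel.ev_zero.trans (zpow_zero d).symm⟩
    · exact ⟨1, (zpow_one d).symm⟩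
    · exact ⟨-1, by rw [show (936 : ℕ) = inv 624 by decide +kernel, F.toHRel.ev_inv (by omega), zpow_neg_one]⟩
  have hvy : v * y * v⁻¹ ∈ Cy := by
    have hdC : ∀ k : ℤ, d ^ k ∈ Cy := fun k => zpow_mem (hPC 624 (by decide)) k
    rcases pList_cases p hpP with hc | ⟨a, ha, rfl | rfl⟩
    · obtain ⟨k, hk⟩ := hD p hc
      refine absurd ?_ (hoD k)
      rw [hoe, hk, (hvd.zpow_right k).eq, mul_inv_cancel_right]
    · obtain ⟨k, hk⟩ := hD a ha
      rw [F.toHRel.ev_mul (by fin_cases ha <;> omega) (by omega), hk] at hoe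
      change o = v * (d ^ k * y) * v⁻¹ at hoe
      have he : v * y * v⁻¹ = d ^ (-k) * o := by
        rw [hoe, ← mul_assoc v, (hvd.zpow_right k).eq]; group
      rw [he]
      exact mul_mem (hdC _) (hOle ho)
    · obtain ⟨k, hk⟩ := hD a ha
      rw [F.toHRel.ev_mul (by fin_cases ha <;> omega) (HRel.inv_lt (by omega)), hk, F.toHRel.ev_inv (by omega)] at hoe
      change o = v * (d ^ k * y⁻¹) * v⁻¹ at hoe
      have he : v * y * v⁻¹ = (d ^ (-k) * o)⁻¹ := by
        rw [hoe, ← mul_assoc v, (hvd.zpow_right k).eq]; group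
      rw [he]
      exact inv_mem (mul_mem (hdC _) (hOle ho))
  obtain ⟨-, k, hk⟩ := hvy
  -- the involution fixing the conjugate forces it to commute
  have htv : Commute (F.ev t) (v * y * v⁻¹) := by
    rw [← hvz, ← MulAut.conj_apply, ← MulAut.conj_apply]
    exact (F.ev_comm (by omega) (by omega) (by decide +kernel) : Commute (F.ev 4) y).map _
  have htd : Commute (F.ev t) d := (hinvs t ht).2.1
  have hk0 : d ^ k = 1 := by
    have h1 : v * y * v⁻¹ * y⁻¹ * (v * y * v⁻¹)⁻¹ = y⁻¹ * d ^ k := by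
      calc _ = F.ev t * (v * y * v⁻¹ * y * (v * y * v⁻¹)⁻¹) * (F.ev t)⁻¹ := by
            rw [← hty]
            calc _ = v * y * v⁻¹ * F.ev t * y * (F.ev t)⁻¹ * (v * y * v⁻¹)⁻¹ := by group
              _ = F.ev t * (v * y * v⁻¹) * y * (F.ev t)⁻¹ * (v * y * v⁻¹)⁻¹ := by rw [← htv.eq]
              _ = F.ev t * (v * y * v⁻¹ * y * ((F.ev t)⁻¹ * (v * y * v⁻¹)⁻¹)) := by group
              _ = _ := by rw [(htv.inv_inv).eq]; group
        _ = F.ev t * (y * d ^ k) * (F.ev t)⁻¹ := by rw [hk]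
        _ = F.ev t * y * (F.ev t)⁻¹ * (F.ev t * d ^ k * (F.ev t)⁻¹) := by group
        _ = _ := by rw [hty, (htd.zpow_right k).eq, mul_inv_cancel_right]
    have h2 : v * y * v⁻¹ * y⁻¹ * (v * y * v⁻¹)⁻¹ = (y * d ^ k)⁻¹ := by rw [← hk]; group
    have h3 : y⁻¹ * d ^ k = d ^ (-k) * y⁻¹ := by rw [← h1, h2, mul_inv_rev, zpow_neg]
    rw [← (hcy.inv_right.zpow_left k).eq] at h3
    have h4 : d ^ k = d ^ (-k) := mul_right_cancel h3
    rw [zpow_neg] at h4
    refine eq_of_mul_self_odd (by nth_rewrite 1 [h4]; exact inv_mul_cancel _) ?_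
    rcases hdk k with h | h | h <;> rw [h]
    · simp
    · exact Odd.of_dvd_nat (by decide : Odd 3) (orderOf_dvd_of_pow_eq_one hd3)
    · rw [orderOf_inv]; exact Odd.of_dvd_nat (by decide : Odd 3) (orderOf_dvd_of_pow_eq_one hd3)
  rw [hk0, mul_one] at hk
  have hcomm : Commute (v * y * v⁻¹) y := mul_inv_eq_iff_eq_mul.1 hk
  rcases hvw with rfl | rfl
  · exact hcomm.eq.symm
  · have h := hcomm.map (MulAut.conj w).toMonoidHom
    have e : (MulAut.conj w).toMonoidHom (w * w * y * (w * w)⁻¹) = y := by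
      show w * (w * w * y * (w * w)⁻¹) * w⁻¹ = y
      calc _ = (w * w * w) * y * (w * w * w)⁻¹ := by group
        _ = y := by rw [hW3, inv_one, mul_one, one_mul]
    rw [e] at h
    exact h.eq

end Frame

end Cfsg.Agent.Spor.UFour
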