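import Mathlib.Algebra.Group.Subgroup.Lattice
import Mathlib.Tactic.Group
import Mathlib.Tactic.IntervalCases

/-!
Codes for the centralizer of an involution in the groups of type U4(3): two commuting copies of SL(2,3)
with common centre, an involution exchanging them, and an element inducing an outer automorphism on both.
-/

set_option autoImplicit false
set_option maxRecDepth 100000

namespace Cfsg.Agent.Spor.UFour

/-- a field of a packed list -/
def fd (v w i : ℕ) : ℕ := Nat.land (Nat.shiftRight v (Nat.mul w i)) (Nat.sub (Nat.pow 2 w) 1)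

/-- multiplication of SL(2,3) on indices; index 1 is the central involution -/
def sm (a b : ℕ) : ℕ := fd 0x80e6846721894b6b0a4a550973ed7004c78c25310d6a63485ad1287baf65a8a473ef6399098c06294c016369552c857bad731d28844439c8206b2b44a062636b4290017b8e6b5d4b84653424436b2952142073cc7bd96a8c272215ee52cc74a2d710eb4081ac9ca11291cf5a8e6426f618a950058d94e3010dac424850829531e725aa30bd9cf1898d4a0a4006b439a5352e11b5dee31e30004435aa53216f64a1eead18d39a110806252e72292d7425cfa55aca5653b5dcf63611424012144331d4bad272bd9ee6b2304a020290623996a94ed7a558d845cf0054b10cc7215099caf6ad1ac8c1ee0816a188e6291286b10910c20a54859c9cf8c2f65a8c76352818801ad0a494dee846d752ce68c00131d6a94c43bd98d7bab44a085844203994b9c862b5dac73e95424a47b94b21528b5cc7ad2116b2720804373d6a29109bd8e6a56306365300462b5e9594e1173d8d52d0931c8510c01bdab49ca307b9ac5a928398a418820 5 (Nat.add (Nat.mul 24 a) b)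
/-- conjugation by diag(1,-1) on indices -/
def sU (a : ℕ) : ℕ := fd 0x7ba306b2b4bda724a16a214c710c20 5 a
/-- inversion on indices -/
def si (a : ℕ) : ℕ := fd 0xb5ca46b0c773e724a16a846b410c20 5 a
/-- matrix entries of an index -/
def sEnt (a k : ℕ) : ℕ := fd 0x56a9261986491a256a958a459261a25158a4986418248241 2 (Nat.add (Nat.mul 4 a) k)

/-- first index of a code -/
def pA (p : ℕ) : ℕ := Nat.mul 2 (Nat.div p 96)
/-- second index of a code -/
def pB (p : ℕ) : ℕ := Nat.mod (Nat.div p 4) 24
/-- exchange bit of a code -/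
def pC (p : ℕ) : Bool := Nat.beq (Nat.mod (Nat.div p 2) 2) 1
/-- outer bit of a code -/
def pD (p : ℕ) : Bool := Nat.beq (Nat.mod p 2) 1

/-- the code of a normal form -/
def code (a b : ℕ) (c d : Bool) : ℕ :=
  Nat.add (Nat.add (Nat.mul 96 (Nat.div a 2)) (Nat.mul 4 (bif Nat.beq (Nat.mod a 2) 0 then b else sm 1 b)))
    (Nat.add (bif c then 2 else 0) (bif d then 1 else 0))

/-- product of codes -/
def mul (p q : ℕ) : ℕ :=
  (fun A B => code
      (bif xor (pD p && pC q) (pD p && pD q) then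
        sm 1 (sm (pA p) (bif pC p then B else A)) else sm (pA p) (bif pC p then B else A))
      (sm (pB p) (bif pC p then A else B)) (xor (pC p) (pC q)) (xor (pD p) (pD q)))
    (bif pD p then sU (pA q) else pA q) (bif pD p then sU (pB q) else pB q)

/-- inverse of a code -/
def inv (p : ℕ) : ℕ :=
  mul (mul (bif pD p then code 1 0 false true else 0) (bif pC p then code 0 0 true false else 0))
    (code (si (pA p)) (si (pB p)) false false)

/-- conjugate of `q` by `p` -/
def cj (p q : ℕ) : ℕ := mul (mul p q) (inv p)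

/-- commutator -/
def cm (p q : ℕ) : ℕ := mul (mul p q) (mul (inv p) (inv q))

/-- check all arguments below a bound -/
def allLt (n : ℕ) (P : ℕ → Bool) : Bool := Nat.rec (motive := fun _ => Bool) true (fun k ih => P k && ih) n

theorem allLt_spec {n : ℕ} {P : ℕ → Bool} (h : allLt n P = true) : ∀ k, k < n → P k = true := by
  induction n with
  | zero => intro k hk; omega
  | succ n ih =>
    have h' : P n = true ∧ allLt n P = true := Bool.and_eq_true_iff.mp h
    intro k hk
    rcases Nat.lt_succ_iff_lt_or_eq.1 hk with hlt | rfl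
    · exact ih h'.2 k hlt
    · exact h'.1

theorem sm_ok : allLt 24 (fun a => allLt 24 fun b => Nat.blt (sm a b) 24) = true := by decide +kernel

theorem sm_lt {a b : ℕ} (ha : a < 24) (hb : b < 24) : sm a b < 24 :=
  Nat.le_of_ble_eq_true (allLt_spec (allLt_spec sm_ok a ha) b hb)

theorem misc_ok : allLt 24 (fun a => Nat.blt (sU a) 24 && Nat.blt (si a) 24 && Nat.beq (sm 0 a) a &&
    Nat.beq (sm a 0) a && Nat.beq (sm a 1) (sm 1 a) && Nat.beq (sm 1 (sm 1 a)) a &&
    Nat.beq (sm (si a) a) 0) = true := by decide +kernel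

theorem misc {a : ℕ} (ha : a < 24) : sU a < 24 ∧ si a < 24 ∧ sm 0 a = a ∧ sm a 0 = a ∧
    sm a 1 = sm 1 a ∧ sm 1 (sm 1 a) = a ∧ sm (si a) a = 0 := by
  have h := allLt_spec misc_ok a ha
  simp only [Bool.and_eq_true] at h
  obtain ⟨⟨⟨⟨⟨⟨h1, h2⟩, h3⟩, h4⟩, h5⟩, h6⟩, h7⟩ := h
  exact ⟨Nat.le_of_ble_eq_true h1, Nat.le_of_ble_eq_true h2, Nat.eq_of_beq_eq_true h3,
    Nat.eq_of_beq_eq_true h4, Nat.eq_of_beq_eq_true h5, Nat.eq_of_beq_eq_true h6, Nat.eq_of_beq_eq_true h7⟩

/-- elements of a group satisfying the relations of the centralizer -/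
structure HRel (G : Type*) [Group G] where
  /-- the first copy of SL(2,3) -/
  f : ℕ → G
  /-- the exchanging involution -/
  s : G
  /-- the outer element -/
  u : G
  hf : ∀ a b, a < 24 → b < 24 → f (sm a b) = f a * f b
  s_sq : s * s = 1
  comm : ∀ a b, a < 24 → b < 24 → f a * (s * f b * s) = s * f b * s * f a
  s_z : s * f 1 * s = f 1
  u_sq : u * u = f 1
  u_conj : ∀ a, a < 24 → u * f a * u⁻¹ = f (sU a)
  su : s * u * s = u * f 1

namespace HRel

variable {G : Type*} [Group G] (R : HRel G)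

/-- the second copy of SL(2,3) -/
def f' (a : ℕ) : G := R.s * R.f a * R.s

/-- the element of a code -/
def ev (p : ℕ) : G :=
  R.f (pA p) * R.f' (pB p) * (bif pC p then R.s else 1) * (bif pD p then R.u else 1)

theorem f_zero : R.f 0 = 1 := by
  have h := R.hf 0 0 (by omega) (by omega)
  rw [(misc (a := 0) (by omega)).2.2.1] at h
  exact left_eq_mul.1 h

theorem f'_zero : R.f' 0 = 1 := by rw [f', f_zero, mul_one, R.s_sq]

theorem hf' {a b : ℕ} (ha : a < 24) (hb : b < 24) : R.f' (sm a b) = R.f' a * R.f' b := by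
  simp only [f', R.hf a b ha hb, mul_assoc]
  rw [← mul_assoc R.s R.s, R.s_sq, one_mul]

theorem f'_one : R.f' 1 = R.f 1 := R.s_z

theorem s_inv : R.s⁻¹ = R.s := inv_eq_of_mul_eq_one_right R.s_sq

theorem z_sq : R.f 1 * R.f 1 = 1 := by
  rw [← R.hf 1 1 (by omega) (by omega), show sm 1 1 = 0 by decide +kernel, f_zero]

theorem z_comm {a : ℕ} (ha : a < 24) : R.f 1 * R.f a = R.f a * R.f 1 := by
  rw [← R.hf 1 a (by omega) ha, ← R.hf a 1 ha (by omega), (misc ha).2.2.2.2.1]

theorem z_comm' {a : ℕ} (ha : a < 24) : R.f 1 * R.f' a = R.f' a * R.f 1 := R.comm 1 a (by omega) ha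

theorem z_s : R.f 1 * R.s = R.s * R.f 1 := by
  calc R.f 1 * R.s = R.s * R.f 1 * R.s * R.s := by rw [R.s_z]
    _ = R.s * R.f 1 := by rw [mul_assoc, R.s_sq, mul_one]

theorem z_u : R.f 1 * R.u = R.u * R.f 1 := by
  rw [← R.u_sq, mul_assoc]

theorem u_f {a : ℕ} (ha : a < 24) : R.u * R.f a = R.f (sU a) * R.u := by
  rw [← R.u_conj a ha, inv_mul_cancel_right]

theorem s_f (a : ℕ) : R.s * R.f a = R.f' a * R.s := by
  rw [f', mul_assoc, R.s_sq, mul_one]

theorem s_f' (a : ℕ) : R.s * R.f' a = R.f a * R.s := by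
  rw [f', ← mul_assoc, ← mul_assoc, R.s_sq, one_mul]

theorem u_s : R.u * R.s = R.f 1 * (R.s * R.u) := by
  calc R.u * R.s = R.s * (R.s * R.u * R.s) := by rw [← mul_assoc, ← mul_assoc, R.s_sq, one_mul]
    _ = R.f 1 * (R.s * R.u) := by rw [R.su, ← mul_assoc, mul_assoc, ← R.z_u, ← mul_assoc, ← R.z_s, mul_assoc]

theorem u_f' {a : ℕ} (ha : a < 24) : R.u * R.f' a = R.f' (sU a) * R.u := by
  have h1 : R.u * R.s = R.f 1 * (R.s * R.u) := R.u_s
  calc R.u * R.f' a = R.u * R.s * R.f a * R.s := by simp only [f', mul_assoc]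
    _ = R.f 1 * R.s * (R.u * R.f a) * R.s := by rw [h1]; simp only [mul_assoc]
    _ = R.f 1 * (R.s * R.f (sU a)) * (R.u * R.s) := by rw [R.u_f ha]; simp only [mul_assoc]
    _ = R.f 1 * R.f' (sU a) * R.s * (R.f 1 * (R.s * R.u)) := by rw [R.s_f, h1]; simp only [mul_assoc]
    _ = R.f' (sU a) * (R.f 1 * R.f 1) * (R.s * R.s) * R.u := by
      rw [R.z_comm' (misc ha).1, ← mul_assoc (R.f' _ * R.f 1 * R.s), mul_assoc _ R.s (R.f 1), ← R.z_s]
      simp only [mul_assoc]
    _ = R.f' (sU a) * R.u := by rw [R.z_sq, R.s_sq, mul_one, mul_one]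

theorem pA_lt {p : ℕ} (hp : p < 1152) : pA p < 24 := by simp only [pA, Nat.mul_eq]; show 2 * (p / 96) < 24; omega

theorem pB_lt (p : ℕ) : pB p < 24 := Nat.mod_lt _ (by omega)

theorem code_lt {a b : ℕ} (ha : a < 24) (hb : b < 24) (c d : Bool) : code a b c d < 1152 := by
  have h1 : sm 1 b < 24 := sm_lt (by omega) hb
  have hx : (bif Nat.beq (Nat.mod a 2) 0 then b else sm 1 b) < 24 := by cases Nat.beq (Nat.mod a 2) 0 <;> simpa
  unfold code
  generalize (bif Nat.beq (Nat.mod a 2) 0 then b else sm 1 b) = x at hx ⊢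
  show 96 * (a / 2) + 4 * x + _ < _
  cases c <;> cases d <;> simp only [cond_true, cond_false, Nat.add_eq] <;> omega

theorem ev_code {a b : ℕ} (ha : a < 24) (hb : b < 24) (c d : Bool) :
    R.ev (code a b c d) = R.f a * R.f' b * (bif c then R.s else 1) * (bif d then R.u else 1) := by
  have h1 : sm 1 b < 24 := sm_lt (by omega) hb
  have hx : (bif Nat.beq (Nat.mod a 2) 0 then b else sm 1 b) < 24 := by cases Nat.beq (Nat.mod a 2) 0 <;> simpa
  have key : R.f a * R.f' b = R.f (2 * (a / 2)) * R.f' (bif Nat.beq (Nat.mod a 2) 0 then b else sm 1 b) := by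
    rcases Nat.mod_two_eq_zero_or_one a with h | h
    · have : Nat.mod a 2 = 0 := h
      rw [this, show Nat.beq 0 0 = true from rfl, cond_true, show 2 * (a / 2) = a by omega]
    · have : Nat.mod a 2 = 1 := h
      rw [this, show Nat.beq 1 0 = false from rfl, cond_false, R.hf' (by omega) hb, f'_one, ← mul_assoc,
        ← R.hf _ 1 (by omega) (by omega)]
      congr 2
      have h' : a = 2 * (a / 2) + 1 := by omega
      obtain ⟨k, hk⟩ : ∃ k, k = a / 2 := ⟨_, rfl⟩
      rw [← hk] at h' ⊢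
      have hk12 : k < 12 := by omega
      subst h'
      interval_cases k <;> decide +kernel
  change R.ev _ = _
  unfold code
  generalize (bif Nat.beq (Nat.mod a 2) 0 then b else sm 1 b) = x at hx key ⊢
  rw [key]
  have e : ∀ t, t < 4 → pA (96 * (a / 2) + 4 * x + t) = 2 * (a / 2) ∧ pB (96 * (a / 2) + 4 * x + t) = x ∧
      pC (96 * (a / 2) + 4 * x + t) = Nat.beq (t / 2) 1 ∧ pD (96 * (a / 2) + 4 * x + t) = Nat.beq (t % 2) 1 := by
    intro t ht
    refine ⟨?_, ?_, ?_, ?_⟩
    · show 2 * ((96 * (a / 2) + 4 * x + t) / 96) = _; omega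
    · show (96 * (a / 2) + 4 * x + t) / 4 % 24 = _; omega
    · show Nat.beq ((96 * (a / 2) + 4 * x + t) / 2 % 2) 1 = _
      congr 1; omega
    · show Nat.beq ((96 * (a / 2) + 4 * x + t) % 2) 1 = _
      congr 1; omega
  have key2 : ∀ t, t < 4 → R.ev (96 * (a / 2) + 4 * x + t) = R.f (2 * (a / 2)) * R.f' x *
      (bif Nat.beq (t / 2) 1 then R.s else 1) * (bif Nat.beq (t % 2) 1 then R.u else 1) := by
    intro t ht
    obtain ⟨e1, e2, e3, e4⟩ := e t ht
    rw [ev, e1, e2, e3, e4]
  cases c <;> cases d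
  · exact key2 0 (by omega)
  · exact key2 1 (by omega)
  · exact key2 2 (by omega)
  · exact key2 3 (by omega)

/-- moving the outer part to the right of an element of the product of the two copies -/
theorem top_move {a b : ℕ} (ha : a < 24) (hb : b < 24) (c d : Bool) :
    (bif c then R.s else 1) * (bif d then R.u else 1) * (R.f a * R.f' b) =
      R.f (bif c then (bif d then sU b else b) else (bif d then sU a else a)) *
      R.f' (bif c then (bif d then sU a else a) else (bif d then sU b else b)) *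
      ((bif c then R.s else 1) * (bif d then R.u else 1)) := by
  have hu : ∀ {a b : ℕ}, a < 24 → b < 24 →
      R.u * (R.f a * R.f' b) = R.f (sU a) * R.f' (sU b) * R.u := fun {a b} ha hb => by
    rw [← mul_assoc, R.u_f ha, mul_assoc, R.u_f' hb, mul_assoc]
  have hs : ∀ {a b : ℕ}, a < 24 → b < 24 →
      R.s * (R.f a * R.f' b) = R.f b * R.f' a * R.s := fun {a b} ha hb => by
    rw [← mul_assoc, R.s_f, mul_assoc, R.s_f', ← mul_assoc]
    congr 1
    exact (R.comm b a hb ha).symm
  cases c <;> cases d <;> simp only [cond_true, cond_false, one_mul, mul_one]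
  · exact hu ha hb
  · exact hs ha hb
  · rw [mul_assoc R.s R.u, hu ha hb, ← mul_assoc, hs (misc ha).1 (misc hb).1, mul_assoc]

theorem top_mul (c d c' d' : Bool) :
    (bif c then R.s else 1) * (bif d then R.u else 1) * ((bif c' then R.s else 1) * (bif d' then R.u else 1)) =
      (bif xor (d && c') (d && d') then R.f 1 else 1) *
      ((bif xor c c' then R.s else 1) * (bif xor d d' then R.u else 1)) := by
  cases c <;> cases d <;> cases c' <;> cases d' <;>
    simp only [Bool.false_and, Bool.true_and, Bool.xor_false, Bool.false_xor, Bool.true_xor, Bool.xor_self,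
      Bool.not_true, Bool.not_false, cond_true, cond_false, one_mul, mul_one]
  all_goals
    first
    | exact R.u_sq
    | exact R.u_s
    | exact R.s_sq
    | (rw [← mul_assoc, R.s_sq, one_mul]; done)
    | (rw [← mul_assoc, R.u_s, mul_assoc, mul_assoc, R.u_sq, ← R.z_s, ← mul_assoc, R.z_sq, one_mul]; done)
    | (rw [mul_assoc, R.u_sq, ← R.z_s]; done)
    | (rw [mul_assoc, R.u_s, ← mul_assoc, ← mul_assoc, ← R.z_s, mul_assoc _ R.s R.s, R.s_sq, mul_one]; done)
    | (rw [mul_assoc, ← mul_assoc R.u, R.u_s, mul_assoc, mul_assoc, R.u_sq, ← R.z_s, ← mul_assoc (R.f 1), R.z_sq,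
          one_mul, R.s_sq]; done)

theorem ev_mul {p q : ℕ} (hp : p < 1152) (hq : q < 1152) : R.ev (mul p q) = R.ev p * R.ev q := by
  have hA : (bif pD p then sU (pA q) else pA q) < 24 := by
    cases pD p <;> simp [pA_lt hq, (misc (pA_lt hq)).1]
  have hB : (bif pD p then sU (pB q) else pB q) < 24 := by
    cases pD p <;> simp [pB_lt q, (misc (pB_lt q)).1]
  have hz : ∀ a, a < 24 → R.f 1 * R.f a = R.f (sm 1 a) := fun a ha => (R.hf 1 a (by omega) ha).symm
  have lhs : R.ev p * R.ev q = R.f (pA p) * R.f' (pB p) *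
      ((bif pC p then R.s else 1) * (bif pD p then R.u else 1) * (R.f (pA q) * R.f' (pB q))) *
      ((bif pC q then R.s else 1) * (bif pD q then R.u else 1)) := by simp only [ev, mul_assoc]
  rw [lhs, R.top_move (pA_lt hq) (pB_lt q), mul, ev_code]
  rotate_left
  · cases pC p <;> cases xor (pD p && pC q) (pD p && pD q) <;>
      simp only [cond_true, cond_false] <;>
      first | exact sm_lt (pA_lt hp) hA | exact sm_lt (pA_lt hp) hB |
        exact sm_lt (by omega) (sm_lt (pA_lt hp) hA) | exact sm_lt (by omega) (sm_lt (pA_lt hp) hB)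
  · cases pC p <;> simp only [cond_true, cond_false] <;>
      first | exact sm_lt (pB_lt p) hA | exact sm_lt (pB_lt p) hB
  generalize hX : (bif pC p then (bif pD p then sU (pB q) else pB q) else
    (bif pD p then sU (pA q) else pA q)) = X
  generalize hY : (bif pC p then (bif pD p then sU (pA q) else pA q) else
    (bif pD p then sU (pB q) else pB q)) = Y
  have hX' : X < 24 := by subst hX; cases pC p <;> simp [hA, hB]
  have hY' : Y < 24 := by subst hY; cases pC p <;> simp [hA, hB]
  rw [show R.f (pA p) * R.f' (pB p) * (R.f X * R.f' Y * ((bif pC p then R.s else 1) * (bif pD p then R.u else 1))) *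
      ((bif pC q then R.s else 1) * (bif pD q then R.u else 1)) =
      R.f (pA p) * (R.f' (pB p) * R.f X) * R.f' Y * ((bif pC p then R.s else 1) * (bif pD p then R.u else 1) *
      ((bif pC q then R.s else 1) * (bif pD q then R.u else 1))) by simp only [mul_assoc],
    R.top_mul, show R.f' (pB p) * R.f X = R.f X * R.f' (pB p) from (R.comm X (pB p) hX' (pB_lt p)).symm]
  rw [show R.f (pA p) * (R.f X * R.f' (pB p)) * R.f' Y = R.f (pA p) * R.f X * (R.f' (pB p) * R.f' Y) by
    simp only [mul_assoc], ← R.hf _ _ (pA_lt hp) hX', ← R.hf' (pB_lt p) hY']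
  cases xor (pD p && pC q) (pD p && pD q)
  · simp only [cond_false, one_mul, mul_assoc]
  · simp only [cond_true]
    rw [← hz _ (sm_lt (pA_lt hp) hX')]
    have h1 := R.z_comm (sm_lt (pA_lt hp) hX')
    have h2 := R.z_comm' (sm_lt (pB_lt p) hY')
    rw [show ∀ w : G, R.f (sm (pA p) X) * R.f' (sm (pB p) Y) * (R.f 1 * w) =
      R.f (sm (pA p) X) * (R.f' (sm (pB p) Y) * R.f 1) * w from fun w => by simp only [mul_assoc]]
    rw [← h2, ← mul_assoc (R.f (sm (pA p) X)) (R.f 1), ← h1]
    simp only [mul_assoc]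

theorem ev_zero : R.ev 0 = 1 := by
  show R.f 0 * R.f' 0 * 1 * 1 = 1
  rw [f_zero, f'_zero, one_mul, one_mul, one_mul]

theorem mul_lt {p q : ℕ} (hp : p < 1152) (hq : q < 1152) : mul p q < 1152 := by
  have hA : (bif pD p then sU (pA q) else pA q) < 24 := by
    cases pD p <;> simp [pA_lt hq, (misc (pA_lt hq)).1]
  have hB : (bif pD p then sU (pB q) else pB q) < 24 := by
    cases pD p <;> simp [pB_lt q, (misc (pB_lt q)).1]
  unfold mul
  refine code_lt ?_ ?_ _ _
  · cases pC p <;> cases xor (pD p && pC q) (pD p && pD q) <;>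
      simp only [cond_true, cond_false] <;>
      first | exact sm_lt (pA_lt hp) hA | exact sm_lt (pA_lt hp) hB |
        exact sm_lt (by omega) (sm_lt (pA_lt hp) hA) | exact sm_lt (by omega) (sm_lt (pA_lt hp) hB)
  · cases pC p <;> simp only [cond_true, cond_false] <;>
      first | exact sm_lt (pB_lt p) hA | exact sm_lt (pB_lt p) hB

theorem inv_ok : allLt 1152 (fun p => Nat.blt (inv p) 1152 && Nat.beq (mul (inv p) p) 0) = true := by
  decide +kernel

theorem inv_lt {p : ℕ} (hp : p < 1152) : inv p < 1152 :=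
  Nat.le_of_ble_eq_true (Bool.and_eq_true_iff.mp (allLt_spec inv_ok p hp)).1

theorem ev_inv {p : ℕ} (hp : p < 1152) : R.ev (inv p) = (R.ev p)⁻¹ := by
  refine eq_inv_of_mul_eq_one_left ?_
  rw [← R.ev_mul (inv_lt hp) hp, Nat.eq_of_beq_eq_true (Bool.and_eq_true_iff.mp (allLt_spec inv_ok p hp)).2,
    ev_zero]

theorem ev_cj {p q : ℕ} (hp : p < 1152) (hq : q < 1152) : R.ev (cj p q) = R.ev p * R.ev q * (R.ev p)⁻¹ := by
  rw [cj, R.ev_mul (mul_lt hp hq) (inv_lt hp), R.ev_mul hp hq, R.ev_inv hp]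

end HRel

end Cfsg.Agent.Spor.UFour
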