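import Cfsg.Agent.Lib.Spor.UFourThreeType.Code
import Mathlib.SetTheory.Cardinal.Finite
import Mathlib.Data.List.GetD
import Mathlib.Tactic.FinCases

/-!
Frames for the groups of type U4(3): the centralizer relations, an element `g` of order three cycling
a four-group, and, for the groups themselves, the full involution centralizer.

Fixed codes: 4 is the central involution, 96 is `i`, 576 is `x`, 676 is `j`, 2 is `s`, 1 is `u`,
104 is the involution `q`; the elementary abelian group of order 16 is `eList`.
-/

set_option autoImplicit false
set_option maxRecDepth 100000

namespace Cfsg.Agent.Spor.UFour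

/-- membership in the centralizer of the four-group -/
def inT (p : ℕ) : Bool := Nat.beq (cj p 104) 104

/-- the automorphism induced by `g` -/
def fT (p : ℕ) : ℕ := fd 0x8bd1f0300025f4b700606a00000000000000000000000000000000000000000000000000000000000000000000e0263eafb0de1956ec5f0000000000000000000000000000000000000000000000000000000000000000000000000000000000000000000000000000000000000000000000000000000000000000000000000000000000000000000000000000000000000000000000000000000000000000000000000000000000000000000000000000000000000000000000000000000000000000000000000000000000000000000000000000000000000000000000000000000000000000000000000000000000000000000000000000000000000000000000000000000000000000000000000000000000000000000000000000000000000000000000000000000000000000000000000000000000000000000000000000000000000000000000000000000000000000000000000000000000000000000000000000000000000000000000000000000000000000000000000000000000000000000000000000000000000000000000000000000000000000000000000000000000000000000000000000000000000000000000000000000000000000000000000000000000000000000000000000000000000000000000000000000000000000000000000000000000000000000000000000000000000000000000000000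0000000000000000000000000000000060363caff0d61856cc5b0000000000000000000000000000000000000000000000000000000000000000005fcb600406e8b51e032006000000000000000000000000000000000000000000000000000000000000000000000000000000000000000000000000000000000000000000000000000000000000000000000000000000000000000000000000000000000000000000000000000000000000000000000000000000000000000000000000000000000000000000000000000000000000000000000000000000000000000000000000000000000000000000000000000000000000000000000000000000000000000000000000000000000000000000000000000000000000000000000000000000000000000000000000000000000000000000000000000000000000000000000000000000000000000000000000000000000000000000000000000000000000000000000000000000000000000000000000000000000000000000000000000000000000000000000000000000000000000000000000000000000000000000000000000000000000000000000000000000000000000000000000000000000000000000000000000000000000000000000000000000000000000000000000000000000000000000000000000000000000000000000000000000000000000000000000000000000000000000000000000000000000000000000000000000000000000000000000000000000000000000000000000000000000000000000000000000000000000000000000000000000000000000000000000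000000000000000000000000000000000000000000000000000000000000000000000000000000000000000000000000000000000000000000000000000000000000000000000000000000000000000000000000000000000000000000000000000000000000000000000000000000000000000000000000000000000000000000000000000000000000000000000000000000000000000000000000000000000000000000000000000000000000000000000000000000000000000000000000000000000000000000000000000000000000000000000000000000000000000000000000000000000000000000000000000000000000000000000000000000000000000000000000000000000000000000000000000000000000000000000000000000000000000000000000000000000000000000000000000000000005f11e8070048b8b683106c0d202d6daf900219e3dc5d00000000000000000000000000000000000000000000000000000000000000000000000000000000000000000000000000000000000000000000000000000000000000000000000000000000000000000000000000000000000000000000000000000000000000000000000000000da03d6fafd00a18e3fc598b0b78330685f91f805000 11 p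

/-- the elementary abelian subgroup of order 16 -/
def eList : List ℕ := [0, 2, 4, 6, 104, 106, 108, 110, 728, 730, 732, 734, 1144, 1146, 1148, 1150]

/-- the centralizer of the four-group grown from four generators: element, predecessor, generator -/
def tList : List (ℕ × ℕ × ℕ) := [(96, 0, 96), (728, 0, 728), (2, 0, 2), (1, 0, 1), (4, 96, 96), (1112, 96, 728), (98, 96, 2), (97, 96, 1), (1116, 728, 96), (730, 728, 2), (729, 728, 1), (10, 2, 96), (3, 2, 1), (101, 1, 96), (1145, 1, 728), (7, 1, 2), (100, 4, 96), (732, 4, 728), (6, 4, 2), (5, 4, 1), (1114, 1112, 2), (1113, 1112, 1), (106, 98, 96), (99, 98, 1), (765, 97, 728), (103, 97, 2), (1118, 1116, 2), (1117, 1116, 1), (766, 730, 96), (731, 730, 1), (105, 729, 728), (735, 729, 2), (762, 10, 728), (8, 10, 2), (11, 10, 1), (15, 3, 96), (1147, 3, 728), (761, 101, 728), (1151, 1145, 2), (1148, 1145, 1), (102, 100, 2), (734, 732, 2), (733, 732, 1), (14, 6, 96), (1149, 5, 728), (1150, 1114, 96), (1115, 1114, 1), (13, 1113, 728), (1119, 1113, 2), (1146, 106, 728), (104, 106, 2), (107, 106, 1), (111, 99, 96), (767, 99, 728), (763, 765, 2), (760, 765, 1), (9, 1117, 728), (764, 766, 2), (108, 105, 1), (110, 102, 96), (109, 733, 728), (12,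 14, 2), (1144, 1149, 1)]

theorem tList_ok : (tList.all fun t => Nat.beq (mul t.2.1 t.2.2) t.1 && [96, 728, 2, 1].contains t.2.2 &&
    Nat.blt t.2.1 1152 && Nat.beq (fT t.1) (mul (fT t.2.1) (fT t.2.2)) && Nat.blt (fT t.2.1) 1152 &&
    Nat.blt (fT t.2.2) 1152) = true := by
  decide +kernel

theorem tList_cover : allLt 1152 (fun p => !inT p || Nat.beq p 0 || (tList.map Prod.fst).contains p) = true := by
  decide +kernel

theorem tList_order : ((List.range 63).all fun k =>
    Nat.beq (tList.getD k (0, 0, 0)).2.1 0 || ((tList.take k).map Prod.fst).contains (tList.getD k (0, 0, 0)).2.1)
    = true := by decide +kernel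

/-- relations shared by the groups of type U4(3) and the reference group -/
structure GRel (G : Type*) [Group G] extends HRel G where
  /-- the element of order three -/
  g : G
  g_cube : g * g * g = 1
  g_T : ∀ p, p < 1152 → inT p = true → g * toHRel.ev p * g⁻¹ = toHRel.ev (fT p)
  g_j : g * toHRel.ev 676 * g * (toHRel.ev 676)⁻¹ = toHRel.ev 7

/-- a frame: the relations together with the full centralizer of the central involution -/
structure Frame (G : Type*) [Group G] extends GRel G where
  cent : ∀ x : G, x * f 1 = f 1 * x → ∃ p, p < 1152 ∧ x = toHRel.ev p
  inj : ∀ p, p < 1152 → toHRel.ev p = 1 → p = 0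

namespace HRel

variable {G : Type*} [Group G] (R : HRel G)

theorem ev_z : R.ev 4 = R.f 1 := by
  show R.f 0 * R.f' 1 * 1 * 1 = _
  rw [f_zero, f'_one, one_mul, mul_one, mul_one]

/-- conjugation by `g` is known on the whole centralizer of the four-group from four elements -/
theorem g_T_of_gens {g : G} (h : ∀ t ∈ [96, 728, 2, 1], g * R.ev t * g⁻¹ = R.ev (fT t)) :
    ∀ p, p < 1152 → inT p = true → g * R.ev p * g⁻¹ = R.ev (fT p) := by
  have h0 : g * R.ev 0 * g⁻¹ = R.ev (fT 0) := by
    rw [show fT 0 = 0 by decide +kernel, ev_zero, mul_one, mul_inv_cancel]
  have hk : ∀ k, k < 63 → g * R.ev (tList.getD k (0, 0, 0)).1 * g⁻¹ = R.ev (fT (tList.getD k (0, 0, 0)).1) := by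
    intro k
    induction k using Nat.strong_induction_on with
    | _ k ih =>
      intro hk
      have ho := List.all_eq_true.1 tList_order k (List.mem_range.2 hk)
      have hlen : k < tList.length := lt_of_lt_of_eq hk (by decide +kernel)
      have hok := List.all_eq_true.1 tList_ok (tList.getD k (0, 0, 0)) (by
        rw [List.getD_eq_getElem _ _ hlen]; exact List.getElem_mem hlen)
      generalize tList.getD k (0, 0, 0) = t at ho hok ⊢
      obtain ⟨p, a, b⟩ := t
      simp only [Bool.and_eq_true, List.contains_iff_mem] at hok
      obtain ⟨⟨⟨⟨⟨h1, h2⟩, h3⟩, h4⟩, h5⟩, h6⟩ := hok
      have ha : a < 1152 := Nat.le_of_ble_eq_true h3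
      have hb : b < 1152 := by fin_cases h2 <;> omega
      have hag : g * R.ev a * g⁻¹ = R.ev (fT a) := by
        rw [Bool.or_eq_true] at ho
        rcases ho with ho | ho
        · rw [show a = 0 from Nat.eq_of_beq_eq_true ho]; exact h0
        · rw [List.contains_iff_mem, List.mem_map] at ho
          obtain ⟨t', ht', e⟩ := ho
          obtain ⟨i, hi, rfl⟩ := List.mem_iff_getElem.1 ht'
          rw [List.length_take] at hi
          have := ih i (by omega) (by omega)
          rw [List.getD_eq_getElem _ _ (by omega)] at this
          rw [List.getElem_take] at e
          change tList[i].1 = a at e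
          rw [e] at this
          exact this
      show g * R.ev p * g⁻¹ = R.ev (fT p)
      rw [← Nat.eq_of_beq_eq_true h1, R.ev_mul ha hb, Nat.eq_of_beq_eq_true h1, Nat.eq_of_beq_eq_true h4,
        R.ev_mul (Nat.le_of_ble_eq_true h5) (Nat.le_of_ble_eq_true h6), ← hag, ← h b h2]
      simp only [mul_assoc, inv_mul_cancel_left]
  intro p hp hT
  have hc := allLt_spec tList_cover p hp
  rw [hT] at hc
  simp only [Bool.not_true, Bool.false_or, Bool.or_eq_true] at hc
  rcases hc with hc | hc
  · rw [Nat.eq_of_beq_eq_true hc]; exact h0
  · rw [List.contains_iff_mem, List.mem_map] at hc
    obtain ⟨t, ht, rfl⟩ := hc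
    obtain ⟨i, hi, rfl⟩ := List.mem_iff_getElem.1 ht
    have := hk i (lt_of_lt_of_eq hi (by decide +kernel))
    rwa [List.getD_eq_getElem _ _ hi] at this

end HRel

namespace Frame

variable {G : Type*} [Group G] (F : Frame G)

/-- the code of a word in codes -/
theorem ev_prod : ∀ l : List ℕ, (∀ t ∈ l, t < 1152) →
    l.foldr mul 0 < 1152 ∧ (l.map F.ev).prod = F.ev (l.foldr mul 0)
  | [], _ => ⟨by decide, (F.toHRel.ev_zero).symm⟩
  | a :: l, h => by
    obtain ⟨h1, h2⟩ := ev_prod l fun t ht => h t (List.mem_cons_of_mem a ht)
    refine ⟨HRel.mul_lt (h a List.mem_cons_self) h1, ?_⟩
    rw [List.map_cons, List.prod_cons, h2, List.foldr_cons, F.toHRel.ev_mul (h a List.mem_cons_self) h1]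

theorem ev_inj {p q : ℕ} (hp : p < 1152) (hq : q < 1152) (h : F.ev p = F.ev q) :
    mul p (inv q) = 0 :=
  F.inj _ (HRel.mul_lt hp (HRel.inv_lt hq))
    (by rw [F.toHRel.ev_mul hp (HRel.inv_lt hq), F.toHRel.ev_inv hq, h, mul_inv_cancel])

end Frame

end Cfsg.Agent.Spor.UFour
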