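import Cfsg.Agent.Lib.Spor.UFourThreeType.Model
import Cfsg.Agent.Lib.Spor.UFourThreeType.FinalData
import Cfsg.Agent.Lib.Spor.U43Sylow

/-!
In PSU(4,3) no element of order 7 commutes with an element of order 5: the latter fixes exactly two
isotropic lines, and the former fixes no point and hence no line.
-/

set_option autoImplicit false
set_option maxRecDepth 100000

namespace Cfsg.Agent.Spor.UFour

/-- the points of a line as a set -/
def lineSet (n : ℕ) : Finset (Fin 280) := ((linePts.getD n []).map (Fin.ofNat 280)).toFinset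

/-- mapping the points of a line into a line -/
def MapsInto (x : Equiv.Perm (Fin 280)) : Prop :=
  ∀ n, n < 112 → ∃ m, m < 112 ∧ ∀ i ∈ lineSet n, x i ∈ lineSet m

theorem mapsInto_gens : ∀ k : Fin 5, ∀ n : Fin 112,
    (lineImg k n < 112 ∧ ∀ i ∈ linePts.getD n [], ((mGen k (Fin.ofNat 280 i) : Fin 280) : ℕ) ∈ linePts.getD (lineImg k n) []) ∧
    (linePre k n < 112 ∧ ∀ i ∈ linePts.getD n [], ((((mGen k)⁻¹ : Equiv.Perm (Fin 280)) (Fin.ofNat 280 i) : Fin 280) : ℕ) ∈
      linePts.getD (linePre k n) []) := by decide +kernel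

theorem line_facts : ∀ n : Fin 112, (linePts.getD n []).length = 10 ∧ (linePts.getD n []).Nodup ∧
    ∀ i ∈ linePts.getD n [], i < 280 := by decide +kernel

theorem mem_lineSet {n : ℕ} (hn : n < 112) {i : Fin 280} : i ∈ lineSet n ↔ (i : ℕ) ∈ linePts.getD n [] := by
  simp only [lineSet, List.mem_toFinset, List.mem_map]
  constructor
  · rintro ⟨a, ha, rfl⟩
    have := (line_facts ⟨n, hn⟩).2.2 a ha
    rwa [Fin.val_ofNat, Nat.mod_eq_of_lt this]
  · exact fun h => ⟨i, h, Fin.ext (Nat.mod_eq_of_lt i.2)⟩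

theorem card_lineSet {n : ℕ} (hn : n < 112) : (lineSet n).card = 10 := by
  obtain ⟨h1, h2, h3⟩ := line_facts ⟨n, hn⟩
  rw [lineSet, List.toFinset_card_of_nodup, List.length_map, h1]
  exact h2.map_on fun a ha b hb e => by
    have := congrArg Fin.val e
    rwa [Fin.val_ofNat, Fin.val_ofNat, Nat.mod_eq_of_lt (h3 a ha), Nat.mod_eq_of_lt (h3 b hb)] at this

theorem MapsInto.mul {x y : Equiv.Perm (Fin 280)} (hx : MapsInto x) (hy : MapsInto y) : MapsInto (x * y) := by
  intro n hn
  obtain ⟨m, hm, h1⟩ := hy n hn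
  obtain ⟨l, hl, h2⟩ := hx m hm
  exact ⟨l, hl, fun i hi => by rw [Equiv.Perm.mul_apply]; exact h2 _ (h1 i hi)⟩

theorem mapsInto_gen : ∀ x ∈ modelG.gen, MapsInto x ∧ MapsInto x⁻¹ := by
  intro x hx
  have base : ∀ k : Fin 5, MapsInto (mGen k) ∧ MapsInto (mGen k)⁻¹ := by
    intro k
    constructor <;> intro n hn
    · obtain ⟨⟨h1, h2⟩, -⟩ := mapsInto_gens k ⟨n, hn⟩
      refine ⟨_, h1, fun i hi => (mem_lineSet h1).2 ?_⟩
      have := h2 i ((mem_lineSet hn).1 hi)
      rwa [show Fin.ofNat 280 (i : ℕ) = i from Fin.ext (Nat.mod_eq_of_lt i.2)] at this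
    · obtain ⟨-, h1, h2⟩ := mapsInto_gens k ⟨n, hn⟩
      refine ⟨_, h1, fun i hi => (mem_lineSet h1).2 ?_⟩
      have := h2 i ((mem_lineSet hn).1 hi)
      rwa [show Fin.ofNat 280 (i : ℕ) = i from Fin.ext (Nat.mod_eq_of_lt i.2)] at this
  induction hx using Subgroup.closure_induction with
  | mem x hx =>
    obtain ⟨k, rfl⟩ : ∃ k : Fin 5, mGen k = x := by
      rcases hx with rfl | rfl | rfl | rfl | rfl
      exacts [⟨0, rfl⟩, ⟨1, rfl⟩, ⟨2, rfl⟩, ⟨3, rfl⟩, ⟨4, rfl⟩]
    exact base k
  | one => exact ⟨fun n hn => ⟨n, hn, fun i hi => by simpa using hi⟩, fun n hn => ⟨n, hn, fun i hi => by simpa using hi⟩⟩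
  | mul a b _ _ ha hb => exact ⟨ha.1.mul hb.1, by rw [mul_inv_rev]; exact hb.2.mul ha.2⟩
  | inv a _ ha => exact ⟨ha.2, by rw [inv_inv]; exact ha.1⟩

/-- the image of a line -/
theorem image_line {x : Equiv.Perm (Fin 280)} (hx : x ∈ modelG.gen) {n : ℕ} (hn : n < 112) :
    ∃ m, m < 112 ∧ (lineSet n).image x = lineSet m := by
  obtain ⟨m, hm, h⟩ := (mapsInto_gen x hx).1 n hn
  refine ⟨m, hm, Finset.eq_of_subset_of_card_le (fun j hj => ?_) ?_⟩
  · obtain ⟨i, hi, rfl⟩ := Finset.mem_image.1 hj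
    exact h i hi
  · rw [Finset.card_image_of_injective _ x.injective, card_lineSet hm, card_lineSet hn]

/-- the element of order five -/
def five : Equiv.Perm (Fin 280) := (fiveWord.map mGen).prod

theorem five_mem : five ∈ modelG.gen := list_prod_mem fun y hy => by
  obtain ⟨k, -, rfl⟩ := List.mem_map.1 hy
  exact mGen_mem k

theorem five_order : five ^ 5 = 1 ∧ five ≠ 1 := by decide +kernel

theorem five_lines : ((List.range 112).filter fun n => (linePts.getD n []).all fun i =>
    (linePts.getD n []).contains ((five (Fin.ofNat 280 i) : Fin 280) : ℕ)).length ≤ 2 := by decide +kernel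

theorem five_lines' : ∃ n, n < 112 ∧ ((linePts.getD n []).all fun i =>
    (linePts.getD n []).contains ((five (Fin.ofNat 280 i) : Fin 280) : ℕ)) = true := by decide +kernel

theorem orb_ok : ∀ k : Fin 279, (orbSteps.getD k (0, 0, 0)).1 < 280 ∧ (orbSteps.getD k (0, 0, 0)).2.1 < 280 ∧
    ((mGen (orbSteps.getD k (0, 0, 0)).2.2 (Fin.ofNat 280 (orbSteps.getD k (0, 0, 0)).2.1) : Fin 280) : ℕ) =
      (orbSteps.getD k (0, 0, 0)).1 ∧ ((orbSteps.getD k (0, 0, 0)).2.1 = 0 ∨
        (orbSteps.getD k (0, 0, 0)).2.1 ∈ (orbSteps.take k).map Prod.fst) := by decide +kernel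

theorem orb_cover : ∀ i : Fin 280, (i : ℕ) = 0 ∨ (i : ℕ) ∈ orbSteps.map Prod.fst := by decide +kernel

theorem transitive : ∀ i : Fin 280, ∃ x ∈ modelG.gen, x 0 = i := by
  have hk : ∀ k : ℕ, ∀ hk : k < 279, ∃ x ∈ modelG.gen, ((x 0 : Fin 280) : ℕ) = (orbSteps.getD k (0, 0, 0)).1 := by
    intro k
    induction k using Nat.strong_induction_on with
    | _ k ih =>
      intro hk
      obtain ⟨-, h2, h3, h4⟩ := orb_ok ⟨k, hk⟩
      dsimp only at h2 h3 h4
      obtain ⟨x, hx, e⟩ : ∃ x ∈ modelG.gen, ((x 0 : Fin 280) : ℕ) = (orbSteps.getD k (0, 0, 0)).2.1 := by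
        rcases h4 with h4 | h4
        · exact ⟨1, one_mem _, by rw [h4]; rfl⟩
        · obtain ⟨t, ht, e⟩ := List.mem_map.1 h4
          obtain ⟨j, hj, rfl⟩ := List.mem_iff_getElem.1 ht
          rw [List.length_take] at hj
          obtain ⟨x, hx, e'⟩ := ih j (by omega) (by omega)
          refine ⟨x, hx, e'.trans ?_⟩
          rw [← e, List.getD_eq_getElem _ _ (by omega), List.getElem_take]
      refine ⟨mGen _ * x, mul_mem (mGen_mem (orbSteps.getD k (0, 0, 0)).2.2) hx, ?_⟩
      rw [Equiv.Perm.mul_apply, ← h3]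
      congr 2
      exact Fin.ext (e.trans (Nat.mod_eq_of_lt h2).symm)
  intro i
  rcases orb_cover i with h | h
  · exact ⟨1, one_mem _, Fin.ext h.symm⟩
  · obtain ⟨t, ht, e⟩ := List.mem_map.1 h
    obtain ⟨j, hj, rfl⟩ := List.mem_iff_getElem.1 ht
    obtain ⟨x, hx, e'⟩ := hk j (lt_of_lt_of_eq hj (by decide +kernel))
    exact ⟨x, hx, Fin.ext (by rw [e', ← e, List.getD_eq_getElem _ _ hj])⟩

/-- an element of order seven fixes no point -/
theorem seven_free {b : Equiv.Perm (Fin 280)} (hb : b ∈ modelG.gen) (ho : orderOf b = 7) (i : Fin 280) :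
    b i ≠ i := by
  intro h
  let f : modelG.gen →* Equiv.Perm (Fin 280) := modelG.gen.subtype
  letI : MulAction modelG.gen (Fin 280) := MulAction.compHom (Fin 280) f
  have hsm : ∀ (x : modelG.gen) (j : Fin 280), x • j = (x : Equiv.Perm (Fin 280)) j := fun _ _ => rfl
  have horb : MulAction.orbit modelG.gen i = Set.univ := by
    refine Set.eq_univ_of_forall fun j => ?_
    obtain ⟨x, hx, e⟩ := transitive i
    obtain ⟨y, hy, e'⟩ := transitive j
    exact ⟨⟨y * x⁻¹, mul_mem hy (inv_mem hx)⟩, by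
      show (y * x⁻¹) i = j
      rw [Equiv.Perm.mul_apply, ← e, ← Equiv.Perm.mul_apply x⁻¹, inv_mul_cancel, Equiv.Perm.one_apply, e']⟩
  have h1 := Subgroup.card_mul_index (MulAction.stabilizer modelG.gen i)
  rw [MulAction.index_stabilizer, horb, Set.ncard_univ, Nat.card_fin, model_iso.1] at h1
  have h2 : orderOf (⟨b, hb⟩ : modelG.gen) ∣ Nat.card (MulAction.stabilizer modelG.gen i) :=
    Subgroup.orderOf_dvd_natCard _ (show (⟨b, hb⟩ : modelG.gen) ∈ _ from h)
  rw [Subgroup.orderOf_mk, ho] at h2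
  omega

/-- no commuting elements of orders five and seven -/
theorem no_thirty_five {a b : Equiv.Perm (Fin 280)} (ha : a ∈ modelG.gen) (hb : b ∈ modelG.gen)
    (hoa : orderOf a = 5) (hob : orderOf b = 7) (hab : a * b = b * a) : False := by
  classical
  haveI : Fact (Nat.Prime 5) := ⟨by norm_num⟩
  haveI : Fact (Nat.Prime 7) := ⟨by norm_num⟩
  let c : modelG.gen := ⟨five, five_mem⟩
  let a' : modelG.gen := ⟨a, ha⟩
  have hc : orderOf c = 5 := by
    rw [Subgroup.orderOf_mk]; exact orderOf_eq_prime five_order.1 five_order.2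
  have hfac : (Nat.card modelG.gen).factorization 5 = 1 := by
    rw [model_iso.1]
    have h5 : Nat.Prime 5 := by norm_num
    have h1 := (Nat.Prime.pow_dvd_iff_le_factorization (k := 1) h5 (by norm_num : (3265920 : ℕ) ≠ 0)).1 (by norm_num)
    have h2 : ¬ 2 ≤ (3265920 : ℕ).factorization 5 := fun h => by
      have := (Nat.Prime.pow_dvd_iff_le_factorization (k := 2) h5 (by norm_num : (3265920 : ℕ) ≠ 0)).2 h
      norm_num at this
    omega
  obtain ⟨x, hxg, hx⟩ := U43.exists_conj_of_card (G := Equiv.Perm (Fin 280)) (K := modelG.gen) (p := 5) (n := 1)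
    (P := Subgroup.zpowers a) (Q := Subgroup.zpowers five) hfac (Subgroup.zpowers_le.2 ha)
    (Subgroup.zpowers_le.2 five_mem) (by rw [Nat.card_zpowers, hoa, pow_one])
    (by rw [Nat.card_zpowers, orderOf_eq_prime five_order.1 five_order.2, pow_one])
  have hm : five ∈ (Subgroup.zpowers a).map (MulAut.conj x).toMonoidHom := hx ▸ Subgroup.mem_zpowers five
  obtain ⟨a1, ha1, hxa⟩ := hm
  have hxa : x * a1 * x⁻¹ = five := hxa
  have hma : x * a * x⁻¹ ∈ Subgroup.zpowers five := hx ▸ Subgroup.mem_map_of_mem _ (Subgroup.mem_zpowers a)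
  -- conjugate the pair so that the element of order five becomes `five`
  have hb' : x * b * x⁻¹ ∈ modelG.gen := mul_mem (mul_mem hxg hb) (inv_mem hxg)
  have hcomm : five * (x * b * x⁻¹) = (x * b * x⁻¹) * five := by
    obtain ⟨k, rfl⟩ := Subgroup.mem_zpowers_iff.1 ha1
    have h1 : a ^ k * b = b * a ^ k := (Commute.zpow_left hab k).eq
    calc five * (x * b * x⁻¹) = x * (a ^ k * b) * x⁻¹ := by rw [← hxa]; group
      _ = x * (b * a ^ k) * x⁻¹ := by rw [h1]
      _ = _ := by rw [← hxa]; group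
  have hob' : orderOf (x * b * x⁻¹) = 7 := by
    rw [← MulAut.conj_apply, MulEquiv.orderOf_eq, hob]
  generalize x * b * x⁻¹ = r at hb' hcomm hob'
  set S := (Finset.range 112).filter fun n => (lineSet n).image five = lineSet n
  have hfix : ∀ n, n < 112 → ((lineSet n).image five = lineSet n ↔ ((linePts.getD n []).all fun i =>
      (linePts.getD n []).contains ((five (Fin.ofNat 280 i) : Fin 280) : ℕ)) = true) := by
    intro n hn
    have hI : ∀ i : ℕ, i ∈ linePts.getD n [] → ((Fin.ofNat 280 i : Fin 280) : ℕ) = i := fun i hi =>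
      Nat.mod_eq_of_lt ((line_facts ⟨n, hn⟩).2.2 i hi)
    simp only [List.all_eq_true, List.contains_iff_mem]
    constructor
    · intro h i hi
      have : five (Fin.ofNat 280 i) ∈ lineSet n := by
        rw [← h]; exact Finset.mem_image_of_mem _ ((mem_lineSet hn).2 (by rw [hI i hi]; exact hi))
      exact (mem_lineSet hn).1 this
    · intro h
      refine Finset.eq_of_subset_of_card_le (fun j hj => ?_) (by rw [Finset.card_image_of_injective _ five.injective])
      obtain ⟨i, hi, rfl⟩ := Finset.mem_image.1 hj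
      refine (mem_lineSet hn).2 ?_
      have := h i ((mem_lineSet hn).1 hi)
      rwa [show Fin.ofNat 280 (i : ℕ) = i from Fin.ext (Nat.mod_eq_of_lt i.2)] at this
  obtain ⟨n, hn, hn5⟩ := five_lines'
  have hnf := (hfix n hn).2 hn5
  -- the images of the fixed line under the powers of `r` are fixed lines
  have hpow : ∀ j : ℕ, ∃ m, m < 112 ∧ (lineSet n).image (r ^ j : Equiv.Perm (Fin 280)) = lineSet m ∧
      (lineSet m).image five = lineSet m := by
    intro j
    obtain ⟨m, hm, e⟩ := image_line (pow_mem hb' j) hn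
    refine ⟨m, hm, e, ?_⟩
    rw [← e, Finset.image_image, ← Equiv.Perm.coe_mul, (Commute.pow_right hcomm j).eq, Equiv.Perm.coe_mul,
      ← Finset.image_image, hnf]
  choose m hm he hf using hpow
  have hmem : ∀ j, m j ∈ (List.range 112).filter fun n => (linePts.getD n []).all fun i =>
      (linePts.getD n []).contains ((five (Fin.ofNat 280 i) : Fin 280) : ℕ) :=
    fun j => List.mem_filter.2 ⟨List.mem_range.2 (hm j), (hfix _ (hm j)).1 (hf j)⟩
  have hlen := five_lines
  generalize (List.range 112).filter (fun n => (linePts.getD n []).all fun i =>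
      (linePts.getD n []).contains ((five (Fin.ofNat 280 i) : Fin 280) : ℕ)) = L at hmem hlen
  have htwo : m 0 = m 1 ∨ m 0 = m 2 ∨ m 1 = m 2 := by
    have h0 := hmem 0
    have h1 := hmem 1
    have h2 := hmem 2
    match L, hlen with
    | [], _ => simp at h0
    | [u], _ => simp only [List.mem_singleton] at h0 h1; exact Or.inl (h0.trans h1.symm)
    | [u, v], _ =>
      simp only [List.mem_cons, List.not_mem_nil, or_false] at h0 h1 h2
      rcases h0 with rfl | rfl <;> rcases h1 with h1 | h1 <;> rcases h2 with h2 | h2 <;> omega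
    | _ :: _ :: _ :: _, h => simp at h
  have hm0 : lineSet (m 0) = lineSet n := by rw [← he 0, pow_zero]; simp
  have step : ∀ i j k : ℕ, m i = m j → i < j → k = j - i → (lineSet n).image (r ^ k : Equiv.Perm (Fin 280)) = lineSet n := by
    intro i j k h hij hk
    have e1 := he j
    rw [← h, ← he i, show j = i + k by omega, pow_add, Equiv.Perm.coe_mul, ← Finset.image_image] at e1
    exact Finset.image_injective (r ^ i).injective e1
  obtain ⟨k, hk0, hk7, hk⟩ : ∃ k, 0 < k ∧ k < 7 ∧ (lineSet n).image (r ^ k : Equiv.Perm (Fin 280)) = lineSet n := by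
    rcases htwo with h | h | h
    · exact ⟨1, by omega, by omega, step 0 1 1 h (by omega) rfl⟩
    · exact ⟨2, by omega, by omega, step 0 2 2 h (by omega) rfl⟩
    · exact ⟨1, by omega, by omega, step 1 2 1 h (by omega) rfl⟩
  set t := r ^ k
  have hot : orderOf t = 7 := by
    show orderOf (r ^ k) = 7
    rw [Nat.Coprime.orderOf_pow, hob']
    rw [hob']
    interval_cases k <;> decide
  have htm : t ∈ modelG.gen := pow_mem hb' k
  have hinv : ∀ i, i ∈ lineSet n ↔ t i ∈ lineSet n := by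
    intro i
    constructor
    · intro hi; rw [← hk]; exact Finset.mem_image_of_mem _ hi
    · intro hi
      rw [← hk] at hi
      obtain ⟨j, hj, e⟩ := Finset.mem_image.1 hi
      rwa [← t.injective e]
  let tl : Equiv.Perm {i // i ∈ lineSet n} := t.subtypePerm fun i => (hinv i).symm
  have htl : tl ^ 7 = 1 := by
    refine Equiv.ext fun i => Subtype.ext ?_
    rw [Equiv.Perm.subtypePerm_pow]
    show (t ^ 7) i.1 = i.1
    rw [← hot, pow_orderOf_eq_one, Equiv.Perm.one_apply]
  have hp : IsPGroup 7 (Subgroup.zpowers tl) := by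
    intro ⟨y, hy⟩
    obtain ⟨j, rfl⟩ := Subgroup.mem_zpowers_iff.1 hy
    refine ⟨1, Subtype.ext ?_⟩
    show (tl ^ j) ^ (7 ^ 1) = 1
    rw [pow_one, ← zpow_natCast (tl ^ j) 7, ← zpow_mul, mul_comm, zpow_mul, zpow_natCast, htl, one_zpow]
  have hmod := hp.card_modEq_card_fixedPoints {i // i ∈ lineSet n}
  have hfp : MulAction.fixedPoints (Subgroup.zpowers tl) {i // i ∈ lineSet n} = ∅ := by
    refine Set.eq_empty_of_forall_notMem fun i hi => seven_free htm hot i.1 ?_
    exact congrArg Subtype.val (hi ⟨tl, Subgroup.mem_zpowers tl⟩)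
  rw [hfp, Nat.card_eq_fintype_card, Fintype.card_coe, card_lineSet hn] at hmod
  simp [Nat.ModEq] at hmod

end Cfsg.Agent.Spor.UFour
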