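import Mathlib.GroupTheory.Transfer
import Mathlib.GroupTheory.Sylow
import Mathlib.GroupTheory.SpecificGroups.Cyclic
import Mathlib.Tactic.NormNum.Prime

/-!
A group of odd order divisible by 5 and 7 but by neither square has commuting elements of orders 5 and 7.
-/

set_option autoImplicit false

namespace Cfsg.Agent.Spor.UFour

/-- an element of odd order normalizing a cyclic group of prime order `p` centralizes it when `p - 1` is
coprime to its order -/
theorem comm_of_normalizes {G : Type*} [Group G] [Finite G] {p : ℕ} (hp : p.Prime) (P : Subgroup G)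
    (hP : Nat.card P = p) {n : G} (hn : n ∈ Subgroup.normalizer (P : Set G))
    (hco : (orderOf n).Coprime (p - 1)) : ∀ a ∈ P, a * n = n * a := by
  haveI : Fact p.Prime := ⟨hp⟩
  haveI : IsCyclic P := isCyclic_of_prime_card hP
  have h1 : orderOf (P.normalizerMonoidHom ⟨n, hn⟩) ∣ p - 1 := by
    have h := orderOf_dvd_natCard (P.normalizerMonoidHom ⟨n, hn⟩)
    rwa [IsCyclic.card_mulAut, hP, Nat.totient_prime hp] at h
  have h2 : orderOf (P.normalizerMonoidHom ⟨n, hn⟩) ∣ orderOf n := by
    have h := orderOf_map_dvd P.normalizerMonoidHom ⟨n, hn⟩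
    rwa [Subgroup.orderOf_mk] at h
  have h3 : P.normalizerMonoidHom ⟨n, hn⟩ = 1 :=
    orderOf_eq_one_iff.1 (Nat.dvd_one.1 (hco ▸ Nat.dvd_gcd h2 h1))
  have h4 : (⟨n, hn⟩ : Subgroup.normalizer (P : Set G)) ∈ P.normalizerMonoidHom.ker := h3
  rw [Subgroup.normalizerMonoidHom_ker, Subgroup.mem_subgroupOf] at h4
  exact fun a ha => Subgroup.mem_centralizer_iff.1 h4 a ha

theorem exists_comm_five_seven {D : Type*} [Group D] [Finite D] (ho : Odd (Nat.card D)) (h5 : 5 ∣ Nat.card D)
    (h7 : 7 ∣ Nat.card D) (h25 : ¬ 25 ∣ Nat.card D) (h49 : ¬ 49 ∣ Nat.card D) :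
    ∃ a b : D, orderOf a = 5 ∧ orderOf b = 7 ∧ a * b = b * a := by
  classical
  haveI : Fact (Nat.Prime 5) := ⟨by norm_num⟩
  haveI : Fact (Nat.Prime 7) := ⟨by norm_num⟩
  have hodd : ∀ x : D, Odd (orderOf x) := fun x => Odd.of_dvd_nat ho (orderOf_dvd_natCard x)
  let P : Sylow 5 D := default
  have hPc : Nat.card P = 5 := by
    obtain ⟨k, hk⟩ := IsPGroup.iff_card.1 P.2
    have hd : Nat.card P ∣ Nat.card D := Subgroup.card_subgroup_dvd_card _
    rcases k with _ | _ | k
    · exact absurd hk (by have := P.dvd_card_of_dvd_card h5; intro hh; rw [hh] at this; norm_num at this)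
    · exact hk
    · exact absurd ((dvd_pow_self 5 (by omega : k + 2 ≠ 0)).trans dvd_rfl) (fun _ => h25 ((by
        show 5 ^ 2 ∣ _
        exact (pow_dvd_pow 5 (by omega)).trans (hk ▸ hd))))
  have hP : Subgroup.normalizer ((P : Subgroup D) : Set D) ≤ Subgroup.centralizer ((P : Subgroup D) : Set D) := by
    intro n hn
    refine Subgroup.mem_centralizer_iff.2 (comm_of_normalizes (by norm_num) _ hPc hn ?_)
    show (orderOf n).Coprime (2 ^ 2)
    exact (Nat.coprime_two_right.2 (hodd n)).pow_right 2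
  set K := (MonoidHom.transferSylow P hP).ker
  have hK := (MonoidHom.ker_transferSylow_isComplement' P hP).card_mul
  rw [hPc] at hK
  change Nat.card K * 5 = _ at hK
  have h7K : 7 ∣ Nat.card K := (Nat.Coprime.dvd_mul_right (by norm_num)).1 (hK ▸ h7)
  let Q : Sylow 7 K := default
  have hQc : Nat.card ((Q : Subgroup K).map K.subtype) = 7 := by
    rw [Nat.card_congr (Subgroup.equivMapOfInjective _ _ (Subgroup.subtype_injective _)).symm.toEquiv]
    obtain ⟨k, hk⟩ := IsPGroup.iff_card.1 Q.2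
    have hd : Nat.card Q ∣ Nat.card D :=
      (Subgroup.card_subgroup_dvd_card _).trans (Subgroup.card_subgroup_dvd_card _)
    rcases k with _ | _ | k
    · exact absurd hk (by have := Q.dvd_card_of_dvd_card h7K; intro hh; rw [hh] at this; norm_num at this)
    · exact hk
    · exact absurd ((pow_dvd_pow 7 (by omega : 2 ≤ k + 2)).trans (hk ▸ hd)) h49
  set N := Subgroup.normalizer (((Q : Subgroup K).map K.subtype : Subgroup D) : Set D)
  have hfr : N ⊔ K = ⊤ := Sylow.normalizer_sup_eq_top Q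
  have h5N : 5 ∣ Nat.card N := by
    by_contra h
    have hle : N ≤ K := by
      intro n hn
      have h1 : orderOf (MonoidHom.transferSylow P hP n) ∣ orderOf n := orderOf_map_dvd _ n
      have h2 : orderOf (MonoidHom.transferSylow P hP n) ∣ 5 := (orderOf_dvd_natCard _).trans (dvd_of_eq hPc)
      have h3 : orderOf n ∣ Nat.card N := Subgroup.orderOf_dvd_natCard N hn
      rcases (Nat.dvd_prime (by norm_num)).1 h2 with h4 | h4
      · exact orderOf_eq_one_iff.1 h4
      · exact absurd ((h4 ▸ h1).trans h3) h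
    rw [sup_eq_right.2 hle] at hfr
    rw [hfr, Subgroup.card_top] at hK
    have : 0 < Nat.card D := Nat.card_pos
    omega
  obtain ⟨⟨a, haN⟩, ha⟩ := exists_prime_orderOf_dvd_card' 5 h5N
  rw [Subgroup.orderOf_mk] at ha
  obtain ⟨⟨b, hbQ⟩, hb⟩ := exists_prime_orderOf_dvd_card' (G := ((Q : Subgroup K).map K.subtype : Subgroup D)) 7
    (by rw [hQc])
  rw [Subgroup.orderOf_mk] at hb
  refine ⟨a, b, ha, hb, (comm_of_normalizes (by norm_num) _ hQc haN ?_ b hbQ).symm⟩
  rw [ha]; norm_num

end Cfsg.Agent.Spor.UFour
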