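import Cfsg.Agent.Lib.Spor.UFourThreeType.Bound
import Cfsg.Agent.Lib.Spor.UFourThreeType.CentD
import Cfsg.Agent.Lib.Spor.UFourThreeType.ModelFive
import Cfsg.Agent.Lib.Spor.UFourThreeType.OddOrder
import Cfsg.Agent.Lib.Fusion.StronglyEmbeddedPairs
import Cfsg.Agent.Lib.Small.Hermitian
import Cfsg.Agent.Lib.Spor.LFTSmall

/-!
A finite group with a frame is isomorphic to PSU(4,3): the subgroup generated by the frame is, and it is
not strongly embedded as it would then contain a subgroup of odd order divisible by 2835.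
-/

set_option autoImplicit false
set_option maxRecDepth 100000

namespace Cfsg.Agent.Spor.UFour

theorem invSteps_ok : (invSteps.all fun t => Nat.blt t.1 1152 && Nat.blt t.2.1 1152 && Nat.blt t.2.2.1 1152 &&
    (bif Nat.beq t.2.2.2 0 then Nat.beq (cj t.2.1 t.1) t.2.2.1 else inT t.1 && Nat.beq (fT t.1) t.2.2.1)) = true := by
  decide +kernel

theorem invSteps_order : ((List.range invSteps.length).all fun k =>
    Nat.beq (invSteps.getD k (0, 0, 0, 0)).2.2.1 4 ||
      ((invSteps.take k).map Prod.fst).contains (invSteps.getD k (0, 0, 0, 0)).2.2.1) = true := by decide +kernel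

theorem invol_cover : allLt 1152 (fun p => !Nat.beq (mul p p) 0 || Nat.beq p 0 || Nat.beq p 4 ||
    (invSteps.map Prod.fst).contains p) = true := by decide +kernel

theorem slWords_ok : allLt 24 (fun a => (slWords.getD a []).all (fun k => Nat.blt k 2) &&
    Nat.beq (((slWords.getD a []).map fun k => [96, 576].getD k 0).foldr mul 0) (code a 0 false false)) = true := by
  decide +kernel

theorem code_zero_ok : allLt 24 (fun a => allLt 24 fun b =>
    (!Nat.beq (code a b false false) 0 || (Nat.beq a b && Nat.blt a 2)) && !Nat.beq (code a b true false) 0 &&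
      !Nat.beq (code a b false true) 0 && !Nat.beq (code a b true true) 0) = true := by decide +kernel

theorem code_zero {a b : ℕ} {c d : Bool} (ha : a < 24) (hb : b < 24) (h : code a b c d = 0) :
    c = false ∧ d = false ∧ a = b ∧ a < 2 := by
  have key := allLt_spec (allLt_spec code_zero_ok a ha) b hb
  cases c <;> cases d <;> rw [h] at key <;>
    simp only [show Nat.beq 0 0 = true from rfl, Bool.not_true, Bool.false_and, Bool.and_false, Bool.false_or,
      Bool.false_eq_true, Bool.and_eq_true] at key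
  exact ⟨rfl, rfl, Nat.eq_of_beq_eq_true key.1.1.1.1, Nat.le_of_ble_eq_true key.1.1.1.2⟩

theorem even_cancel_ok : allLt 24 (fun x => allLt 12 fun i => allLt 12 fun j =>
    !(Nat.blt (sm (Nat.mul 2 i) x) 2 && Nat.blt (sm (Nat.mul 2 j) x) 2) || Nat.beq i j) = true := by decide +kernel

theorem even_cancel' : allLt 24 (fun x => allLt 12 fun i => allLt 12 fun j =>
    !(Nat.blt (sm 1 (sm (Nat.mul 2 i) x)) 2 && Nat.blt (sm 1 (sm (Nat.mul 2 j) x)) 2) || Nat.beq i j) = true := by
  decide +kernel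

theorem cancel_ok : allLt 24 (fun x => allLt 24 fun i => allLt 24 fun j =>
    !Nat.beq (sm i x) (sm j x) || Nat.beq i j) = true := by decide +kernel

theorem inv_cancel_ok : allLt 1152 (fun b => Nat.beq (mul b (inv b)) 0) = true := by decide +kernel

theorem mul_inv_zero {a b : ℕ} (ha : a < 1152) (hb : b < 1152) (h : mul a (inv b) = 0) : a = b := by
  have h' : mul b (inv b) = 0 := Nat.eq_of_beq_eq_true (allLt_spec inv_cancel_ok b hb)
  have hx := HRel.inv_lt hb
  generalize inv b = x at h h' hx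
  have hu : ∀ k, k < 24 → sU k < 24 := fun k hk => (misc hk).1
  have hsm : ∀ i j, i < 24 → j < 24 → sm i j < 24 := fun i j => sm_lt
  have hX : ∀ (d c : Bool) (k l : ℕ), k < 24 → l < 24 →
      (bif c then (bif d then sU k else k) else (bif d then sU l else l)) < 24 := by
    intro d c k l hk hl; cases d <;> cases c <;> simp [hu, hk, hl]
  have hA : ∀ (e : Bool) (k : ℕ), k < 24 → (bif e then sm 1 k else k) < 24 := by
    intro e k hk; cases e <;> simp [hsm 1 k (by omega) hk, hk]
  have pa := HRel.pA_lt ha; have pb := HRel.pA_lt hb; have px := HRel.pA_lt hx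
  have qa := HRel.pB_lt a; have qb := HRel.pB_lt b; have qx := HRel.pB_lt x
  have Xa := hX (pD a) (pC a) _ _ qx px; have Ya := hX (pD a) (pC a) _ _ px qx
  have Xb := hX (pD b) (pC b) _ _ qx px; have Yb := hX (pD b) (pC b) _ _ px qx
  obtain ⟨c1, d1, e1, l1⟩ := code_zero (hA _ _ (hsm _ _ pa Xa)) (hsm _ _ qa Ya) h
  obtain ⟨c2, d2, e2, l2⟩ := code_zero (hA _ _ (hsm _ _ pb Xb)) (hsm _ _ qb Yb) h'
  have hc : pC a = pC b := by revert c1 c2; cases pC a <;> cases pC b <;> cases pC x <;> simp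
  have hd : pD a = pD b := by revert d1 d2; cases pD a <;> cases pD b <;> cases pD x <;> simp
  rw [hc, hd] at e1 l1 Xa Ya
  generalize (bif pC b then (bif pD b then sU (pB x) else pB x) else (bif pD b then sU (pA x) else pA x)) = X
    at e1 l1 e2 l2 Xa
  generalize (bif pC b then (bif pD b then sU (pA x) else pA x) else (bif pD b then sU (pB x) else pB x)) = Y
    at e1 e2 Ya
  have hi : a / 96 = b / 96 := by
    generalize xor (pD b && pC x) (pD b && pD x) = e at l1 l2
    cases e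
    · have k := allLt_spec (allLt_spec (allLt_spec even_cancel_ok X Xa) (a / 96) (by omega)) (b / 96) (by omega)
      simp only [cond_false] at l1 l2
      rw [show Nat.blt (sm (Nat.mul 2 (a / 96)) X) 2 = true from Nat.ble_eq_true_of_le l1,
        show Nat.blt (sm (Nat.mul 2 (b / 96)) X) 2 = true from Nat.ble_eq_true_of_le l2] at k
      exact Nat.eq_of_beq_eq_true (by simpa using k)
    · have k := allLt_spec (allLt_spec (allLt_spec even_cancel' X Xa) (a / 96) (by omega)) (b / 96) (by omega)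
      simp only [cond_true] at l1 l2
      rw [show Nat.blt (sm 1 (sm (Nat.mul 2 (a / 96)) X)) 2 = true from Nat.ble_eq_true_of_le l1,
        show Nat.blt (sm 1 (sm (Nat.mul 2 (b / 96)) X)) 2 = true from Nat.ble_eq_true_of_le l2] at k
      exact Nat.eq_of_beq_eq_true (by simpa using k)
  rw [show pA a = pA b by show 2 * (a / 96) = 2 * (b / 96); rw [hi]] at e1
  have hY : sm (pB a) Y = sm (pB b) Y := e1.symm.trans e2
  have k := allLt_spec (allLt_spec (allLt_spec cancel_ok Y Ya) _ qa) _ qb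
  rw [hY, show Nat.beq (sm (pB b) Y) (sm (pB b) Y) = true from Nat.beq_refl _] at k
  have hq : pB a = pB b := Nat.eq_of_beq_eq_true (by simpa using k)
  have hq' : a / 4 % 24 = b / 4 % 24 := hq
  have h4 : a % 4 = b % 4 := by
    have hc' : Nat.beq (a / 2 % 2) 1 = Nat.beq (b / 2 % 2) 1 := hc
    have hd' : Nat.beq (a % 2) 1 = Nat.beq (b % 2) 1 := hd
    rcases Nat.mod_two_eq_zero_or_one (a / 2) with u | u <;> rcases Nat.mod_two_eq_zero_or_one (b / 2) with v | v <;>
      rcases Nat.mod_two_eq_zero_or_one a with m | m <;> rcases Nat.mod_two_eq_zero_or_one b with n | n <;>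
      simp [u, v, m, n] at hc' hd' <;> omega
  omega

theorem pow_two_seven : (3265920 : ℕ).factorization 2 = 7 := by
  have h2 : Nat.Prime 2 := Nat.prime_two
  have h1 := (Nat.Prime.pow_dvd_iff_le_factorization (k := 7) h2 (by norm_num : (3265920 : ℕ) ≠ 0)).1 (by norm_num)
  have h3 : ¬ 8 ≤ (3265920 : ℕ).factorization 2 := fun h => by
    have := (Nat.Prime.pow_dvd_iff_le_factorization (k := 8) h2 (by norm_num : (3265920 : ℕ) ≠ 0)).2 h
    norm_num at this
  omega

namespace GRel

variable {G : Type*} [Group G] (R : GRel G)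

theorem gen_g : R.g ∈ R.gen := Subgroup.subset_closure (by simp)

theorem hSub_le_gen : R.hSub ≤ R.gen := by
  have h96 : R.ev 96 ∈ R.gen := Subgroup.subset_closure (by simp)
  have h576 : R.ev 576 ∈ R.gen := Subgroup.subset_closure (by simp)
  have h2 : R.ev 2 ∈ R.gen := Subgroup.subset_closure (by simp)
  have h1 : R.ev 1 ∈ R.gen := Subgroup.subset_closure (by simp)
  have hs : R.s ∈ R.gen := by
    rwa [show R.ev 2 = R.s by
      show R.f 0 * R.f' 0 * R.s * 1 = R.s
      rw [HRel.f_zero, HRel.f'_zero, one_mul, one_mul, mul_one]] at h2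
  have hu : R.u ∈ R.gen := by
    rwa [show R.ev 1 = R.u by
      show R.f 0 * R.f' 0 * 1 * R.u = R.u
      rw [HRel.f_zero, HRel.f'_zero, one_mul, one_mul, one_mul]] at h1
  have hf : ∀ a, a < 24 → R.f a ∈ R.gen := by
    intro a ha
    have h := allLt_spec slWords_ok a ha
    simp only [Bool.and_eq_true, List.all_eq_true] at h
    have hlt : ∀ t ∈ (slWords.getD a []).map (fun k => [96, 576].getD k 0), t < 1152 := by
      intro t ht
      obtain ⟨k, hk, rfl⟩ := List.mem_map.1 ht
      have : k < 2 := Nat.le_of_ble_eq_true (h.1 k hk)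
      interval_cases k <;> decide
    have e := (R.ev_prod _ hlt).2
    rw [Nat.eq_of_beq_eq_true h.2, R.toHRel.ev_code ha (by omega)] at e
    simp only [cond_false, mul_one, HRel.f'_zero] at e
    rw [← e]
    refine list_prod_mem fun y hy => ?_
    obtain ⟨t, ht, rfl⟩ := List.mem_map.1 hy
    obtain ⟨k, hk, rfl⟩ := List.mem_map.1 ht
    have : k < 2 := Nat.le_of_ble_eq_true (h.1 k hk)
    interval_cases k
    · exact h96
    · exact h576
  rintro _ ⟨p, hp, rfl⟩
  show R.f (pA p) * (R.s * R.f (pB p) * R.s) * _ * _ ∈ _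
  refine mul_mem (mul_mem (mul_mem (hf _ (HRel.pA_lt hp)) (mul_mem (mul_mem hs (hf _ (HRel.pB_lt p))) hs)) ?_) ?_
  · cases pC p <;> simp [hs]
  · cases pD p <;> simp [hu]

/-- the product of two systems of relations -/
def prod {K : Type*} [Group K] (S : GRel K) : GRel (G × K) where
  f a := (R.f a, S.f a)
  s := (R.s, S.s)
  u := (R.u, S.u)
  hf a b ha hb := Prod.ext (R.hf a b ha hb) (S.hf a b ha hb)
  s_sq := Prod.ext R.s_sq S.s_sq
  comm a b ha hb := Prod.ext (R.comm a b ha hb) (S.comm a b ha hb)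
  s_z := Prod.ext R.s_z S.s_z
  u_sq := Prod.ext R.u_sq S.u_sq
  u_conj a ha := Prod.ext (R.u_conj a ha) (S.u_conj a ha)
  su := Prod.ext R.su S.su
  g := (R.g, S.g)
  g_cube := Prod.ext R.g_cube S.g_cube
  g_T p hp hT := by
    have h := fun p => show ((R.f (pA p), S.f (pA p)) : G × K) * ((R.s, S.s) * (R.f (pB p), S.f (pB p)) * (R.s, S.s)) *
        (bif pC p then (R.s, S.s) else 1) * (bif pD p then (R.u, S.u) else 1) = (R.ev p, S.ev p) from by
      simp only [HRel.ev, HRel.f']; cases pC p <;> cases pD p <;> simp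
    show _ * _ * _ = _
    simp only [HRel.ev, HRel.f']
    rw [h, h]
    exact Prod.ext (R.g_T p hp hT) (S.g_T p hp hT)
  g_j := by
    have h := fun p => show ((R.f (pA p), S.f (pA p)) : G × K) * ((R.s, S.s) * (R.f (pB p), S.f (pB p)) * (R.s, S.s)) *
        (bif pC p then (R.s, S.s) else 1) * (bif pD p then (R.u, S.u) else 1) = (R.ev p, S.ev p) from by
      simp only [HRel.ev, HRel.f']; cases pC p <;> cases pD p <;> simp
    simp only [HRel.ev, HRel.f']
    rw [h, h]
    exact Prod.ext R.g_j S.g_j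

theorem prod_ev {K : Type*} [Group K] (S : GRel K) (p : ℕ) : (R.prod S).ev p = (R.ev p, S.ev p) := by
  show ((R.f (pA p), S.f (pA p)) : G × K) * ((R.s, S.s) * (R.f (pB p), S.f (pB p)) * (R.s, S.s)) *
        (bif pC p then (R.s, S.s) else 1) * (bif pD p then (R.u, S.u) else 1) = _
  simp only [HRel.ev, HRel.f']; cases pC p <;> cases pD p <;> simp

theorem prod_local {K : Type*} [Group K] (S : GRel K) (hR : R.Local) (hS : S.Local) : (R.prod S).Local := by
  have hw : (R.prod S).dW = (R.dW, S.dW) := by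
    simp only [GRel.dW, prod_ev]; rfl
  refine ⟨?_, ?_, ?_⟩
  · rw [hw, prod_ev]; exact Prod.ext hR.dW hS.dW
  · rw [hw, prod_ev]; exact Prod.ext hR.comm hS.comm
  · have ht : ∀ p, p < 1152 → (R.prod S).trG.ev p = (R.trG.ev p, S.trG.ev p) := fun p hp => by
      show (R.prod S).toHRel.tr.ev p = _
      rw [(R.prod S).toHRel.tr_ev hp, prod_ev]
      exact (Prod.ext (R.toHRel.tr_ev hp) (S.toHRel.tr_ev hp)).symm
    have hw' : (R.prod S).trG.dW = (R.trG.dW, S.trG.dW) := by
      simp only [GRel.dW, ht 224 (by omega), ht 104 (by omega)]; rfl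
    rw [hw', ht 624 (by omega)]; exact Prod.ext hR.dW' hS.dW'

end GRel

namespace Frame

variable {G : Type*} [Group G] [Finite G] (F : Frame G)

theorem isLocal : F.toGRel.Local := ⟨F.local_identities.1, F.cent_comm, F.tr.local_identities.1⟩

theorem psu_simple : IsSimpleGroup modelG.gen := by
  haveI : Fact (Nat.Prime 3) := ⟨by norm_num⟩
  haveI : Fintype (GaloisField 3 2) := Fintype.ofFinite _
  have hF : Fintype.card (GaloisField 3 2) = 9 := by
    rw [← Nat.card_eq_fintype_card, GaloisField.card 3 2 (by norm_num)]; norm_num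
  obtain ⟨e⟩ := model_iso.2 (GaloisField 3 2) hF
  obtain ⟨-, -, σ, -, -, -, -, hσ⟩ :=
    Cfsg.Agent.Classical.exists_usigma (F := GaloisField 3 2) (q := 3) (by rw [hF]; norm_num)
  haveI : IsSimpleGroup (Cfsg.PSU 4 (GaloisField 3 2) 3) := by
    letI : StarRing (GaloisField 3 2) := Cfsg.Agent.Small.Hermitian.starRingOfInvolution
      (σ : GaloisField 3 2 →+* GaloisField 3 2) hσ.involutive
    exact Cfsg.Agent.Small.Unitary.psu_simple (fun x => hσ.apply_eq x) (by rw [hF]; norm_num) (by norm_num) (by norm_num)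
  exact e.isSimpleGroup_congr.mpr inferInstance

/-- the generated subgroup is PSU(4,3) -/
theorem gen_iso : Nonempty (modelG.gen ≃* F.gen) := by
  set P := F.toGRel.prod modelG
  obtain ⟨hfin, hle⟩ := P.gen_bound (F.toGRel.prod_local modelG F.isLocal model_local)
  have himg : ∀ x ∈ P.gen, x.1 ∈ F.gen ∧ x.2 ∈ modelG.gen := by
    intro x hx
    have : P.gen ≤ F.gen.prod modelG.gen := by
      refine (Subgroup.closure_le _).2 ?_
      rintro y (rfl | rfl | rfl | rfl | rfl)
      all_goals first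
        | (rw [GRel.prod_ev]; exact ⟨Subgroup.subset_closure (by simp), Subgroup.subset_closure (by simp)⟩)
        | exact ⟨F.toGRel.gen_g, modelG.gen_g⟩
    exact this hx
  have e2 : P.gen.map (MonoidHom.snd G (Equiv.Perm (Fin 280))) = modelG.gen := by
    rw [GRel.gen, MonoidHom.map_closure, GRel.gen]
    simp only [Set.image_insert_eq, Set.image_singleton, P, GRel.prod_ev, MonoidHom.coe_snd]
    rfl
  have e1 : P.gen.map (MonoidHom.fst G (Equiv.Perm (Fin 280))) = F.gen := by
    rw [GRel.gen, MonoidHom.map_closure, GRel.gen]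
    simp only [Set.image_insert_eq, Set.image_singleton, P, GRel.prod_ev, MonoidHom.coe_fst]
    rfl
  let π : P.gen →* modelG.gen := ((MonoidHom.snd G _).comp P.gen.subtype).codRestrict modelG.gen fun x => (himg x.1 x.2).2
  have hπs : Function.Surjective π := by
    rintro ⟨y, hy⟩
    rw [← e2] at hy
    obtain ⟨x, hx, rfl⟩ := hy
    exact ⟨⟨x, hx⟩, rfl⟩
  have hπ : Function.Bijective π := by
    haveI := hfin
    have h1 := Nat.card_le_card_of_surjective π hπs
    rw [model_iso.1] at h1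
    exact (Nat.bijective_iff_surjective_and_card _).2 ⟨hπs, by rw [model_iso.1]; omega⟩
  let ψ : modelG.gen →* F.gen := (((MonoidHom.fst G _).comp P.gen.subtype).codRestrict F.gen
    fun x => (himg x.1 x.2).1).comp (MulEquiv.ofBijective π hπ).symm.toMonoidHom
  have hψs : Function.Surjective ψ := by
    rintro ⟨y, hy⟩
    rw [← e1] at hy
    obtain ⟨x, hx, rfl⟩ := hy
    refine ⟨π ⟨x, hx⟩, Subtype.ext ?_⟩
    show ((MulEquiv.ofBijective π hπ).symm (π ⟨x, hx⟩) : G × Equiv.Perm (Fin 280)).1 = x.1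
    rw [show π ⟨x, hx⟩ = MulEquiv.ofBijective π hπ ⟨x, hx⟩ from rfl, MulEquiv.symm_apply_apply]
  haveI := psu_simple
  rcases Subgroup.Normal.eq_bot_or_eq_top (inferInstance : ψ.ker.Normal) with h | h
  · exact ⟨MulEquiv.ofBijective ψ ⟨(MonoidHom.ker_eq_bot_iff ψ).1 h, hψs⟩⟩
  · exfalso
    have hz : F.ev 4 ∈ F.gen := F.toGRel.hSub_le_gen ⟨4, by omega, rfl⟩
    obtain ⟨a, ha⟩ := hψs ⟨_, hz⟩
    have : a ∈ ψ.ker := h ▸ Subgroup.mem_top a
    rw [MonoidHom.mem_ker.1 this] at ha
    exact F.z_ev.2 (congrArg Subtype.val ha).symm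

theorem card_gen : Nat.card F.gen = 3265920 := by
  obtain ⟨e⟩ := F.gen_iso
  rw [← Nat.card_congr e.toEquiv, model_iso.1]

theorem card_hSub : Nat.card F.hSub = 1152 := by
  let f : Fin 1152 → F.hSub := fun i => ⟨F.ev i, i, i.2, rfl⟩
  have hf : Function.Bijective f := by
    refine ⟨fun a b h => Fin.ext (mul_inv_zero a.2 b.2 (F.ev_inj a.2 b.2 (congrArg Subtype.val h))), ?_⟩
    rintro ⟨_, p, hp, rfl⟩
    exact ⟨⟨p, hp⟩, rfl⟩
  rw [← Nat.card_eq_of_bijective f hf, Nat.card_fin]

theorem conj_z {p : ℕ} (hp : p < 1152) (h1 : mul p p = 0) (h2 : p ≠ 0) :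
    ∃ x ∈ F.gen, x * F.ev p * x⁻¹ = F.ev 4 := by
  have hk : ∀ k, k < invSteps.length → ∃ x ∈ F.gen, x * F.ev (invSteps.getD k (0, 0, 0, 0)).1 * x⁻¹ = F.ev 4 := by
    intro k
    induction k using Nat.strong_induction_on with
    | _ k ih =>
      intro hk
      have hok := List.all_eq_true.1 invSteps_ok (invSteps.getD k (0, 0, 0, 0)) (by
        rw [List.getD_eq_getElem _ _ hk]; exact List.getElem_mem hk)
      have ho := List.all_eq_true.1 invSteps_order k (List.mem_range.2 hk)
      generalize invSteps.getD k (0, 0, 0, 0) = t at hok ho ⊢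
      obtain ⟨a, h, b, kind⟩ := t
      simp only [Bool.and_eq_true] at hok
      obtain ⟨⟨⟨ha, hh⟩, hb⟩, hkind⟩ := hok
      have ha : a < 1152 := Nat.le_of_ble_eq_true ha
      have hh : h < 1152 := Nat.le_of_ble_eq_true hh
      obtain ⟨y, hy, e⟩ : ∃ y ∈ F.gen, y * F.ev b * y⁻¹ = F.ev 4 := by
        rw [Bool.or_eq_true] at ho
        rcases ho with ho | ho
        · rw [show b = 4 from Nat.eq_of_beq_eq_true ho]; exact ⟨1, one_mem _, by simp⟩
        · obtain ⟨t', ht', e'⟩ := List.mem_map.1 (List.contains_iff_mem.1 ho)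
          obtain ⟨i, hi, rfl⟩ := List.mem_iff_getElem.1 ht'
          rw [List.length_take] at hi
          obtain ⟨y, hy, e⟩ := ih i (by omega) (by omega)
          rw [List.getD_eq_getElem _ _ (by omega)] at e
          rw [List.getElem_take] at e'
          change invSteps[i].1 = b at e'
          exact ⟨y, hy, e' ▸ e⟩
      cases hc : Nat.beq kind 0 with
      | true =>
        rw [hc, cond_true] at hkind
        refine ⟨y * F.ev h, mul_mem hy (F.toGRel.hSub_le_gen ⟨h, hh, rfl⟩), ?_⟩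
        rw [← e, ← show cj h a = b from Nat.eq_of_beq_eq_true hkind, F.toHRel.ev_cj hh ha]
        group
      | false =>
        rw [hc, cond_false, Bool.and_eq_true] at hkind
        refine ⟨y * F.g, mul_mem hy F.toGRel.gen_g, ?_⟩
        rw [← e, ← show fT a = b from Nat.eq_of_beq_eq_true hkind.2, ← F.g_T a ha hkind.1]
        group
  have hc := allLt_spec invol_cover p hp
  rw [h1, show Nat.beq 0 0 = true from rfl] at hc
  simp only [Bool.not_true, Bool.false_or, Bool.or_eq_true] at hc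
  rcases hc with (hc | hc) | hc
  · exact absurd (Nat.eq_of_beq_eq_true hc) h2
  · rw [Nat.eq_of_beq_eq_true hc]; exact ⟨1, one_mem _, by simp⟩
  · obtain ⟨t, ht, e'⟩ := List.mem_map.1 (List.contains_iff_mem.1 hc)
    obtain ⟨i, hi, rfl⟩ := List.mem_iff_getElem.1 ht
    obtain ⟨x, hx, e⟩ := hk i hi
    rw [List.getD_eq_getElem _ _ hi, e'] at e
    exact ⟨x, hx, e⟩

/-- all involutions of the generated subgroup are conjugate in it -/
theorem invol_gen {t : G} (ht : t ∈ F.gen) (ho : orderOf t = 2) : ∃ x ∈ F.gen, x * t * x⁻¹ = F.ev 4 := by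
  haveI : Fact (Nat.Prime 2) := ⟨Nat.prime_two⟩
  obtain ⟨P, hP, -⟩ := Sylow.exists_subgroup_card_pow_prime_le 2 (m := 7) (n := 0) (G := F.hSub)
    (by rw [F.card_hSub]; norm_num) ⊥ (by simp) (by omega)
  have hPle : P.map F.hSub.subtype ≤ F.gen := (Subgroup.map_subtype_le _).trans F.toGRel.hSub_le_gen
  have hPc : Nat.card ((P.map F.hSub.subtype).subgroupOf F.gen) = 2 ^ (Nat.card F.gen).factorization 2 := by
    rw [Nat.card_congr (Subgroup.subgroupOfEquivOfLe hPle).toEquiv,
      Nat.card_congr (Subgroup.equivMapOfInjective P _ (Subgroup.subtype_injective _)).symm.toEquiv, hP, F.card_gen,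
      pow_two_seven]
  let SP : Sylow 2 F.gen := Sylow.ofCard _ hPc
  have hto : orderOf (⟨t, ht⟩ : F.gen) = 2 := by rw [Subgroup.orderOf_mk, ho]
  obtain ⟨S, hS⟩ := (IsPGroup.of_card (n := 1) (by rw [Nat.card_zpowers, hto, pow_one]) :
    IsPGroup 2 (Subgroup.zpowers (⟨t, ht⟩ : F.gen))).exists_le_sylow
  obtain ⟨c, hc⟩ := MulAction.exists_smul_eq F.gen S SP
  have h1 : MulAut.conj c ⟨t, ht⟩ ∈ ((c • S : Sylow 2 F.gen) : Subgroup F.gen) :=
    Subgroup.mem_map_of_mem _ (hS (Subgroup.mem_zpowers _))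
  rw [hc, Sylow.coe_ofCard, Subgroup.mem_subgroupOf] at h1
  obtain ⟨p, hp, e⟩ : (c : G) * t * (c : G)⁻¹ ∈ F.hSub := Subgroup.map_subtype_le P (by simpa using h1)
  have ho' : orderOf (F.ev p) = 2 := by rw [← e, ← MulAut.conj_apply, MulEquiv.orderOf_eq, ho]
  have hpp : mul p p = 0 := F.inj _ (HRel.mul_lt hp hp) (by
    rw [F.toHRel.ev_mul hp hp, ← pow_two, ← ho', pow_orderOf_eq_one])
  have hp0 : p ≠ 0 := fun h => by rw [h, F.toHRel.ev_zero, orderOf_one] at ho'; omega
  obtain ⟨x, hx, ex⟩ := F.conj_z hp hpp hp0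
  refine ⟨x * c, mul_mem hx c.2, ?_⟩
  rw [← ex, ← e]
  group

theorem cent_le {x : G} (h : x * F.ev 4 = F.ev 4 * x) : x ∈ F.gen := by
  obtain ⟨p, hp, e⟩ := F.cent x (by rw [← F.toHRel.ev_z]; exact h)
  exact F.toGRel.hSub_le_gen ⟨p, hp, e⟩

/-- the generated subgroup is the whole group -/
theorem gen_eq_top : F.gen = ⊤ := by
  by_contra hne
  have hz : F.ev 4 ∈ F.gen := F.toGRel.hSub_le_gen ⟨4, by omega, rfl⟩
  have hzo : orderOf (F.ev 4) = 2 := orderOf_eq_prime (by rw [pow_two]; exact F.z_ev.1) F.z_ev.2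
  have hse : Cfsg.IsStronglyEmbedded F.gen := by
    refine ⟨hne, even_iff_two_dvd.2 (by rw [F.card_gen]; norm_num), fun g hg => ?_⟩
    by_contra hodd
    haveI : Fact (Nat.Prime 2) := ⟨Nat.prime_two⟩
    obtain ⟨⟨t, ht1, t', ht', et⟩, ht⟩ := exists_prime_orderOf_dvd_card' 2
      (even_iff_two_dvd.1 (Nat.not_odd_iff_even.1 hodd))
    rw [← Subgroup.orderOf_coe] at ht
    change orderOf t = 2 at ht
    have et : g * t' * g⁻¹ = t := et
    have ht'o : orderOf t' = 2 := by rw [← et, ← MulAut.conj_apply, MulEquiv.orderOf_eq] at ht; exact ht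
    obtain ⟨a, ha, ea⟩ := F.invol_gen ht1 ht
    obtain ⟨b, hb, eb⟩ := F.invol_gen ht' ht'o
    have h : a * g * b⁻¹ ∈ F.gen := F.cent_le (mul_inv_eq_iff_eq_mul.1 (by
      rw [← eb]
      calc a * g * b⁻¹ * (b * t' * b⁻¹) * (a * g * b⁻¹)⁻¹ = a * (g * t' * g⁻¹) * a⁻¹ := by group
        _ = b * t' * b⁻¹ := by rw [et, ea, eb]))
    refine hg ?_
    have := mul_mem (mul_mem (inv_mem ha) h) hb
    rwa [show a⁻¹ * (a * g * b⁻¹) * b = g by group] at this
  obtain ⟨k, hk⟩ : ∃ k, k ∉ F.gen := by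
    by_contra h
    push Not at h
    exact hne (eq_top_iff.2 fun g _ => h g)
  set x : G ⧸ F.gen := QuotientGroup.mk 1
  set y : G ⧸ F.gen := QuotientGroup.mk k
  have hxy : y ≠ x := fun h => hk (by
    have := QuotientGroup.eq.1 h.symm
    simpa using this)
  have hfx : ∀ t ∈ F.gen, t • x = x := fun t ht => Fusion.SEPairs.smul_mk_eq_iff.2 (by simpa using ht)
  set D := F.gen ⊓ F.gen.map (MulAut.conj k).toMonoidHom
  have hDo : Odd (Nat.card D) := hse.2.2 k hk
  have hmemD : ∀ d : G, d • x = x → d • y = y → d ∈ D := fun d h1 h2 =>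
    ⟨by simpa using Fusion.SEPairs.smul_mk_eq_iff.1 h1,
      k⁻¹ * d * k, Fusion.SEPairs.smul_mk_eq_iff.1 h2, by show k * (k⁻¹ * d * k) * k⁻¹ = d; group⟩
  have htr : ∀ a ∈ F.gen, ∃ d ∈ D, d⁻¹ * a ∈ F.hSub := by
    intro a ha
    have hb : orderOf (a * F.ev 4 * a⁻¹) = 2 := by rw [← MulAut.conj_apply, MulEquiv.orderOf_eq, hzo]
    obtain ⟨d, hd1, hd2, hd3⟩ := Fusion.SEPairs.pair_transitive hse hxy hzo (hfx _ hz) hb
      (hfx _ (mul_mem (mul_mem ha hz) (inv_mem ha)))
    refine ⟨d, hmemD d hd1 hd2, ?_⟩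
    obtain ⟨p, hp, e⟩ := F.cent (d⁻¹ * a) (by
      rw [← F.toHRel.ev_z]
      calc d⁻¹ * a * F.ev 4 = d⁻¹ * (a * F.ev 4 * a⁻¹) * a := by group
        _ = d⁻¹ * (d * F.ev 4 * d⁻¹) * a := by rw [hd3]
        _ = _ := by group)
    exact ⟨p, hp, e⟩
  -- the index of the centralizer divides the order of `D`
  have hdvd : 2835 ∣ Nat.card D := by
    set Hg := F.hSub.subgroupOf F.gen
    set Dg := D.subgroupOf F.gen
    have hidx : Hg.index = 2835 := by
      have := Subgroup.card_mul_index Hg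
      rw [Nat.card_congr (Subgroup.subgroupOfEquivOfLe F.toGRel.hSub_le_gen).toEquiv, F.card_hSub, F.card_gen] at this
      omega
    have horb : MulAction.orbit Dg ((QuotientGroup.mk 1 : F.gen ⧸ Hg)) = Set.univ := by
      refine Set.eq_univ_of_forall fun q => ?_
      obtain ⟨⟨a, ha⟩, rfl⟩ := QuotientGroup.mk_surjective q
      obtain ⟨d, hd, he⟩ := htr a ha
      refine ⟨⟨⟨d, hd.1⟩, hd⟩, ?_⟩
      show QuotientGroup.mk ((⟨d, hd.1⟩ : F.gen) * 1) = QuotientGroup.mk (⟨a, ha⟩ : F.gen)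
      rw [mul_one, QuotientGroup.eq]
      exact he
    have h := Subgroup.card_mul_index (MulAction.stabilizer Dg ((QuotientGroup.mk 1 : F.gen ⧸ Hg)))
    rw [MulAction.index_stabilizer, horb, Set.ncard_univ, ← Subgroup.index, hidx] at h
    rw [← Nat.card_congr (Subgroup.subgroupOfEquivOfLe (inf_le_left : D ≤ F.gen)).toEquiv]
    exact Dvd.intro_left _ h
  have hcardD : Nat.card D ∣ 3265920 := F.card_gen ▸ Subgroup.card_dvd_of_le inf_le_left
  obtain ⟨a, b, ha, hb, hab⟩ := exists_comm_five_seven hDo ((by norm_num : 5 ∣ 2835).trans hdvd)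
    ((by norm_num : 7 ∣ 2835).trans hdvd) (fun h => by have := h.trans hcardD; norm_num at this)
    (fun h => by have := h.trans hcardD; norm_num at this)
  obtain ⟨e⟩ := F.gen_iso
  set ι : D →* F.gen := Subgroup.inclusion inf_le_left
  have hι : Function.Injective ι := Subgroup.inclusion_injective _
  refine no_thirty_five (a := (e.symm (ι a) : Equiv.Perm (Fin 280))) (b := (e.symm (ι b) : Equiv.Perm (Fin 280)))
    (SetLike.coe_mem _) (SetLike.coe_mem _) ?_ ?_ ?_
  · rw [Subgroup.orderOf_coe, MulEquiv.orderOf_eq, orderOf_injective ι hι, ha]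
  · rw [Subgroup.orderOf_coe, MulEquiv.orderOf_eq, orderOf_injective ι hι, hb]
  · rw [← Subgroup.coe_mul, ← Subgroup.coe_mul, ← map_mul, ← map_mul, ← map_mul, ← map_mul, hab]

include F in
theorem card_eq : Nat.card G = 2 ^ 7 * 3 ^ 6 * 5 * 7 := by
  rw [← Subgroup.card_top (G := G), ← F.gen_eq_top, F.card_gen]; norm_num

include F in
theorem one_class {a b : G} (ha : orderOf a = 2) (hb : orderOf b = 2) : IsConj a b := by
  obtain ⟨x, -, hx⟩ := F.invol_gen (F.gen_eq_top ▸ Subgroup.mem_top a) ha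
  obtain ⟨y, -, hy⟩ := F.invol_gen (F.gen_eq_top ▸ Subgroup.mem_top b) hb
  exact (isConj_iff.2 ⟨x, hx⟩).trans (isConj_iff.2 ⟨y, hy⟩).symm

include F in
theorem iso_psu (K : Type) [Field K] [Fintype K] (hK : Fintype.card K = 9) :
    Nonempty (G ≃* Cfsg.PSU 4 K 3) := by
  obtain ⟨e⟩ := F.gen_iso
  obtain ⟨e'⟩ := model_iso.2 K hK
  exact ⟨(Subgroup.topEquiv.symm.trans (MulEquiv.subgroupCongr F.gen_eq_top.symm)).trans (e.symm.trans e')⟩

end Frame

end Cfsg.Agent.Spor.UFour
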