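import Cfsg.Agent.Lib.Spor.UFourThreeType.SetupBase

/-!
An element of order three cycling the four-group, normalised to act as the model one: the frame.
-/

set_option autoImplicit false
set_option maxRecDepth 100000

namespace Cfsg.Agent.Spor.UFour

/-- the four generators of the centralizer of the four-group -/
def g4 : List ℕ := [96, 728, 2, 1]

/-- the product of a subword of four elements -/
def word4 (a b c d e : ℕ) : ℕ :=
  mul (mul (mul (bif Nat.beq (Nat.mod e 2) 1 then a else 0) (bif Nat.beq (Nat.mod (Nat.div e 2) 2) 1 then b else 0))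
    (bif Nat.beq (Nat.mod (Nat.div e 4) 2) 1 then c else 0)) (bif Nat.beq (Nat.mod (Nat.div e 8) 2) 1 then d else 0)

/-- the image of an element written over the four-group in four elements with known images -/
def h16 (a b c d a' b' c' d' : ℕ) (σ : ℕ → ℕ) (x : ℕ) : ℕ :=
  (List.range 16).foldr (fun e acc => bif w4.contains (mul x (inv (word4 a b c d e))) then
    mul (σ (mul x (inv (word4 a b c d e)))) (word4 a' b' c' d' e) else acc) 2000

/-- the cycle on the four-group -/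
def fw4 (w : ℕ) : ℕ := bif Nat.beq w 4 then 104 else bif Nat.beq w 104 then 108 else bif Nat.beq w 108 then 4 else w

/-- the image modulo the four-group under the first cycling element -/
def phi0 (r r' t x : ℕ) : ℕ := h16 r r' 2 t 2 t r r' sw4 (cj 676 x)

/-- membership in the centralizer of the four-group as a usable code -/
def okT (y : ℕ) : Bool := Nat.blt y 1152 && inT y

/-- equality modulo the four-group -/
def sameW (a b : ℕ) : Bool := w4.contains (mul (inv a) b)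

theorem stage_mod : allLt 1152 (fun t => !(inT t && pD t) || a8List.all fun r => a8List.all fun r' =>
    !baseCond r r' t ||
    (g4.all fun x => okT (phi0 r r' t x) && sameW (phi0 r r' t x) (fT x)) ||
    (g4.any fun x => okT (phi0 r r' t x) && okT (phi0 r r' t (phi0 r r' t x)) &&
      okT (phi0 r r' t (phi0 r r' t (phi0 r r' t x))) &&
      !sameW (phi0 r r' t (phi0 r r' t (phi0 r r' t x))) x)) = true := by decide +kernel

/-- the image under an element acting as the model up to the four-group -/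
def phiD (d₀ d₁ d₂ d₃ x : ℕ) : ℕ :=
  h16 96 728 2 1 (mul (fT 96) d₀) (mul (fT 728) d₁) (mul (fT 2) d₂) (mul (fT 1) d₃) fw4 x

theorem stage_exact : (w4.all fun d₀ => w4.all fun d₁ => w4.all fun d₂ => w4.all fun d₃ =>
    (g4.all fun x => okT (phiD d₀ d₁ d₂ d₃ x) && okT (phiD d₀ d₁ d₂ d₃ (phiD d₀ d₁ d₂ d₃ x)) &&
      okT (phiD d₀ d₁ d₂ d₃ (phiD d₀ d₁ d₂ d₃ (phiD d₀ d₁ d₂ d₃ x)))) &&
    ((g4.any fun x => !Nat.beq (phiD d₀ d₁ d₂ d₃ (phiD d₀ d₁ d₂ d₃ (phiD d₀ d₁ d₂ d₃ x))) x) ||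
      !allLt 1152 fun t => !inT t || !g4.all fun x => w4.contains (mul (inv x) (cj (inv t) x)) &&
        Nat.beq (cj t (mul (phiD d₀ d₁ d₂ d₃ x) (fw4 (mul (inv x) (cj (inv t) x))))) (fT x))) = true := by
  decide +kernel

theorem stage_tau : allLt 1152 (fun p => !inT p ||
    !(g4.all fun x => Nat.beq (cj p x) (fT (cj 676 (fT (cj (inv 676) x))))) ||
    !Nat.beq (fT (cj 676 (mul p 4))) (mul p 4) || Nat.beq p 7 || Nat.beq p 107) = true := by decide +kernel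

theorem t_facts : allLt 1152 (fun p => !inT p ||
    (inT (cj 676 p) || !Nat.beq (cj 676 104) 108) && (w4.all fun w => Nat.beq (mul w p) (mul p w)) &&
    inT (mul 4 p) && inT (mul p 4) && inT (cj (inv 676) p) && okT (fT p) &&
    Nat.beq (mul (mul p p) 0) (mul p p) &&
    Nat.beq (mul (mul (mul p p) (mul p p)) (mul (mul p p) (mul p p))) 0) = true := by decide +kernel

theorem t_comm : allLt 1152 (fun p => !inT p || allLt 1152 fun y => !inT y || w4.contains (cm p y)) = true := by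
  decide +kernel

theorem t_closed : allLt 1152 (fun p => !inT p || allLt 1152 fun y => !inT y || inT (mul p y)) = true := by
  decide +kernel

theorem h16_aux : ∀ (a b c d a' b' c' d' : ℕ) (σ : ℕ → ℕ) (x : ℕ), h16 a b c d a' b' c' d' σ x = 2000 ∨
    ∃ e, e < 16 ∧ w4.contains (mul x (inv (word4 a b c d e))) = true ∧
      h16 a b c d a' b' c' d' σ x = mul (σ (mul x (inv (word4 a b c d e)))) (word4 a' b' c' d' e) := by
  intro a b c d a' b' c' d' σ x
  unfold h16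
  have key : ∀ l : List ℕ, (∀ e ∈ l, e < 16) → (l.foldr (fun e acc => bif w4.contains (mul x (inv (word4 a b c d e))) then
      mul (σ (mul x (inv (word4 a b c d e)))) (word4 a' b' c' d' e) else acc) 2000 = 2000) ∨
      ∃ e, e < 16 ∧ w4.contains (mul x (inv (word4 a b c d e))) = true ∧
        l.foldr (fun e acc => bif w4.contains (mul x (inv (word4 a b c d e))) then
          mul (σ (mul x (inv (word4 a b c d e)))) (word4 a' b' c' d' e) else acc) 2000 =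
        mul (σ (mul x (inv (word4 a b c d e)))) (word4 a' b' c' d' e) := by
    intro l
    induction l with
    | nil => exact fun _ => Or.inl rfl
    | cons e l ih =>
      intro hl
      rw [List.foldr_cons]
      cases h : w4.contains (mul x (inv (word4 a b c d e)))
      · rw [cond_false]
        exact ih fun e' he' => hl e' (List.mem_cons_of_mem _ he')
      · rw [cond_true]
        exact Or.inr ⟨e, hl e List.mem_cons_self, h, rfl⟩
  exact key _ fun e he => List.mem_range.1 he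

namespace Base

variable {G : Type*} [Group G] (B : Base G)

theorem ev_eq {p q : ℕ} (hp : p < 1152) (hq : q < 1152) (e : B.ev p = B.ev q) : p = q :=
  mul_inv_zero hp hq (B.inj _ (HRel.mul_lt hp (HRel.inv_lt hq))
    (by rw [B.toHRel.ev_mul hp (HRel.inv_lt hq), B.toHRel.ev_inv hq, e, mul_inv_cancel]))

theorem w4_lt {w : ℕ} (hw : w ∈ w4) : w < 1152 ∧ inT w = true := by
  have : ∀ w ∈ w4, w < 1152 ∧ inT w = true := by decide +kernel
  exact this w hw

theorem t_fact {p : ℕ} (hp : p < 1152) (hT : inT p = true) :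
    (∀ w ∈ w4, B.ev w * B.ev p = B.ev p * B.ev w) ∧ inT (mul 4 p) = true ∧ inT (mul p 4) = true ∧
      inT (cj 676 p) = true ∧ inT (cj (inv 676) p) = true ∧ fT p < 1152 ∧ inT (fT p) = true ∧
      B.ev p ^ 8 = 1 := by
  have k := allLt_spec t_facts p hp
  rw [hT] at k
  simp only [Bool.not_true, Bool.false_or, Bool.and_eq_true, Bool.or_eq_true, List.all_eq_true, okT] at k
  obtain ⟨⟨⟨⟨⟨⟨⟨k1, k2⟩, k3⟩, k4⟩, k5⟩, k6, k6'⟩, -⟩, k8⟩ := k
  refine ⟨fun w hw => ?_, k3, k4, ?_, k5, Nat.le_of_ble_eq_true k6, k6', ?_⟩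
  · rw [← B.toHRel.ev_mul (w4_lt hw).1 hp, ← B.toHRel.ev_mul hp (w4_lt hw).1, Nat.eq_of_beq_eq_true (k2 w hw)]
  · rcases k1 with h | h
    · exact h
    · exact absurd h (by decide +kernel)
  · have h2 := HRel.mul_lt hp hp
    have h4 := HRel.mul_lt h2 h2
    rw [show B.ev p ^ 8 = B.ev p * B.ev p * (B.ev p * B.ev p) * (B.ev p * B.ev p * (B.ev p * B.ev p)) by
      simp only [pow_succ, pow_zero, one_mul, mul_assoc], ← B.toHRel.ev_mul hp hp, ← B.toHRel.ev_mul h2 h2,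
      ← B.toHRel.ev_mul h4 h4, Nat.eq_of_beq_eq_true k8, B.toHRel.ev_zero]

theorem cm_ev {p q : ℕ} (hp : p < 1152) (hq : q < 1152) :
    B.ev (cm p q) = B.ev p * B.ev q * (B.ev p)⁻¹ * (B.ev q)⁻¹ := by
  rw [cm, B.toHRel.ev_mul (HRel.mul_lt hp hq) (HRel.mul_lt (HRel.inv_lt hp) (HRel.inv_lt hq)),
    B.toHRel.ev_mul hp hq, B.toHRel.ev_mul (HRel.inv_lt hp) (HRel.inv_lt hq), B.toHRel.ev_inv hp,
    B.toHRel.ev_inv hq, mul_assoc (B.ev p * B.ev q)]

theorem conj_mem_T {p y : ℕ} (hp : p < 1152) (hpT : inT p = true) (hy : y < 1152) (hyT : inT y = true) :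
    ∃ w ∈ w4, B.ev p * B.ev y * (B.ev p)⁻¹ = B.ev w * B.ev y := by
  have k := allLt_spec t_comm p hp
  rw [hpT, Bool.not_true, Bool.false_or] at k
  have k' := allLt_spec k y hy
  rw [hyT, Bool.not_true, Bool.false_or, List.contains_iff_mem] at k'
  exact ⟨_, k', by rw [B.cm_ev hp hy, inv_mul_cancel_right]⟩

theorem mul_T {p y : ℕ} (hp : p < 1152) (hpT : inT p = true) (hy : y < 1152) (hyT : inT y = true) :
    inT (mul p y) = true := by
  have k := allLt_spec t_closed p hp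
  rw [hpT, Bool.not_true, Bool.false_or] at k
  have k' := allLt_spec k y hy
  rwa [hyT, Bool.not_true, Bool.false_or] at k'

/-- an element of the centralizer of the four-group has a code there -/
theorem exists_code {x : G} (h1 : x * B.ev 4 = B.ev 4 * x) (h2 : x * B.ev 104 = B.ev 104 * x) :
    ∃ p, p < 1152 ∧ inT p = true ∧ x = B.ev p := by
  rw [B.toHRel.ev_z] at h1
  obtain ⟨p, hp, rfl⟩ := B.cent x h1
  refine ⟨p, hp, ?_, rfl⟩
  have : cj p 104 = 104 := B.ev_eq (HRel.mul_lt (HRel.mul_lt hp (by omega)) (HRel.inv_lt hp)) (by omega) (by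
    rw [B.toHRel.ev_cj hp (by omega), h2, mul_inv_cancel_right])
  show Nat.beq (cj p 104) 104 = true
  rw [this]; rfl

/-- images of products from images of four elements -/
theorem h16_spec (P : ℕ → ℕ → Prop) {a b c d a' b' c' d' : ℕ} {σ : ℕ → ℕ} {x : ℕ} (hx : x < 1152)
    (hl : a < 1152 ∧ b < 1152 ∧ c < 1152 ∧ d < 1152) (hl' : a' < 1152 ∧ b' < 1152 ∧ c' < 1152 ∧ d' < 1152)
    (hT : inT a' = true ∧ inT b' = true ∧ inT c' = true ∧ inT d' = true)
    (hσ : ∀ w ∈ w4, σ w ∈ w4)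
    (hmul : ∀ u v u' v', u < 1152 → v < 1152 → u' < 1152 → v' < 1152 → inT v = true → inT v' = true →
      P u v → P u' v' → P (mul u u') (mul v v'))
    (heq : ∀ u u' v, u < 1152 → u' < 1152 → B.ev u = B.ev u' → P u v → P u' v)
    (h0 : P 0 0) (hW : ∀ w ∈ w4, P w (σ w)) (ha : P a a') (hb : P b b') (hc : P c c') (hd : P d d')
    (hne : h16 a b c d a' b' c' d' σ x ≠ 2000) : P x (h16 a b c d a' b' c' d' σ x) := by
  rcases h16_aux a b c d a' b' c' d' σ x with h | ⟨e, he, hcw, heqn⟩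
  · exact absurd h hne
  rw [List.contains_iff_mem] at hcw
  have pick : ∀ (q : Bool) {u v : ℕ}, u < 1152 → v < 1152 → inT v = true → P u v →
      (bif q then u else 0) < 1152 ∧ (bif q then v else 0) < 1152 ∧ inT (bif q then v else 0) = true ∧
        P (bif q then u else 0) (bif q then v else 0) := by
    intro q u v hu hv hvT hp
    cases q
    · exact ⟨by simp, by simp, (show inT 0 = true by decide +kernel), h0⟩
    · exact ⟨hu, hv, hvT, hp⟩
  obtain ⟨a1, a2, a3, a4⟩ := pick (Nat.beq (Nat.mod e 2) 1) hl.1 hl'.1 hT.1 ha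
  obtain ⟨b1, b2, b3, b4⟩ := pick (Nat.beq (Nat.mod (Nat.div e 2) 2) 1) hl.2.1 hl'.2.1 hT.2.1 hb
  obtain ⟨c1, c2, c3, c4⟩ := pick (Nat.beq (Nat.mod (Nat.div e 4) 2) 1) hl.2.2.1 hl'.2.2.1 hT.2.2.1 hc
  obtain ⟨d1, d2, d3, d4⟩ := pick (Nat.beq (Nat.mod (Nat.div e 8) 2) 1) hl.2.2.2 hl'.2.2.2 hT.2.2.2 hd
  have l2 := HRel.mul_lt a1 b1
  have l2' := HRel.mul_lt a2 b2
  have t2 := mul_T a2 a3 b2 b3
  have p2 := hmul _ _ _ _ a1 a2 b1 b2 a3 b3 a4 b4
  have l3 := HRel.mul_lt l2 c1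
  have l3' := HRel.mul_lt l2' c2
  have t3 := mul_T l2' t2 c2 c3
  have p3 := hmul _ _ _ _ l2 l2' c1 c2 t2 c3 p2 c4
  have l4 := HRel.mul_lt l3 d1
  have l4' := HRel.mul_lt l3' d2
  have t4 := mul_T l3' t3 d2 d3
  have p4 := hmul _ _ _ _ l3 l3' d1 d2 t3 d3 p3 d4
  rw [heqn]
  have lw := (w4_lt hcw).1
  have hs := hσ _ hcw
  refine heq (mul (mul x (inv (word4 a b c d e))) (word4 a b c d e)) x _ (HRel.mul_lt lw l4) hx ?_
    (hmul _ _ _ _ lw (w4_lt hs).1 l4 l4' (w4_lt hs).2 t4 (hW _ hcw) p4)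
  have lwd : word4 a b c d e < 1152 := l4
  rw [B.toHRel.ev_mul lw lwd, B.toHRel.ev_mul hx (HRel.inv_lt lwd), B.toHRel.ev_inv lwd, inv_mul_cancel_right]

/-- conjugation by `h` sends `x` to `y` up to the four-group -/
def RelW (h : G) (x y : ℕ) : Prop := ∃ w ∈ w4, h * B.ev x * h⁻¹ = B.ev w * B.ev y

/-- conjugation by `h` sends `x` to `y` -/
def Rel (h : G) (x y : ℕ) : Prop := h * B.ev x * h⁻¹ = B.ev y

theorem w4_mul {w v : ℕ} (hw : w ∈ w4) (hv : v ∈ w4) : mul w v ∈ w4 := by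
  have : ∀ w ∈ w4, ∀ v ∈ w4, mul w v ∈ w4 := by decide +kernel
  exact this w hw v hv

/-- the first element of order three -/
theorem exists_mod : ∃ g : G, g * g * g = 1 ∧ (∀ w ∈ w4, g * B.ev w * g⁻¹ = B.ev (fw4 w)) ∧
    ∀ x ∈ g4, B.RelW g x (fT x) := by
  have l676 : (676 : ℕ) < 1152 := by omega
  obtain ⟨g2, hg2⟩ : ∃ g2, g2 = B.g₀ * B.ev 676 := ⟨_, rfl⟩
  have h108 : B.g₀ * B.ev 108 * B.g₀⁻¹ = B.ev 108 := by
    rw [show (108 : ℕ) = mul 104 4 by decide +kernel, B.toHRel.ev_mul (by omega) (by omega), ← conj_mul, B.g₀_q,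
      B.g₀_z, ← B.toHRel.ev_mul (by omega) (by omega), ← B.toHRel.ev_mul (by omega) (by omega)]
    congr 1
  have hsw : ∀ w ∈ w4, B.g₀ * B.ev w * B.g₀⁻¹ = B.ev (sw4 w) := by
    intro w hw
    simp only [w4, List.mem_cons, List.not_mem_nil, or_false] at hw
    rcases hw with rfl | rfl | rfl | rfl
    · rw [show sw4 0 = 0 from rfl, B.toHRel.ev_zero, mul_one, mul_inv_cancel]
    · exact B.g₀_z
    · exact B.g₀_q
    · exact h108
  have hj : ∀ w ∈ w4, cj 676 w ∈ w4 ∧ sw4 (cj 676 w) = fw4 w ∧ fw4 w ∈ w4 ∧ fw4 (fw4 (fw4 w)) = w := by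
    decide +kernel
  have hg2w : ∀ w ∈ w4, g2 * B.ev w * g2⁻¹ = B.ev (fw4 w) := by
    intro w hw
    rw [hg2, show B.g₀ * B.ev 676 * B.ev w * (B.g₀ * B.ev 676)⁻¹ =
      B.g₀ * (B.ev 676 * B.ev w * (B.ev 676)⁻¹) * B.g₀⁻¹ by group, ← B.toHRel.ev_cj l676 (w4_lt hw).1,
      hsw _ (hj w hw).1, (hj w hw).2.1]
  have h3 : ∀ w ∈ w4, g2 ^ 3 * B.ev w = B.ev w * g2 ^ 3 := by
    intro w hw
    rw [← mul_inv_eq_iff_eq_mul, show g2 ^ 3 * B.ev w * (g2 ^ 3)⁻¹ =
      g2 * (g2 * (g2 * B.ev w * g2⁻¹) * g2⁻¹) * g2⁻¹ by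
        simp only [pow_succ, pow_zero, one_mul, mul_inv_rev, mul_assoc], hg2w _ hw, hg2w _ (hj w hw).2.2.1,
      hg2w _ (hj _ (hj w hw).2.2.1).2.2.1, (hj w hw).2.2.2]
  obtain ⟨p, hp, hpT, ep⟩ := B.exists_code (h3 4 (by simp [w4])) (h3 104 (by simp [w4]))
  obtain ⟨-, -, -, -, -, -, -, h8⟩ := B.t_fact hp hpT
  obtain ⟨p0, hp0, hp0T, ep0⟩ := B.exists_code (x := (g2 ^ 3) ^ 21)
    ((show Commute (g2 ^ 3) (B.ev 4) from h3 4 (by simp [w4])).pow_left 21)
    ((show Commute (g2 ^ 3) (B.ev 104) from h3 104 (by simp [w4])).pow_left 21)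
  have hg : g2 ^ 64 = g2 * B.ev p0 := by rw [← ep0, ← pow_mul, ← pow_succ']
  have hgw : ∀ w ∈ w4, g2 ^ 64 * B.ev w * (g2 ^ 64)⁻¹ = B.ev (fw4 w) := by
    intro w hw
    rw [hg, show g2 * B.ev p0 * B.ev w * (g2 * B.ev p0)⁻¹ =
      g2 * (B.ev p0 * B.ev w) * (B.ev p0)⁻¹ * g2⁻¹ by group, ← (B.t_fact hp0 hp0T).1 w hw, ← mul_assoc g2,
      mul_inv_cancel_right, hg2w w hw]
  refine ⟨g2 ^ 64, ?_, hgw, ?_⟩
  · rw [← pow_add, ← pow_add, show 64 + 64 + 64 = 3 * (8 * 8) from rfl, pow_mul, ep, pow_mul, h8, one_pow]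
  obtain ⟨hrl, hr'l⟩ : B.r < 1152 ∧ B.r' < 1152 := by
    have : ∀ a ∈ a8List, a < 1152 := by decide
    exact ⟨this _ B.r_mem, this _ B.r'_mem⟩
  have hc := B.cond
  have hTr : inT B.r = true ∧ inT B.r' = true := by
    have : ∀ a ∈ a8List, inT a = true := by decide +kernel
    exact ⟨this _ B.r_mem, this _ B.r'_mem⟩
  simp only [baseCond, Bool.and_eq_true] at hc
  have htD : pD B.t = true := hc.1.1.1.1.1.1.1.1.1.1.2
  have htT : inT B.t = true := hc.2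
  have hmulW : ∀ (h : G) u v u' v', u < 1152 → v < 1152 → u' < 1152 → v' < 1152 → inT v = true → inT v' = true →
      B.RelW h u v → B.RelW h u' v' → B.RelW h (mul u u') (mul v v') := by
    intro h u v u' v' hu hv hu' hv' hvT _ ⟨w, hw, e⟩ ⟨w', hw', e'⟩
    refine ⟨mul w w', w4_mul hw hw', ?_⟩
    rw [B.toHRel.ev_mul hu hu', B.toHRel.ev_mul (w4_lt hw).1 (w4_lt hw').1, B.toHRel.ev_mul hv hv', ← conj_mul, e,
      e', mul_assoc, ← mul_assoc (B.ev v), ← (B.t_fact hv hvT).1 w' hw']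
    simp only [mul_assoc]
  have hphi : ∀ y, y < 1152 → inT y = true → okT (phi0 B.r B.r' B.t y) = true →
      B.RelW (g2 ^ 64) y (phi0 B.r B.r' B.t y) := by
    intro y hy hyT hok
    obtain ⟨hl, -⟩ := Bool.and_eq_true_iff.mp hok
    have hl : phi0 B.r B.r' B.t y < 1152 := Nat.le_of_ble_eq_true hl
    have hjy : cj 676 y < 1152 := HRel.mul_lt (HRel.mul_lt l676 hy) (HRel.inv_lt l676)
    have hR : B.RelW B.g₀ (cj 676 y) (phi0 B.r B.r' B.t y) := by
      refine B.h16_spec (fun u v => B.RelW B.g₀ u v) hjy ⟨hrl, hr'l, by omega, B.t_lt⟩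
        ⟨by omega, B.t_lt, hrl, hr'l⟩ ⟨by decide +kernel, htT, hTr.1, hTr.2⟩ (by decide) (hmulW B.g₀) ?_ ?_ ?_ ?_ ?_
        ?_ ?_ (fun h => by
          have h' : phi0 B.r B.r' B.t y = 2000 := h
          rw [h'] at hl; omega)
      · rintro u u' v - - e ⟨w, hw, ew⟩
        exact ⟨w, hw, by rw [← e]; exact ew⟩
      · exact ⟨0, by simp [w4], by rw [B.toHRel.ev_zero, mul_one, mul_inv_cancel, mul_one]⟩
      · exact fun w hw => ⟨0, by simp [w4], by rw [B.toHRel.ev_zero, one_mul, hsw w hw]⟩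
      · exact ⟨0, by simp [w4], by rw [B.toHRel.ev_zero, one_mul, B.g₀_r]⟩
      · exact ⟨0, by simp [w4], by rw [B.toHRel.ev_zero, one_mul, B.g₀_r']⟩
      · obtain ⟨w, hw, e⟩ := B.g₀_s
        exact ⟨w, hw, by rw [e, B.toHRel.ev_mul (w4_lt hw).1 hrl]⟩
      · obtain ⟨w, hw, e⟩ := B.g₀_t
        exact ⟨w, hw, by rw [e, B.toHRel.ev_mul (w4_lt hw).1 hr'l]⟩
    obtain ⟨w, hw, e⟩ := hR
    obtain ⟨v, hv, ev'⟩ := B.conj_mem_T hp0 hp0T hy hyT
    refine ⟨mul (fw4 v) w, w4_mul (hj v hv).2.2.1 hw, ?_⟩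
    rw [B.toHRel.ev_mul (w4_lt (hj v hv).2.2.1).1 (w4_lt hw).1, mul_assoc (B.ev (fw4 v)), ← e, ← hg2w v hv, hg,
      show g2 * B.ev p0 * B.ev y * (g2 * B.ev p0)⁻¹ = g2 * (B.ev p0 * B.ev y * (B.ev p0)⁻¹) * g2⁻¹ by group, ev',
      B.toHRel.ev_cj l676 hy, hg2]
    group
  have hwc : ∀ {a b : ℕ}, a < 1152 → inT a = true → b < 1152 → sameW a b = true →
      ∃ w ∈ w4, B.ev b = B.ev w * B.ev a := by
    intro a b ha haT hb hs
    have hw := List.contains_iff_mem.1 hs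
    exact ⟨_, hw, by
      rw [(B.t_fact ha haT).1 _ hw, B.toHRel.ev_mul (HRel.inv_lt ha) hb, B.toHRel.ev_inv ha, mul_inv_cancel_left]⟩
  have k := allLt_spec stage_mod B.t B.t_lt
  rw [htT, htD, Bool.and_self, Bool.not_true, Bool.false_or] at k
  have k' := List.all_eq_true.1 (List.all_eq_true.1 k _ B.r_mem) _ B.r'_mem
  rw [B.cond, Bool.not_true, Bool.false_or, Bool.or_eq_true] at k'
  have g4lt : ∀ x ∈ g4, x < 1152 ∧ inT x = true ∧ fT x < 1152 := by decide +kernel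
  rcases k' with k' | k'
  · intro x hx
    obtain ⟨h1, h2⟩ := Bool.and_eq_true_iff.mp (List.all_eq_true.1 k' x hx)
    obtain ⟨hl, hT'⟩ := Bool.and_eq_true_iff.mp h1
    have hl : phi0 B.r B.r' B.t x < 1152 := Nat.le_of_ble_eq_true hl
    obtain ⟨w, hw, e⟩ := hphi x (g4lt x hx).1 (g4lt x hx).2.1 h1
    obtain ⟨v, hv, ev'⟩ := hwc hl hT' (g4lt x hx).2.2 h2
    refine ⟨mul w (inv v), w4_mul hw ?_, ?_⟩
    · have : ∀ w ∈ w4, inv w ∈ w4 := by decide +kernel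
      exact this v hv
    · rw [e, ev', B.toHRel.ev_mul (w4_lt hw).1 (HRel.inv_lt (w4_lt hv).1), B.toHRel.ev_inv (w4_lt hv).1]
      group
  · exfalso
    obtain ⟨x, hx, hb⟩ := List.any_eq_true.1 k'
    simp only [Bool.and_eq_true, Bool.not_eq_true'] at hb
    obtain ⟨⟨⟨o1, o2⟩, o3⟩, hns⟩ := hb
    obtain ⟨hxl, hxT, -⟩ := g4lt x hx
    set y1 := phi0 B.r B.r' B.t x
    set y2 := phi0 B.r B.r' B.t y1
    set y3 := phi0 B.r B.r' B.t y2
    have sp : ∀ {y}, okT y = true → y < 1152 ∧ inT y = true := fun h =>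
      ⟨Nat.le_of_ble_eq_true (Bool.and_eq_true_iff.mp h).1, (Bool.and_eq_true_iff.mp h).2⟩
    obtain ⟨w1, hw1, e1⟩ := hphi x hxl hxT o1
    obtain ⟨w2, hw2, e2⟩ := hphi y1 (sp o1).1 (sp o1).2 o2
    obtain ⟨w3, hw3, e3⟩ := hphi y2 (sp o2).1 (sp o2).2 o3
    have hg3 : g2 ^ 64 * g2 ^ 64 * g2 ^ 64 = 1 := by
      rw [← pow_add, ← pow_add, show 64 + 64 + 64 = 3 * (8 * 8) from rfl, pow_mul, ep, pow_mul, h8, one_pow]
    generalize g2 ^ 64 = g at hgw e1 e2 e3 hg3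
    have hx3 : B.ev x = B.ev (fw4 (fw4 w1)) * B.ev (fw4 w2) * B.ev w3 * B.ev y3 := by
      calc B.ev x = (g * g * g) * B.ev x * (g * g * g)⁻¹ := by rw [hg3, one_mul, inv_one, mul_one]
        _ = g * (g * (g * B.ev x * g⁻¹) * g⁻¹) * g⁻¹ := by group
        _ = _ := by
          have cc : ∀ u v : G, g * (u * v) * g⁻¹ = (g * u * g⁻¹) * (g * v * g⁻¹) := fun u v => conj_mul.symm
          rw [e1, cc (B.ev w1), hgw w1 hw1, e2, cc (B.ev (fw4 w1)), hgw _ (hj w1 hw1).2.2.1, cc (B.ev w2),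
            hgw w2 hw2, e3]
          simp only [y3, mul_assoc]
    have hm : mul (mul (fw4 (fw4 w1)) (fw4 w2)) w3 ∈ w4 :=
      w4_mul (w4_mul (hj _ (hj w1 hw1).2.2.1).2.2.1 (hj w2 hw2).2.2.1) hw3
    rw [← B.toHRel.ev_mul (w4_lt (hj _ (hj w1 hw1).2.2.1).2.2.1).1 (w4_lt (hj w2 hw2).2.2.1).1,
      ← B.toHRel.ev_mul (HRel.mul_lt (w4_lt (hj _ (hj w1 hw1).2.2.1).2.2.1).1 (w4_lt (hj w2 hw2).2.2.1).1)
        (w4_lt hw3).1] at hx3
    generalize mul (mul (fw4 (fw4 w1)) (fw4 w2)) w3 = W at hm hx3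
    have he : mul (inv y3) x = W := B.ev_eq (HRel.mul_lt (HRel.inv_lt (sp o3).1) hxl) (w4_lt hm).1 (by
      rw [B.toHRel.ev_mul (HRel.inv_lt (sp o3).1) hxl, B.toHRel.ev_inv (sp o3).1, hx3,
        (B.t_fact (sp o3).1 (sp o3).2).1 W hm, inv_mul_cancel_left])
    rw [sameW, he, List.contains_iff_mem.2 hm] at hns
    exact absurd hns (by simp)

/-- the element of order three acting as the model on the centralizer of the four-group -/
theorem exists_exact : ∃ g : G, g * g * g = 1 ∧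
    ∀ p, p < 1152 → inT p = true → g * B.ev p * g⁻¹ = B.ev (fT p) := by
  obtain ⟨g, hg3, hgw, hg4⟩ := B.exists_mod
  have g4lt : ∀ x ∈ g4, x < 1152 ∧ inT x = true ∧ fT x < 1152 ∧ inT (fT x) = true := by decide +kernel
  have hd : ∀ x ∈ g4, ∃ d ∈ w4, g * B.ev x * g⁻¹ = B.ev (mul (fT x) d) := by
    intro x hx
    obtain ⟨w, hw, e⟩ := hg4 x hx
    exact ⟨w, hw, by rw [e, B.toHRel.ev_mul (g4lt x hx).2.2.1 (w4_lt hw).1,
      (B.t_fact (g4lt x hx).2.2.1 (g4lt x hx).2.2.2).1 w hw]⟩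
  obtain ⟨d₀, hd₀, e₀⟩ := hd 96 (by simp [g4])
  obtain ⟨d₁, hd₁, e₁⟩ := hd 728 (by simp [g4])
  obtain ⟨d₂, hd₂, e₂⟩ := hd 2 (by simp [g4])
  obtain ⟨d₃, hd₃, e₃⟩ := hd 1 (by simp [g4])
  have hfw : ∀ w ∈ w4, fw4 w ∈ w4 := by decide
  have hrel : ∀ x, x < 1152 → okT (phiD d₀ d₁ d₂ d₃ x) = true → B.Rel g x (phiD d₀ d₁ d₂ d₃ x) := by
    intro x hx hok
    have hl : phiD d₀ d₁ d₂ d₃ x < 1152 := Nat.le_of_ble_eq_true (Bool.and_eq_true_iff.mp hok).1
    have it : ∀ x ∈ g4, ∀ d ∈ w4, mul (fT x) d < 1152 ∧ inT (mul (fT x) d) = true := fun x hx d hd =>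
      ⟨HRel.mul_lt (g4lt x hx).2.2.1 (w4_lt hd).1,
        mul_T (g4lt x hx).2.2.1 (g4lt x hx).2.2.2 (w4_lt hd).1 (w4_lt hd).2⟩
    obtain ⟨i0, j0⟩ := it 96 (by simp [g4]) d₀ hd₀
    obtain ⟨i1, j1⟩ := it 728 (by simp [g4]) d₁ hd₁
    obtain ⟨i2, j2⟩ := it 2 (by simp [g4]) d₂ hd₂
    obtain ⟨i3, j3⟩ := it 1 (by simp [g4]) d₃ hd₃
    refine B.h16_spec (fun u v => B.Rel g u v) hx ⟨by omega, by omega, by omega, by omega⟩ ⟨i0, i1, i2, i3⟩
      ⟨j0, j1, j2, j3⟩ hfw ?_ ?_ ?_ (fun w hw => hgw w hw) e₀ e₁ e₂ e₃ (fun h => by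
        have h' : phiD d₀ d₁ d₂ d₃ x = 2000 := h
        rw [h'] at hl; omega)
    · intro u v u' v' hu hv hu' hv' _ _ a b
      show g * B.ev (mul u u') * g⁻¹ = B.ev (mul v v')
      rw [B.toHRel.ev_mul hu hu', B.toHRel.ev_mul hv hv', ← conj_mul, show g * B.ev u * g⁻¹ = B.ev v from a,
        show g * B.ev u' * g⁻¹ = B.ev v' from b]
    · intro u u' v _ _ e a
      show g * B.ev u' * g⁻¹ = B.ev v
      rw [← e]; exact a
    · show g * B.ev 0 * g⁻¹ = B.ev 0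
      rw [B.toHRel.ev_zero, mul_one, mul_inv_cancel]
  have k := List.all_eq_true.1 (List.all_eq_true.1 (List.all_eq_true.1 (List.all_eq_true.1 stage_exact _ hd₀) _ hd₁)
    _ hd₂) _ hd₃
  simp only [Bool.and_eq_true, List.all_eq_true, Bool.or_eq_true] at k
  obtain ⟨hok, k⟩ := k
  have sp : ∀ {y}, okT y = true → y < 1152 ∧ inT y = true := fun h =>
    ⟨Nat.le_of_ble_eq_true (Bool.and_eq_true_iff.mp h).1, (Bool.and_eq_true_iff.mp h).2⟩
  have h3 : ∀ x ∈ g4, phiD d₀ d₁ d₂ d₃ (phiD d₀ d₁ d₂ d₃ (phiD d₀ d₁ d₂ d₃ x)) = x := by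
    intro x hx
    obtain ⟨⟨o1, o2⟩, o3⟩ := hok x hx
    refine B.ev_eq (sp o3).1 (g4lt x hx).1 ?_
    rw [← (hrel _ (sp o2).1 o3 : _ = _), ← (hrel _ (sp o1).1 o2 : _ = _), ← (hrel x (g4lt x hx).1 o1 : _ = _)]
    calc g * (g * (g * B.ev x * g⁻¹) * g⁻¹) * g⁻¹ = (g * g * g) * B.ev x * (g * g * g)⁻¹ := by group
      _ = B.ev x := by rw [hg3, one_mul, inv_one, mul_one]
  rcases k with k | k
  · obtain ⟨x, hx, hb⟩ := List.any_eq_true.1 k
    rw [h3 x hx, Nat.beq_refl] at hb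
    exact absurd hb (by simp)
  obtain ⟨t, ht, e⟩ := not_allLt k
  simp only [Bool.or_eq_false_iff, Bool.not_eq_false', List.all_eq_true, Bool.and_eq_true] at e
  obtain ⟨htT, hts⟩ := e
  refine ⟨B.ev t * g * (B.ev t)⁻¹, ?_, ?_⟩
  · calc B.ev t * g * (B.ev t)⁻¹ * (B.ev t * g * (B.ev t)⁻¹) * (B.ev t * g * (B.ev t)⁻¹)
        = B.ev t * (g * g * g) * (B.ev t)⁻¹ := by group
      _ = 1 := by rw [hg3, mul_one, mul_inv_cancel]
  refine B.toHRel.g_T_of_gens fun x hx => ?_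
  obtain ⟨hc, he⟩ := hts x hx
  obtain ⟨⟨o1, -⟩, -⟩ := hok x hx
  rw [List.contains_iff_mem] at hc
  have hxl := (g4lt x hx).1
  have hti := HRel.inv_lt ht
  have hcl : cj (inv t) x < 1152 := HRel.mul_lt (HRel.mul_lt hti hxl) (HRel.inv_lt hti)
  rw [← Nat.eq_of_beq_eq_true he, B.toHRel.ev_cj ht (HRel.mul_lt (sp o1).1 (w4_lt (hfw _ hc)).1),
    B.toHRel.ev_mul (sp o1).1 (w4_lt (hfw _ hc)).1, ← (hrel x hxl o1 : _ = _), ← hgw _ hc,
    B.toHRel.ev_mul (HRel.inv_lt hxl) hcl, B.toHRel.ev_inv hxl, B.toHRel.ev_cj hti hxl, B.toHRel.ev_inv ht]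
  group

include B in
/-- a frame -/
theorem exists_frame : Nonempty (Frame G) := by
  obtain ⟨g, hg3, hgT⟩ := B.exists_exact
  have l676 : (676 : ℕ) < 1152 := by omega
  have li : inv 676 < 1152 := HRel.inv_lt l676
  obtain ⟨τ, hτ⟩ : ∃ τ, τ = g * B.ev 676 * g * (B.ev 676)⁻¹ := ⟨_, rfl⟩
  have act : ∀ x, x < 1152 → inT x = true →
      τ * B.ev x * τ⁻¹ = B.ev (fT (cj 676 (fT (cj (inv 676) x)))) := by
    intro x hx hxT
    obtain ⟨-, -, -, -, k5, -, -, -⟩ := B.t_fact hx hxT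
    have l1 : cj (inv 676) x < 1152 := HRel.mul_lt (HRel.mul_lt li hx) (HRel.inv_lt li)
    obtain ⟨-, -, -, -, -, k6, k6', -⟩ := B.t_fact l1 k5
    obtain ⟨-, -, -, k4, -, -, -, -⟩ := B.t_fact k6 k6'
    have l3 : cj 676 (fT (cj (inv 676) x)) < 1152 := HRel.mul_lt (HRel.mul_lt l676 k6) (HRel.inv_lt l676)
    rw [← hgT _ l3 k4, B.toHRel.ev_cj l676 k6, ← hgT _ l1 k5, B.toHRel.ev_cj li hx, B.toHRel.ev_inv l676, hτ]
    group
  have fix : fT (cj 676 (fT (cj (inv 676) 4))) = 4 ∧ fT (cj 676 (fT (cj (inv 676) 104))) = 104 := by decide +kernel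
  have h4 := act 4 (by omega) (by decide +kernel)
  have h104 := act 104 (by omega) (by decide +kernel)
  rw [fix.1] at h4
  rw [fix.2] at h104
  obtain ⟨p, hp, hpT, ep⟩ := B.exists_code (mul_inv_eq_iff_eq_mul.1 h4) (mul_inv_eq_iff_eq_mul.1 h104)
  have lpz : mul p 4 < 1152 := HRel.mul_lt hp (by omega)
  obtain ⟨-, -, hpz, -, -, -, -, -⟩ := B.t_fact hp hpT
  have hcomm : fT (cj 676 (mul p 4)) = mul p 4 := by
    obtain ⟨-, -, -, k4, -, -, -, -⟩ := B.t_fact lpz hpz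
    have lc : cj 676 (mul p 4) < 1152 := HRel.mul_lt (HRel.mul_lt l676 lpz) (HRel.inv_lt l676)
    obtain ⟨-, -, -, -, -, k6, -, -⟩ := B.t_fact lc k4
    have hsq : B.ev (mul p 4) = g * B.ev 676 * (g * B.ev 676) := by
      rw [B.toHRel.ev_mul hp (by omega), ← ep, hτ, show (4 : ℕ) = mul 676 676 by decide +kernel,
        B.toHRel.ev_mul l676 l676]
      group
    refine B.ev_eq k6 lpz ?_
    rw [← hgT _ lc k4, B.toHRel.ev_cj l676 lpz, hsq]
    group
  have hp7 : p = 7 ∨ p = 107 := by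
    have k := allLt_spec stage_tau p hp
    rw [hpT, hcomm, Nat.beq_refl, show (g4.all fun x => Nat.beq (cj p x) (fT (cj 676 (fT (cj (inv 676) x))))) = true
      from List.all_eq_true.2 fun x hx => ?_] at k
    · simp only [Bool.not_true, Bool.false_or, Bool.or_eq_true] at k
      exact k.imp Nat.eq_of_beq_eq_true Nat.eq_of_beq_eq_true
    · have g4lt : ∀ x ∈ g4, x < 1152 ∧ inT x = true := by decide +kernel
      obtain ⟨hxl, hxT⟩ := g4lt x hx
      have h := act x hxl hxT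
      rw [ep, ← B.toHRel.ev_cj hp hxl] at h
      obtain ⟨-, -, -, -, k5, -, -, -⟩ := B.t_fact hxl hxT
      have l1 : cj (inv 676) x < 1152 := HRel.mul_lt (HRel.mul_lt li hxl) (HRel.inv_lt li)
      obtain ⟨-, -, -, -, -, k6, k6', -⟩ := B.t_fact l1 k5
      obtain ⟨-, -, -, k4, -, -, -, -⟩ := B.t_fact k6 k6'
      have l3 : cj 676 (fT (cj (inv 676) x)) < 1152 := HRel.mul_lt (HRel.mul_lt l676 k6) (HRel.inv_lt l676)
      obtain ⟨-, -, -, -, -, k6'', -, -⟩ := B.t_fact l3 k4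
      have e' : cj p x = fT (cj 676 (fT (cj (inv 676) x))) :=
        B.ev_eq (HRel.mul_lt (HRel.mul_lt hp hxl) (HRel.inv_lt hp)) k6'' h
      rw [e', Nat.beq_refl]
  rcases hp7 with rfl | rfl
  · exact ⟨{ toHRel := B.toHRel, g := g, g_cube := hg3, g_T := hgT, g_j := hτ.symm.trans ep, cent := B.cent,
             inj := B.inj }⟩
  have hw : ∀ w ∈ w4, g * B.ev w * g⁻¹ = B.ev (fT w) := fun w hw => hgT w (w4_lt hw).1 (w4_lt hw).2
  have hg4 : g * B.ev 4 = B.ev 104 * g := by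
    have h := hw 4 (by simp [w4]); rw [show fT 4 = 104 by decide +kernel] at h; exact mul_inv_eq_iff_eq_mul.1 h
  have hg104 : g * B.ev 104 = B.ev 108 * g := by
    have h := hw 104 (by simp [w4]); rw [show fT 104 = 108 by decide +kernel] at h; exact mul_inv_eq_iff_eq_mul.1 h
  refine ⟨{ toHRel := B.toHRel, g := g * B.ev 4, g_cube := ?_, g_T := ?_, g_j := ?_, cent := B.cent,
            inj := B.inj }⟩
  · calc g * B.ev 4 * (g * B.ev 4) * (g * B.ev 4)
        = B.ev 104 * (g * B.ev 104) * (g * (g * B.ev 4)) := by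
          rw [hg4]; simp only [mul_assoc]
      _ = B.ev 104 * B.ev 108 * (g * g * g) * B.ev 4 := by rw [hg104]; simp only [mul_assoc]
      _ = 1 := by
          rw [hg3, mul_one, ← B.toHRel.ev_mul (by omega) (by omega), ← B.toHRel.ev_mul
            (HRel.mul_lt (by omega) (by omega)) (by omega), show mul (mul 104 108) 4 = 0 by decide +kernel,
            B.toHRel.ev_zero]
  · intro q hq hqT
    obtain ⟨k1, -, -, -, -, -, -, -⟩ := B.t_fact hq hqT
    rw [show g * B.ev 4 * B.ev q * (g * B.ev 4)⁻¹ = g * (B.ev 4 * B.ev q * (B.ev 4)⁻¹) * g⁻¹ by group,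
      k1 4 (by simp [w4]), mul_inv_cancel_right, hgT q hq hqT]
  · have hj4 : B.ev 4 * B.ev 676 = B.ev 676 * B.ev 4 := by
      rw [← B.toHRel.ev_mul (by omega) l676, ← B.toHRel.ev_mul l676 (by omega)]
      congr 1
    calc g * B.ev 4 * B.ev 676 * (g * B.ev 4) * (B.ev 676)⁻¹
        = B.ev 104 * (g * B.ev 676 * g * (B.ev 676)⁻¹) * (B.ev 676 * B.ev 4 * (B.ev 676)⁻¹) := by
          nth_rewrite 1 [hg4]; group
      _ = _ := by
          rw [← hτ, ep, ← hj4, mul_inv_cancel_right, ← B.toHRel.ev_mul (by omega) (by omega),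
            ← B.toHRel.ev_mul (HRel.mul_lt (by omega) (by omega)) (by omega)]
          congr 1

end Base

end Cfsg.Agent.Spor.UFour
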