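import Cfsg.Agent.Lib.Spor.UFourThreeType.SetupHyp
import Cfsg.Agent.Lib.Spor.UFourThreeType.SetupCycle

/-!
Groups of type U4(3) have a frame.
-/

set_option autoImplicit false

namespace Cfsg.Agent.Spor.UFour

/-- the hypotheses of the characterisation give a frame -/
theorem frame_of_hyp {G : Type*} [Group G] [Finite G] (z : G) (hz : orderOf z = 2)
    (H₁ H₂ : Subgroup (Subgroup.centralizer ({z} : Set G)))
    (hK : H₁ ⊔ H₂ = Subgroup.closure {x : Subgroup.centralizer ({z} : Set G) | Odd (orderOf x)})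
    (hn₁ : (H₁.subgroupOf (H₁ ⊔ H₂)).Normal) (hn₂ : (H₂.subgroupOf (H₁ ⊔ H₂)).Normal)
    (e₁ : H₁ ≃* Matrix.SpecialLinearGroup (Fin 2) (ZMod 3)) (e₂ : H₂ ≃* Matrix.SpecialLinearGroup (Fin 2) (ZMod 3))
    (hmeet : (H₁ ⊓ H₂).map (Subgroup.subtype (Subgroup.centralizer ({z} : Set G))) = Subgroup.zpowers z)
    (Q : Subgroup (Subgroup.centralizer ({z} : Set G)))
    (hQ : Q = (Cfsg.pCore 2 ↥(H₁ ⊔ H₂)).map (Subgroup.subtype (H₁ ⊔ H₂)))
    (hF : Cfsg.generalizedFittingSubgroup (Subgroup.centralizer ({z} : Set G)) = Q)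
    (hnwc : ∃ g : G, (∃ hq : g * z * g⁻¹ ∈ Subgroup.centralizer ({z} : Set G),
      (⟨g * z * g⁻¹, hq⟩ : Subgroup.centralizer ({z} : Set G)) ∈ Q) ∧ g * z * g⁻¹ ≠ z)
    (hH : Nat.card ↥(Subgroup.centralizer ({z} : Set G)) = 2 ^ 7 * 3 ^ 2)
    (hQQg : ∀ g : G, g * z * g⁻¹ ∈ Q.map (Subgroup.subtype (Subgroup.centralizer ({z} : Set G))) → g * z * g⁻¹ ≠ z →
      Nat.card ↥((Q.map (Subgroup.subtype (Subgroup.centralizer ({z} : Set G)))) ⊓
        (Q.map (Subgroup.subtype (Subgroup.centralizer ({z} : Set G)))).map (MulAut.conj g).toMonoidHom) = 4) :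
    Nonempty (Frame G) := by
  obtain ⟨E⟩ := centData_of_hyp z hz H₁ H₂ hK hn₁ hn₂ e₁ e₂ hmeet Q hQ hF hnwc hH hQQg
  obtain ⟨R⟩ := E.exists_half
  obtain ⟨B⟩ := R.exists_base
  exact B.exists_frame

end Cfsg.Agent.Spor.UFour
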