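import Cfsg.Agent.Lib.Spor.UFourThreeType.Bound
import Cfsg.Agent.Lib.Spor.UFourThreeType.ModelData
import Cfsg.Agent.Lib.Local.FS.McLUnitaryStab
import Cfsg.Agent.Lib.Local.FS.McLUnitaryField

/-!
The projective unitary group PSU(4,3) on 280 points satisfies the relations of type U4(3).
-/

set_option autoImplicit false
set_option maxRecDepth 100000

namespace Cfsg.Agent.Spor.UFour

open Cfsg.Agent.Local.FS.McLSmall.Unitary

theorem perm_tables : allLt 27 (fun k => allLt 280 fun i => Nat.blt (mImg k i) 280 && Nat.blt (mPre k i) 280 &&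
    Nat.beq (mPre k (mImg k i)) i && Nat.beq (mImg k (mPre k i)) i) = true := by decide +kernel

/-- the permutations -/
def mPerm (k : ℕ) : Equiv.Perm (Fin 280) :=
  if hk : k < 27 then
    { toFun := fun i => Fin.ofNat 280 (mImg k i)
      invFun := fun i => Fin.ofNat 280 (mPre k i)
      left_inv := fun i => by
        have h := allLt_spec (allLt_spec perm_tables k hk) i.1 i.2
        simp only [Bool.and_eq_true] at h
        refine Fin.ext ?_
        show mPre k (mImg k i % 280) % 280 = i
        rw [Nat.mod_eq_of_lt (Nat.le_of_ble_eq_true h.1.1.1), Nat.eq_of_beq_eq_true h.1.2, Nat.mod_eq_of_lt i.2]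
      right_inv := fun i => by
        have h := allLt_spec (allLt_spec perm_tables k hk) i.1 i.2
        simp only [Bool.and_eq_true] at h
        refine Fin.ext ?_
        show mImg k (mPre k i % 280) % 280 = i
        rw [Nat.mod_eq_of_lt (Nat.le_of_ble_eq_true h.1.1.2), Nat.eq_of_beq_eq_true h.2, Nat.mod_eq_of_lt i.2] }
  else 1

theorem hf_ok : allLt 24 (fun a => allLt 24 fun b => allLt 280 fun i =>
    Nat.beq (mImg (sm a b) i) (mImg a (mImg b i)) &&
      Nat.beq (mImg a (mImg 24 (mImg b (mImg 24 i)))) (mImg 24 (mImg b (mImg 24 (mImg a i))))) = true := by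
  decide +kernel

theorem mPerm_apply {k : ℕ} (hk : k < 27) (i : Fin 280) : ((mPerm k i : Fin 280) : ℕ) = mImg k i := by
  have h := allLt_spec (allLt_spec perm_tables k hk) i.1 i.2
  simp only [Bool.and_eq_true] at h
  rw [mPerm, dif_pos hk]
  exact Nat.mod_eq_of_lt (Nat.le_of_ble_eq_true h.1.1.1)

/-- the relations of the centralizer in the permutation group -/
def modelH : HRel (Equiv.Perm (Fin 280)) where
  f := mPerm
  s := mPerm 24
  u := mPerm 25
  hf a b ha hb := by
    refine Equiv.ext fun i => Fin.ext ?_
    have h := allLt_spec (allLt_spec (allLt_spec hf_ok a ha) b hb) i.1 i.2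
    simp only [Bool.and_eq_true] at h
    rw [Equiv.Perm.mul_apply, mPerm_apply (show a < 27 by omega),
      mPerm_apply (show sm a b < 27 from lt_trans (sm_lt ha hb) (by omega)),
      mPerm_apply (show b < 27 by omega), Nat.eq_of_beq_eq_true h.1]
  s_sq := by decide +kernel
  comm a b ha hb := by
    refine Equiv.ext fun i => Fin.ext ?_
    have h := allLt_spec (allLt_spec (allLt_spec hf_ok a ha) b hb) i.1 i.2
    simp only [Bool.and_eq_true] at h
    simp only [Equiv.Perm.mul_apply, mPerm_apply (show a < 27 by omega), mPerm_apply (show b < 27 by omega),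
      mPerm_apply (show 24 < 27 by omega), Nat.eq_of_beq_eq_true h.2]
  s_z := by decide +kernel
  u_sq := by decide +kernel
  u_conj := by
    have h : allLt 24 (fun a => decide (mPerm 25 * mPerm a * (mPerm 25)⁻¹ = mPerm (sU a))) = true := by decide +kernel
    exact fun a ha => of_decide_eq_true (allLt_spec h a ha)
  su := by decide +kernel

/-- the relations in the permutation group -/
def modelG : GRel (Equiv.Perm (Fin 280)) where
  toHRel := modelH
  g := mPerm 26
  g_cube := by decide +kernel
  g_T := modelH.g_T_of_gens (by decide +kernel)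
  g_j := by decide +kernel

theorem model_local : modelG.Local where
  dW := by decide +kernel
  comm := by decide +kernel
  dW' := by decide +kernel

/-- the five generators -/
def mGen (k : ℕ) : Equiv.Perm (Fin 280) :=
  [modelG.ev 96, modelG.ev 576, modelG.ev 2, modelG.ev 1, modelG.g].getD k 1

theorem mGen_mem (k : ℕ) : mGen k ∈ modelG.gen := by
  by_cases h : k < 5
  · have hh : ∀ x ∈ [modelG.ev 96, modelG.ev 576, modelG.ev 2, modelG.ev 1, modelG.g], x ∈ modelG.gen := by
      intro x hx
      refine Subgroup.subset_closure ?_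
      simpa using hx
    rw [mGen, List.getD_eq_getElem _ _ (by simpa using h)]
    exact hh _ (List.getElem_mem _)
  · rw [mGen, List.getD_eq_default _ _ (by simpa using h)]
    exact one_mem _

/-- the value of a word in the three permutations of the unitary group -/
def evS : List ℕ → Fin 280 → Fin 280
  | [], i => i
  | a :: w, i => sig (Fin.ofNat 3 a) (evS w i)

theorem toSig_ok : ∀ k : Fin 5, ∀ i : Fin 280, mGen k i = evS (toSig.getD k []) i := by decide +kernel

theorem toGen_ok : ∀ s : Fin 3, ∀ i : Fin 280,
    (((toGen.getD s []).map mGen).prod : Equiv.Perm (Fin 280)) i = sig s i := by decide +kernel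

/-- the reference group is PSU(4,3) -/
theorem model_iso : Nat.card modelG.gen = 3265920 ∧
    ∀ (F : Type) [Field F] [Fintype F], Fintype.card F = 9 → Nonempty (modelG.gen ≃* Cfsg.PSU 4 F 3) := by
  have key : ∀ (F : Type) [Field F] [Fintype F], Fintype.card F = 9 →
      Nat.card modelG.gen = 3265920 ∧ Nonempty (modelG.gen ≃* Cfsg.PSU 4 F 3) := by
    intro F _ _ hF
    obtain ⟨hcard, Φ, hΦ⟩ := exists_psu_action hF
    haveI : Finite (Cfsg.PSU 4 F 3) := Nat.finite_of_card_ne_zero (by rw [hcard]; norm_num)
    choose g hg using hΦ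
    have hev : ∀ (w : List ℕ) (i : Fin 280), Φ ((w.map fun a => g (Fin.ofNat 3 a)).prod) i = evS w i := by
      intro w
      induction w with
      | nil => intro i; simp [evS]
      | cons a w ih =>
        intro i
        rw [List.map_cons, List.prod_cons, map_mul, Equiv.Perm.mul_apply, ih, hg]
        rfl
    have hle : modelG.gen ≤ Φ.range := by
      have hk : ∀ k : Fin 5, mGen k ∈ Φ.range := fun k =>
        ⟨_, Equiv.ext fun i => (hev (toSig.getD k []) i).trans (toSig_ok k i).symm⟩
      refine (Subgroup.closure_le _).2 ?_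
      rintro x (rfl | rfl | rfl | rfl | rfl)
      exacts [hk 0, hk 1, hk 2, hk 3, hk 4]
    have hge : tau.range ≤ modelG.gen := tau_range_le _ fun s =>
      ⟨_, list_prod_mem (fun y hy => by
        obtain ⟨k, -, rfl⟩ := List.mem_map.1 hy
        exact mGen_mem k), toGen_ok s⟩
    have h1 : Nat.card tau.range = 3265920 := by
      rw [← card_Gx]
      exact (Nat.card_congr (MonoidHom.ofInjective tau_injective).toEquiv).symm
    have h2 : Nat.card Φ.range ≤ 3265920 := hcard ▸ Finite.card_range_le Φ
    have h3 : 3265920 ≤ Nat.card modelG.gen := h1 ▸ Subgroup.card_le_of_le hge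
    have heq : modelG.gen = Φ.range := Subgroup.eq_of_le_of_card_ge hle (h2.trans h3)
    have hc : Nat.card modelG.gen = 3265920 := le_antisymm (heq ▸ h2) h3
    have hbij : Function.Bijective Φ.rangeRestrict :=
      (Nat.bijective_iff_surjective_and_card _).2 ⟨Φ.rangeRestrict_surjective, by rw [hcard, ← heq, hc]⟩
    exact ⟨hc, ⟨(MulEquiv.subgroupCongr heq).trans (MulEquiv.ofBijective Φ.rangeRestrict hbij).symm⟩⟩
  refine ⟨?_, fun F _ _ hF => (key F hF).2⟩
  haveI : Fact (Nat.Prime 3) := ⟨by norm_num⟩
  haveI : Fintype (GaloisField 3 2) := Fintype.ofFinite _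
  exact (key (GaloisField 3 2) (by rw [← Nat.card_eq_fintype_card, GaloisField.card 3 2 (by norm_num)]; norm_num)).1

end Cfsg.Agent.Spor.UFour
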