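import Cfsg.Agent.Lib.Spor.UFourThreeType.Frame

/-!
A symmetry of frames: it exchanges the two elementary abelian subgroups of order 16.
-/

set_option autoImplicit false
set_option maxRecDepth 100000

namespace Cfsg.Agent.Spor.UFour

/-- images of the first copy -/
def phT (a : ℕ) : ℕ := fd 0x540a90c0184780f1120244849080600c4600c10921206c8d80f01e40c818002000 11 a

/-- images of the second copy -/
def phT' (b : ℕ) : ℕ := mul (mul 1115 (phT b)) 1115

/-- the image of a code -/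
def phiC (p : ℕ) : ℕ :=
  mul (mul (mul (phT (pA p)) (phT' (pB p))) (bif pC p then 1115 else 0)) (bif pD p then 97 else 0)

/-- the inverse map -/
def psiC (p : ℕ) : ℕ := fd 0x1c00e3eafc01401e3caf803c0ae3aaf40340be38af002c08e36aec02409e34ae804c05e32ae404404e30ae000c03e2eadc00402e2cad805c07e2aad405406e28ad006415e26acc06c14e24ac808413e22ac408c12e20ac00a40ce1eabc0ac0de1cab809410e1aab409c11e18ab00b40ee16aac0bc0fe14aa807417e12aa407c16e10aa019431daebb819c30dacbbc1b43bdaabb01bc3ada8bb41a439da6ba81ac38da4bac1c434da2ba01cc35da0ba418432d9eb9818c33d9cb9c1d436d9ab901dc37d98b941ec44d96b881e445d94b8c20c42d92b8020443d90b8422c3dd8eb782243cd8cb7c21c41d8ab7021440d88b7423c3fd86b682343ed84b6c1fc46d82b601f447d80b64794f1d1e97c79cf0d1c9787b4fbd1a9747bcfad189707a4f9d1696c7acf8d149687c4f4d129647ccf5d10960784f2d0e95c78cf3d0c9587d4f6d0a9547dcf7d089507ed04d0694c7e505d0494880d02d0294480503d0094082cfdcfe93c824fccfc93881d01cfa93481500cf893083cffcf692c834fecf49287fd06c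f29247f507cf092049c90cbea3849491cbca3c4bc9acbaa304b49bcb8a344ac98cb6a284a499cb4a2c4cc95cb2a204c494cb0a2448c93caea1848492caca1c4dc97caaa104d496ca8a144e4a5ca6a084eca4ca4a0c504a3ca2a0050ca2ca0a045249cc9e9f852c9dc9c9fc514a0c9a9f051ca1c989f45349ec969e853c9fc949ec4f4a7c929e04fca6c909e40d419d7ec780dc18d7cc7c0f423d7ac700fc22d78c740e421d76c680ec20d74c6c1041cd72c6010c1dd70c640c41ad6ec580cc1bd6cc5c1141ed6ac5011c1fd68c5412c2cd66c481242dd64c4c14c2ad62c401442bd60c4416c25d5ec3816424d5cc3c15c29d5ac3015428d58c3417c27d56c2817426d54c2c13c2ed52c201342fd50c2431461ddcb5831c60ddeb5c3346bdd8b5033c6addab5432469dd4b4832c68dd6b4c34464dd0b4034c65dd2b4430462dccb3830c63dceb3c35466dc8b3035c67dcab3436c74dc4b2836475dc6b2c38c72dc0b2038473dc2b243ac6ddbcb183a46cdbeb1c39c71db8b1039470dbab143bc6fdb4b083b46edb6b0c37c76db0b0037477db2b046dcd8cec9186d4d9cee91c6fce2ce89106f4e3cea9146ece0ce49086e4e1ce690c70cddce0900704dcce29046ccdbcdc8f86c4dacde8fc71cdfcd88f0714decda8f4724edcd48e87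2ceccd68ec744ebcd08e074ceacd28e4764e4ccc8d876ce5cce8dc754e8cc88d075ce9cca8d4774e6cc48c877ce7cc68cc734efcc08c073ceecc28c425449d4ec1825c48d4cc1c27453d4ac1027c52d48c1426451d46c0826c50d44c0c2844cd42c0028c4dd40c042444ad3ebf824c4bd3cbfc2944ed3abf029c4fd38bf42ac5cd36be82a45dd34bec2cc5ad32be02c45bd30be42ec55d2ebd82e454d2cbdc2dc59d2abd02d458d28bd42fc57d26bc82f456d24bcc2bc5ed22bc02b45fd20bc4614c1c8c9dc61cc0c8e9d8634cbc889d463ccac8a9d0624c9c849cc62cc8c869c8644c4c809c464cc5c829c0604c2c7c9bc60cc3c7e9b8654c6c789b465cc7c7a9b066cd4c749ac664d5c769a868cd2c709a4684d3c729a06accdc6c99c6a4ccc6e99869cd1c68994694d0c6a9906bccfc6498c6b4cec6698867cd6c60984674d7c629803d479e0ca983dc78e0ea9c3f483e08a903fc82e0aa943e481e04a883ec80e06a8c4047ce00a8040c7de02a843c47adfca783cc7bdfea7c4147edf8a7041c7fdfaa7442c8cdf4a684248ddf6a6c44c8adf0a604448bdf2a6446c85deca5846484deea5c45c89de8a5045488deaa5447c87de4a4847486de6a4c43c8ede0a404348fde2a4485509c2e8bc85d08c2c8b887513c2a8b487d12c2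88b086511c268ac86d10c248a88850cc228a488d0dc208a08450ac1e89c84d0bc1c8988950ec1a89489d0fc188908ad1cc1688c8a51dc148888cd1ac128848c51bc108808ed15c0e87c8e514c0c8788dd19c0a8748d518c088708fd17c0686c8f516c048688bd1ec028648b51fc00860554a9c5c85c55ca8c5e858574b3c5885457cb2c5a850564b1c5484c56cb0c56848584acc5084458cadc52840544aac4c83c54cabc4e838594aec4883459cafc4a8305acbcc4482c5a4bdc468285ccbac408245c4bbc428205ecb5c3c81c5e4b4c3e8185dcb9c388145d4b8c3a8105fcb7c3480c5f4b6c368085bcbec308045b4bfc32800 11 p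

theorem ph_ok : allLt 24 (fun a => Nat.blt (phT a) 1152 && Nat.blt (phT' a) 1152 &&
    Nat.beq (mul (mul 97 (phT a)) (inv 97)) (phT (sU a)) &&
    allLt 24 fun b => Nat.beq (mul (phT a) (phT b)) (phT (sm a b)) &&
      Nat.beq (mul (phT a) (phT' b)) (mul (phT' b) (phT a))) = true := by decide +kernel

theorem ph_misc : mul 1115 1115 = 0 ∧ phT' 1 = phT 1 ∧ mul 97 97 = phT 1 ∧
    mul (mul 1115 97) 1115 = mul 97 (phT 1) ∧ phT 1 = 4 := by decide +kernel

theorem phiC_ok : allLt 1152 (fun p => Nat.blt (psiC p) 1152 && Nat.beq (phiC (psiC p)) p &&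
    Nat.beq (psiC (phiC p)) p && (!inT p || (inT (phiC p) && Nat.beq (fT (phiC p)) (phiC (fT p))))) = true := by
  decide +kernel

namespace HRel

variable {G : Type*} [Group G] (R : HRel G)

/-- the transformed relations -/
def tr : HRel G where
  f a := R.ev (phT a)
  s := R.ev 1115
  u := R.ev 97
  hf a b ha hb := by
    have h := allLt_spec ph_ok a ha
    simp only [Bool.and_eq_true] at h
    have h' := allLt_spec h.2 b hb
    simp only [Bool.and_eq_true] at h'
    have hb' := allLt_spec ph_ok b hb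
    simp only [Bool.and_eq_true] at hb'
    rw [← R.ev_mul (Nat.le_of_ble_eq_true h.1.1.1) (Nat.le_of_ble_eq_true hb'.1.1.1), Nat.eq_of_beq_eq_true h'.1]
  s_sq := by rw [← R.ev_mul (by omega) (by omega), ph_misc.1, ev_zero]
  comm a b ha hb := by
    have h := allLt_spec ph_ok a ha
    simp only [Bool.and_eq_true] at h
    have h' := allLt_spec h.2 b hb
    simp only [Bool.and_eq_true] at h'
    have hb' := allLt_spec ph_ok b hb
    simp only [Bool.and_eq_true] at hb'
    have l1 : phT a < 1152 := Nat.le_of_ble_eq_true h.1.1.1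
    have l2 : phT b < 1152 := Nat.le_of_ble_eq_true hb'.1.1.1
    have l3 : phT' b < 1152 := Nat.le_of_ble_eq_true hb'.1.1.2
    have e : R.ev 1115 * R.ev (phT b) * R.ev 1115 = R.ev (phT' b) := by
      rw [phT', R.ev_mul (mul_lt (by omega) l2) (by omega), R.ev_mul (by omega) l2]
    rw [e, ← R.ev_mul l1 l3, Nat.eq_of_beq_eq_true h'.2, R.ev_mul l3 l1]
  s_z := by
    have l : phT 1 < 1152 := ph_misc.2.2.2.2 ▸ (by omega)
    rw [← R.ev_mul (by omega) l, ← R.ev_mul (mul_lt (by omega) l) (by omega)]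
    exact congrArg R.ev ph_misc.2.1
  u_sq := by rw [← R.ev_mul (by omega) (by omega), ph_misc.2.2.1]
  u_conj a ha := by
    have h := allLt_spec ph_ok a ha
    simp only [Bool.and_eq_true] at h
    have l1 : phT a < 1152 := Nat.le_of_ble_eq_true h.1.1.1
    rw [← R.ev_cj (by omega) l1]
    exact congrArg R.ev (Nat.eq_of_beq_eq_true h.1.2)
  su := by
    have l : phT 1 < 1152 := ph_misc.2.2.2.2 ▸ (by omega)
    rw [← R.ev_mul (by omega) (by omega), ← R.ev_mul (mul_lt (by omega) (by omega)) (by omega),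
      ← R.ev_mul (by omega) l, ph_misc.2.2.2.1]

theorem tr_ev {p : ℕ} (hp : p < 1152) : R.tr.ev p = R.ev (phiC p) := by
  have hA := allLt_spec ph_ok (pA p) (pA_lt hp)
  simp only [Bool.and_eq_true] at hA
  have hB := allLt_spec ph_ok (pB p) (pB_lt p)
  simp only [Bool.and_eq_true] at hB
  have l1 : phT (pA p) < 1152 := Nat.le_of_ble_eq_true hA.1.1.1
  have l2 : phT (pB p) < 1152 := Nat.le_of_ble_eq_true hB.1.1.1
  have l3 : phT' (pB p) < 1152 := Nat.le_of_ble_eq_true hB.1.1.2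
  have hc : (bif pC p then 1115 else 0) < 1152 := by cases pC p <;> decide
  have hd : (bif pD p then 97 else 0) < 1152 := by cases pD p <;> decide
  rw [phiC, R.ev_mul (mul_lt (mul_lt l1 l3) hc) hd, R.ev_mul (mul_lt l1 l3) hc, R.ev_mul l1 l3, phT',
    R.ev_mul (mul_lt (by omega) l2) (by omega), R.ev_mul (by omega) l2]
  show R.ev (phT (pA p)) * (R.ev 1115 * R.ev (phT (pB p)) * R.ev 1115) *
    (bif pC p then R.ev 1115 else 1) * (bif pD p then R.ev 97 else 1) = _
  cases pC p <;> cases pD p <;> simp [R.ev_zero]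

end HRel

theorem phiC_lt {p : ℕ} (hp : p < 1152) : phiC p < 1152 := by
  have hA := allLt_spec ph_ok (pA p) (HRel.pA_lt hp)
  simp only [Bool.and_eq_true] at hA
  have hB := allLt_spec ph_ok (pB p) (HRel.pB_lt p)
  simp only [Bool.and_eq_true] at hB
  refine HRel.mul_lt (HRel.mul_lt (HRel.mul_lt (Nat.le_of_ble_eq_true hA.1.1.1) (Nat.le_of_ble_eq_true hB.1.1.2)) ?_) ?_
  · cases pC p <;> decide
  · cases pD p <;> decide

namespace GRel

variable {G : Type*} [Group G] (R : GRel G)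

theorem g_T_code {p : ℕ} (hp : p < 1152) (hT : inT p = true) (hlt : fT p < 1152) :
    R.tr.ev (fT p) = R.g * R.tr.ev p * R.g⁻¹ := by
  have h := allLt_spec phiC_ok p hp
  simp only [Bool.and_eq_true, hT, Bool.not_true, Bool.false_or] at h
  rw [R.toHRel.tr_ev hp, R.g_T _ (phiC_lt hp) h.2.1, R.toHRel.tr_ev hlt, Nat.eq_of_beq_eq_true h.2.2]

theorem fT_lt : allLt 1152 (fun p => Nat.blt (fT p) 1152) = true := by decide +kernel

/-- the transformed relations -/
def trG : GRel G where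
  toHRel := R.toHRel.tr
  g := R.g
  g_cube := R.g_cube
  g_T p hp hT := (R.g_T_code hp hT (Nat.le_of_ble_eq_true (allLt_spec fT_lt p hp))).symm
  g_j := by
    have hJ : phiC 676 = 1060 := by decide +kernel
    have hc : mul 1060 (inv 676) < 1152 ∧ inT (mul 1060 (inv 676)) = true ∧
        mul (mul (fT (mul 1060 (inv 676))) 7) (inv (mul 1060 (inv 676))) = phiC 7 ∧
        mul (mul 1060 (inv 676)) 676 = 1060 ∧ fT (mul 1060 (inv 676)) < 1152 := by decide +kernel
    obtain ⟨c, hcd⟩ : ∃ c, c = mul 1060 (inv 676) := ⟨_, rfl⟩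
    rw [← hcd] at hc
    obtain ⟨l1, hT, h1, h2, l2⟩ := hc
    rw [R.toHRel.tr_ev (by omega), R.toHRel.tr_ev (by omega), hJ, ← h1, ← h2,
      R.toHRel.ev_mul (HRel.mul_lt l2 (by omega)) (HRel.inv_lt l1), R.toHRel.ev_mul l2 (by omega),
      R.toHRel.ev_inv l1, R.toHRel.ev_mul l1 (by omega), ← R.g_T _ l1 hT, ← R.g_j]
    group

end GRel

namespace Frame

variable {G : Type*} [Group G] (F : Frame G)

/-- the transformed frame -/
def tr : Frame G where
  toGRel := F.trG
  cent x hx := by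
    have hx' : x * F.f 1 = F.f 1 * x := by
      have h : F.trG.f 1 = F.f 1 := by
        show F.ev (phT 1) = _
        rw [ph_misc.2.2.2.2, F.toHRel.ev_z]
      rwa [h] at hx
    obtain ⟨p, hp, e⟩ := F.cent x hx'
    have h := allLt_spec phiC_ok p hp
    simp only [Bool.and_eq_true] at h
    refine ⟨psiC p, Nat.le_of_ble_eq_true h.1.1.1, ?_⟩
    show x = F.toHRel.tr.ev (psiC p)
    rw [F.toHRel.tr_ev (Nat.le_of_ble_eq_true h.1.1.1), Nat.eq_of_beq_eq_true h.1.1.2, e]
  inj p hp h := by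
    change F.toHRel.tr.ev p = 1 at h
    rw [F.toHRel.tr_ev hp] at h
    have h0 := F.inj _ (phiC_lt hp) h
    have h' := allLt_spec phiC_ok p hp
    simp only [Bool.and_eq_true] at h'
    rw [← Nat.eq_of_beq_eq_true h'.1.2, h0]
    decide +kernel

end Frame

end Cfsg.Agent.Spor.UFour
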