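import Cfsg.Agent.Lib.Spor.UFourThreeType.SetupCent
import Mathlib.Data.List.GetD

/-!
Action of the centralizer on the two copies of SL(2,3): they are fixed or exchanged, and on a fixed copy
the action is an inner automorphism, possibly composed with the outer one.
-/

set_option autoImplicit false
set_option maxRecDepth 100000

namespace Cfsg.Agent.Spor.UFour

/-- conjugation of indices -/
def scj (c a : ℕ) : ℕ := sm (sm c a) (si c)

/-- the automorphisms of SL(2,3) on indices -/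
def autI (c : ℕ) (d : Bool) (a : ℕ) : ℕ := scj c (bif d then sU a else a)

/-- words in the indices 2 and 12 -/
def sl2Words : List (List ℕ) := [[], [2, 2], [2], [2, 2, 2], [2, 12, 12], [12, 2, 12, 2], [2, 12], [2, 12, 2, 2],
  [12, 2, 12, 2, 2], [12, 2, 12], [2, 12, 2, 2, 2], [2, 12, 2], [12], [12, 2, 2], [12, 12, 2, 12, 2],
  [12, 2, 12, 12], [12, 12, 2], [2, 12, 2, 12], [12, 12], [12, 12, 2, 2], [12, 2, 2, 2], [12, 2], [12, 12, 2, 12],
  [2, 12, 2, 12, 12]]

theorem sl2Words_ok : allLt 24 (fun a => (sl2Words.getD a []).all (fun t => Nat.beq t 2 || Nat.beq t 12) &&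
    Nat.beq ((sl2Words.getD a []).foldr sm 0) a) = true := by decide +kernel

/-- third power of an index -/
def cube3 (a : ℕ) : ℕ := sm a (sm a a)

theorem aut_class_ok : allLt 24 (fun A => allLt 24 fun B => !(Nat.beq (sm A A) 1 && Nat.beq (cube3 B) 0 &&
    !Nat.beq B 0 && Nat.beq (cube3 (sm A B)) 0) || !allLt 24 fun c =>
      !(Nat.beq (autI c false 2) A && Nat.beq (autI c false 12) B) &&
      !(Nat.beq (autI c true 2) A && Nat.beq (autI c true 12) B)) = true := by decide +kernel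

theorem autI_hom_ok : allLt 24 (fun c => allLt 24 fun a => allLt 24 fun b =>
    Nat.beq (autI c false (sm a b)) (sm (autI c false a) (autI c false b)) &&
    Nat.beq (autI c true (sm a b)) (sm (autI c true a) (autI c true b))) = true := by decide +kernel

theorem autI_ok : allLt 24 (fun c => allLt 24 fun a => Nat.blt (autI c false a) 24 && Nat.blt (autI c true a) 24)
    = true := by decide +kernel

theorem autI_lt {c a : ℕ} (hc : c < 24) (ha : a < 24) (d : Bool) : autI c d a < 24 := by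
  have k := allLt_spec (allLt_spec autI_ok c hc) a ha
  rw [Bool.and_eq_true] at k
  cases d
  · exact Nat.le_of_ble_eq_true k.1
  · exact Nat.le_of_ble_eq_true k.2

theorem autI_hom {c a b : ℕ} (hc : c < 24) (ha : a < 24) (hb : b < 24) (d : Bool) :
    autI c d (sm a b) = sm (autI c d a) (autI c d b) := by
  have k := allLt_spec (allLt_spec (allLt_spec autI_hom_ok c hc) a ha) b hb
  rw [Bool.and_eq_true] at k
  cases d
  · exact Nat.eq_of_beq_eq_true k.1
  · exact Nat.eq_of_beq_eq_true k.2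

theorem not_allLt {n : ℕ} {P : ℕ → Bool} (h : (!allLt n P) = true) : ∃ k, k < n ∧ P k = false := by
  induction n with
  | zero => exact absurd h (by show ¬(!true) = true; simp)
  | succ n ih =>
    have h' : (!(P n && allLt n P)) = true := h
    cases hP : P n
    · exact ⟨n, by omega, hP⟩
    · rw [hP, Bool.true_and] at h'
      obtain ⟨k, hk, e⟩ := ih h'
      exact ⟨k, by omega, e⟩

/-- an injective endomorphism of SL(2,3) on indices is one of the listed automorphisms -/
theorem aut_class {φ : ℕ → ℕ} (hl : ∀ a, a < 24 → φ a < 24)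
    (hh : ∀ a b, a < 24 → b < 24 → φ (sm a b) = sm (φ a) (φ b)) (hi : ∀ a, a < 24 → φ a = 0 → a = 0) :
    ∃ c, c < 24 ∧ ∃ d : Bool, ∀ a, a < 24 → φ a = autI c d a := by
  have h0 : φ 0 = 0 := by
    have h := hh 0 0 (by omega) (by omega)
    rw [(misc (a := 0) (by omega)).2.2.1] at h
    have k := (Nat.eq_of_beq_eq_true (Bool.and_eq_true_iff.mp (allLt_spec sl_misc_ok _ (hl 0 (by omega)))).1)
    have hx := hl 0 (by omega)
    generalize φ 0 = x at h k hx
    have h2 : sm (sm x x) (si x) = sm x (sm x (si x)) :=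
      Nat.eq_of_beq_eq_true (allLt_spec (allLt_spec (allLt_spec sl_assoc_ok x hx) x hx) _ (misc hx).2.1)
    rw [← h, k, (misc hx).2.2.2.1] at h2
    exact h2.symm
  have h1 : φ 1 = 1 := by
    have h := hh 1 1 (by omega) (by omega)
    rw [show sm 1 1 = 0 by decide +kernel, h0] at h
    have hne : φ 1 ≠ 0 := fun e => absurd (hi 1 (by omega) e) (by omega)
    have hx := hl 1 (by omega)
    generalize φ 1 = x at h hne hx
    interval_cases x <;> first | rfl | exact absurd rfl hne | exact absurd h (by decide +kernel)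
  have e22 : sm (φ 2) (φ 2) = 1 := by rw [← hh 2 2 (by omega) (by omega), show sm 2 2 = 1 by decide +kernel, h1]
  have hc3 : ∀ a, a < 24 → φ (cube3 a) = cube3 (φ a) := fun a ha => by
    rw [cube3, hh _ _ ha (sm_lt ha ha), hh _ _ ha ha]; rfl
  have k := allLt_spec (allLt_spec aut_class_ok _ (hl 2 (by omega))) _ (hl 12 (by omega))
  rw [e22, ← hc3 12 (by omega), show cube3 12 = 0 by decide +kernel, h0, ← hh 2 12 (by omega) (by omega),
    ← hc3 (sm 2 12) (sm_lt (by omega) (by omega)), show cube3 (sm 2 12) = 0 by decide +kernel, h0,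
    show Nat.beq (φ 12) 0 = false from Bool.eq_false_iff.2 fun e =>
      absurd (hi 12 (by omega) (Nat.eq_of_beq_eq_true e)) (by omega),
    Nat.beq_refl, Nat.beq_refl] at k
  simp only [Bool.not_false, Bool.and_self, Bool.not_true, Bool.false_or] at k
  obtain ⟨c, hc, e⟩ := not_allLt k
  have hd : ∃ d : Bool, autI c d 2 = φ 2 ∧ autI c d 12 = φ 12 := by
    simp only [Bool.and_eq_false_iff, Bool.not_eq_false', Bool.and_eq_true] at e
    rcases e with ⟨u, v⟩ | ⟨u, v⟩
    · exact ⟨false, Nat.eq_of_beq_eq_true u, Nat.eq_of_beq_eq_true v⟩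
    · exact ⟨true, Nat.eq_of_beq_eq_true u, Nat.eq_of_beq_eq_true v⟩
  obtain ⟨d, u, v⟩ := hd
  have a0 : autI c d 0 = 0 := by
    have q : autI c d 0 < 24 := autI_lt hc (by omega) d
    have h := autI_hom hc (show 0 < 24 by omega) (show 0 < 24 by omega) d
    rw [(misc (a := 0) (by omega)).2.2.1] at h
    generalize autI c d 0 = x at h q
    have h2 : sm (sm x x) (si x) = sm x (sm x (si x)) :=
      Nat.eq_of_beq_eq_true (allLt_spec (allLt_spec (allLt_spec sl_assoc_ok x q) x q) _ (misc q).2.1)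
    rw [← h, Nat.eq_of_beq_eq_true (Bool.and_eq_true_iff.mp (allLt_spec sl_misc_ok x q)).1,
      (misc q).2.2.2.1] at h2
    exact h2.symm
  refine ⟨c, hc, d, fun a ha => ?_⟩
  have key : ∀ l : List ℕ, (∀ t ∈ l, t = 2 ∨ t = 12) →
      l.foldr sm 0 < 24 ∧ φ (l.foldr sm 0) = autI c d (l.foldr sm 0) := by
    intro l
    induction l with
    | nil => exact fun _ => ⟨by show 0 < 24; omega, h0.trans a0.symm⟩
    | cons t l ih =>
      intro hl'
      obtain ⟨i1, i2⟩ := ih fun t ht => hl' t (List.mem_cons_of_mem _ ht)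
      have ht : t < 24 := by rcases hl' t List.mem_cons_self with rfl | rfl <;> omega
      refine ⟨sm_lt ht i1, ?_⟩
      rw [List.foldr_cons, hh _ _ ht i1, autI_hom hc ht i1, i2]
      rcases hl' t List.mem_cons_self with rfl | rfl
      · rw [u]
      · rw [v]
  have h := allLt_spec sl2Words_ok a ha
  simp only [Bool.and_eq_true, List.all_eq_true, Bool.or_eq_true] at h
  have := (key _ fun t ht => (h.1 t ht).imp Nat.eq_of_beq_eq_true Nat.eq_of_beq_eq_true).2
  rwa [Nat.eq_of_beq_eq_true h.2] at this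

theorem side_ok : allLt 24 (fun c => allLt 24 fun d => allLt 24 fun p => allLt 24 fun q =>
    !(q8 p && q8 q) || (Nat.blt p 2 && Nat.blt q 2) || Nat.blt c 2 || Nat.blt d 2 ||
    !Nat.beq (code (cube3 c) (cube3 d) false false) 0 ||
    !Nat.beq (code (sm c p) (sm d q) false false) (code (sm p c) (sm q d) false false)) = true := by decide +kernel

theorem noncomm_ok : allLt 24 (fun a => Nat.beq a 0 || !Nat.beq (cube3 a) 0 ||
    !(Nat.beq (sm a 8) (sm 8 a) && Nat.beq (sm a 12) (sm 12 a))) = true := by decide +kernel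

theorem square_ok : allLt 24 (fun a => Nat.blt (sm a a) 2 || Nat.beq (cube3 (sm a a)) 0) = true := by decide +kernel

theorem central_ok : allLt 24 (fun b => !Nat.beq (sm b 8) (sm 8 b) || !Nat.beq (sm b 12) (sm 12 b) || Nat.blt b 2)
    = true := by decide +kernel

theorem pure_inj_ok : allLt 288 (fun i => allLt 288 fun j =>
    !Nat.beq (pm (Nat.mul 4 i) (pI (Nat.mul 4 j))) 0 || Nat.beq i j) = true := by decide +kernel

namespace TwoCopy

variable {G : Type*} [Group G] (D : TwoCopy G)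

theorem pv_inj {p q : ℕ} (hp : p < 1152) (hq : q < 1152) (hp4 : p % 4 = 0) (hq4 : q % 4 = 0)
    (h : D.pv p = D.pv q) : p = q := by
  have k := allLt_spec (allLt_spec pure_inj_ok (p / 4) (by omega)) (q / 4) (by omega)
  rw [show Nat.mul 4 (p / 4) = p from (by show 4 * (p / 4) = p; omega),
    show Nat.mul 4 (q / 4) = q from (by show 4 * (q / 4) = q; omega), D.pv_eq hp hq h, Nat.beq_refl,
    Bool.not_true, Bool.false_or] at k
  have := Nat.eq_of_beq_eq_true k
  omega

theorem code_inj {a b c d : ℕ} (ha : a < 24) (hb : b < 24) (hc : c < 24) (hd : d < 24)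
    (h : D.f a * D.f₂ b = D.f c * D.f₂ d) : code a b false false = code c d false false :=
  D.pv_inj (HRel.code_lt ha hb _ _) (HRel.code_lt hc hd _ _) (code_mod ha hb) (code_mod hc hd)
    (by rw [D.pv_code ha hb, D.pv_code hc hd, h])

theorem f_inj {a b : ℕ} (ha : a < 24) (hb : b < 24) (h : D.f a = D.f b) : a = b := by
  have h1 : sm (si b) a = 0 := D.inj _ (sm_lt (misc hb).2.1 ha) (by
    rw [D.hf _ _ (misc hb).2.1 ha, D.f_si hb, h, inv_mul_cancel])
  have h2 : sm (sm b (si b)) a = sm b (sm (si b) a) :=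
    Nat.eq_of_beq_eq_true (allLt_spec (allLt_spec (allLt_spec sl_assoc_ok b hb) _ (misc hb).2.1) a ha)
  rwa [h1, Nat.eq_of_beq_eq_true (Bool.and_eq_true_iff.mp (allLt_spec sl_misc_ok b hb)).1, (misc ha).2.2.1,
    (misc hb).2.2.2.1] at h2

theorem inj₂ {b : ℕ} (hb : b < 24) (h : D.f₂ b = 1) : b = 0 :=
  (D.meet 0 b (by omega) hb (by rw [D.f_zero, h])).1.symm

/-- the two copies in the other order -/
def flip : TwoCopy G where
  f := D.f₂
  f₂ := D.f
  hf := D.hf₂
  hf₂ := D.hf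
  comm a b ha hb := (D.comm b a hb ha).symm
  z_eq := D.z_eq.symm
  meet a b ha hb h := by
    obtain ⟨e, l⟩ := D.meet b a hb ha h.symm
    exact ⟨e.symm, e ▸ l⟩
  inj a ha h := D.inj₂ ha h

theorem inK_of_pair {a b : ℕ} (ha : a < 24) (hb : b < 24) : D.inK (D.f a * D.f₂ b) :=
  ⟨code a b false false, HRel.code_lt ha hb _ _, D.pv_code ha hb⟩

theorem inK_pair {x : G} (h : D.inK x) : ∃ a b, a < 24 ∧ b < 24 ∧ x = D.f a * D.f₂ b := by
  obtain ⟨p, hp, rfl⟩ := h
  exact ⟨pA p, pB p, HRel.pA_lt hp, HRel.pB_lt p, rfl⟩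

theorem flip_inK {x : G} (h : D.inK x) : D.flip.inK x := by
  obtain ⟨a, b, ha, hb, rfl⟩ := D.inK_pair h
  rw [D.comm a b ha hb]
  exact D.flip.inK_of_pair hb ha

theorem inQ_pair {x : G} (h : D.inQ x) :
    ∃ a b, a < 24 ∧ b < 24 ∧ q8 a = true ∧ q8 b = true ∧ x = D.f a * D.f₂ b := by
  obtain ⟨p, hp, h1, rfl⟩ := h
  simp only [qP, Bool.and_eq_true] at h1
  exact ⟨pA p, pB p, HRel.pA_lt hp, HRel.pB_lt p, h1.1, h1.2, rfl⟩

theorem inQ_of_pair {a b : ℕ} (ha : a < 24) (hb : b < 24) (h1 : q8 a = true) (h2 : q8 b = true) :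
    D.inQ (D.f a * D.f₂ b) :=
  ⟨code a b false false, HRel.code_lt ha hb _ _, qP_code ha hb h1 h2, D.pv_code ha hb⟩

theorem flip_inQ {x : G} (h : D.inQ x) : D.flip.inQ x := by
  obtain ⟨a, b, ha, hb, h1, h2, rfl⟩ := D.inQ_pair h
  rw [D.comm a b ha hb]
  exact D.flip.inQ_of_pair hb ha h2 h1

/-- conjugation by `h` preserves the product and its quaternion part, and fixes the centre -/
structure Pres (h : G) : Prop where
  k : ∀ x, D.inK x → D.inK (h * x * h⁻¹)
  q : ∀ x, D.inQ x → D.inQ (h * x * h⁻¹)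
  z : h * D.f 1 * h⁻¹ = D.f 1

theorem inK_of_f {a : ℕ} (ha : a < 24) : D.inK (D.f a) := by
  have := D.inK_of_pair ha (show 0 < 24 by omega)
  rwa [D.f₂_zero, mul_one] at this

theorem inK_of_f₂ {a : ℕ} (ha : a < 24) : D.inK (D.f₂ a) := by
  have := D.inK_of_pair (show 0 < 24 by omega) ha
  rwa [D.f_zero, one_mul] at this

theorem flip_pres {h : G} (hp : D.Pres h) : D.flip.Pres h := by
  refine ⟨fun x hx => D.flip_inK (hp.k x ?_), fun x hx => D.flip_inQ (hp.q x ?_), ?_⟩
  · exact D.flip.flip_inK hx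
  · exact D.flip.flip_inQ hx
  · show h * D.f₂ 1 * h⁻¹ = D.f₂ 1
    rw [D.z_eq]; exact hp.z

theorem image_cases {h : G} (hp : D.Pres h) {a : ℕ} (ha : a < 24) (h3 : cube3 a = 0) :
    (∃ c, c < 24 ∧ h * D.f a * h⁻¹ = D.f c) ∨ (∃ c, c < 24 ∧ h * D.f a * h⁻¹ = D.f₂ c) := by
  obtain ⟨c, d, hc, hd, e⟩ := D.inK_pair (hp.k _ (D.inK_of_f ha))
  obtain ⟨p, q, hp', hq', h1, h2, e'⟩ := D.inQ_pair (hp.q _ (by
    have := D.inQ_of_pair (show 0 < 24 by omega) (show 2 < 24 by omega) (by decide +kernel) (by decide +kernel)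
    rwa [D.f_zero, one_mul] at this : D.inQ (D.f₂ 2)))
  have hnz : (Nat.blt p 2 && Nat.blt q 2) = false := by
    rw [Bool.and_eq_false_iff]
    by_contra hc'
    push Not at hc'
    have lp : p < 2 := Nat.le_of_ble_eq_true (Bool.eq_true_of_not_eq_false hc'.1)
    have lq : q < 2 := Nat.le_of_ble_eq_true (Bool.eq_true_of_not_eq_false hc'.2)
    obtain ⟨k, hk, ek⟩ : ∃ k, k < 2 ∧ h * D.f₂ 2 * h⁻¹ = D.f₂ k := by
      refine ⟨sm p q, ?_, ?_⟩
      · interval_cases p <;> interval_cases q <;> decide +kernel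
      · rw [e', D.hf₂ p q hp' hq']
        interval_cases p
        · rw [D.f_zero, D.f₂_zero]
        · rw [D.z_eq]
    have : D.f₂ 2 = D.f₂ k := by
      interval_cases k
      · rw [D.f₂_zero] at ek ⊢; exact conj_eq_one_iff.1 ek
      · rw [D.z_eq] at ek ⊢
        exact mul_left_cancel (mul_right_cancel (ek.trans hp.z.symm))
    exact absurd (D.flip.f_inj (by omega) (by omega) this) (by omega)
  have hcube : code (cube3 c) (cube3 d) false false = 0 := by
    have l1 : cube3 c < 24 := sm_lt hc (sm_lt hc hc)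
    have l2 : cube3 d < 24 := sm_lt hd (sm_lt hd hd)
    have h03 : code (cube3 c) (cube3 d) false false = code 0 0 false false := by
      refine D.code_inj l1 l2 (by omega) (by omega) ?_
      have hcd : Commute (D.f c) (D.f₂ d) := D.comm c d hc hd
      have hf3 : ∀ x, x < 24 → D.f (cube3 x) = D.f x ^ 3 := fun x hx => by
        rw [cube3, D.hf _ _ hx (sm_lt hx hx), D.hf _ _ hx hx]; simp only [pow_succ, pow_zero, one_mul, mul_assoc]
      have hg3 : ∀ x, x < 24 → D.f₂ (cube3 x) = D.f₂ x ^ 3 := fun x hx => by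
        rw [cube3, D.hf₂ _ _ hx (sm_lt hx hx), D.hf₂ _ _ hx hx]; simp only [pow_succ, pow_zero, one_mul, mul_assoc]
      rw [hf3 c hc, hg3 d hd, ← hcd.mul_pow, ← e, conj_pow, ← hf3 a ha, h3, D.f_zero, D.f₂_zero, mul_one,
        mul_inv_cancel, mul_one]
    rw [h03]; decide +kernel
  have hcom : code (sm c p) (sm d q) false false = code (sm p c) (sm q d) false false := by
    refine D.code_inj (sm_lt hc hp') (sm_lt hd hq') (sm_lt hp' hc) (sm_lt hq' hd) ?_
    have hab : D.f a * D.f₂ 2 = D.f₂ 2 * D.f a := D.comm a 2 ha (by omega)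
    have h1 : D.f c * D.f₂ d * (D.f p * D.f₂ q) = D.f p * D.f₂ q * (D.f c * D.f₂ d) := by
      rw [← e, ← e', show h * D.f a * h⁻¹ * (h * D.f₂ 2 * h⁻¹) = h * (D.f a * D.f₂ 2) * h⁻¹ by group, hab]
      group
    rw [D.hf _ _ hc hp', D.hf₂ _ _ hd hq', D.hf _ _ hp' hc, D.hf₂ _ _ hq' hd]
    calc D.f c * D.f p * (D.f₂ d * D.f₂ q) = D.f c * (D.f p * D.f₂ d) * D.f₂ q := by simp only [mul_assoc]
      _ = D.f c * D.f₂ d * (D.f p * D.f₂ q) := by rw [D.comm p d hp' hd]; simp only [mul_assoc]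
      _ = D.f p * D.f₂ q * (D.f c * D.f₂ d) := h1
      _ = D.f p * (D.f c * D.f₂ q) * D.f₂ d := by rw [D.comm c q hc hq']; simp only [mul_assoc]
      _ = _ := by simp only [mul_assoc]
  have k := allLt_spec (allLt_spec (allLt_spec (allLt_spec side_ok c hc) d hd) p hp') q hq'
  rw [h1, h2, hnz, hcube, hcom, Nat.beq_refl, Nat.beq_refl] at k
  simp only [Bool.and_self, Bool.not_true, Bool.or_false, Bool.false_or, Bool.or_eq_true] at k
  rcases k with k | k
  · have lc : c < 2 := Nat.le_of_ble_eq_true k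
    refine Or.inr ⟨sm c d, sm_lt hc hd, ?_⟩
    rw [e, D.hf₂ c d hc hd]
    interval_cases c
    · rw [D.f_zero, D.f₂_zero]
    · rw [D.z_eq]
  · have ld : d < 2 := Nat.le_of_ble_eq_true k
    refine Or.inl ⟨sm c d, sm_lt hc hd, ?_⟩
    rw [e, D.hf c d hc hd]
    interval_cases d
    · rw [D.f₂_zero, D.f_zero]
    · rw [D.z_eq]

/-- all elements of the first copy go to the same copy -/
theorem image_side {h : G} (hp : D.Pres h) :
    (∀ a, a < 24 → ∃ c, c < 24 ∧ h * D.f a * h⁻¹ = D.f c) ∨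
    (∀ a, a < 24 → ∃ c, c < 24 ∧ h * D.f a * h⁻¹ = D.f₂ c) := by
  have key : ∀ F : ℕ → G, (∀ a b, a < 24 → b < 24 → F (sm a b) = F a * F b) → F 1 = D.f 1 →
      (∀ a, a < 24 → cube3 a = 0 → ∃ c, c < 24 ∧ h * D.f a * h⁻¹ = F c) →
      ∀ a, a < 24 → ∃ c, c < 24 ∧ h * D.f a * h⁻¹ = F c := by
    intro F hF h1 h3 a ha
    have hF0 : F 0 = 1 := by
      have h := hF 0 0 (by omega) (by omega)
      rw [(misc (a := 0) (by omega)).2.2.1] at h
      exact left_eq_mul.1 h
    have hsq : ∀ b, b < 24 → ∃ c, c < 24 ∧ h * D.f (sm b b) * h⁻¹ = F c := by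
      intro b hb
      have k := allLt_spec square_ok b hb
      rw [Bool.or_eq_true] at k
      rcases k with k | k
      · have l : sm b b < 2 := Nat.le_of_ble_eq_true k
        generalize sm b b = t at l
        interval_cases t
        · exact ⟨0, by omega, by rw [D.f_zero, hF0, mul_one, mul_inv_cancel]⟩
        · exact ⟨1, by omega, by rw [h1]; exact hp.z⟩
      · exact h3 _ (sm_lt hb hb) (Nat.eq_of_beq_eq_true k)
    obtain ⟨b, c, hb, hc, rfl⟩ := sl_squares ha
    obtain ⟨u, hu, eu⟩ := hsq b hb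
    obtain ⟨v, hv, ev⟩ := hsq c hc
    exact ⟨sm u v, sm_lt hu hv, by rw [D.hf _ _ (sm_lt hb hb) (sm_lt hc hc), ← conj_mul, eu, ev, hF u v hu hv]⟩
  have hcc : ∀ a b c d, a < 24 → b < 24 → c < 24 → d < 24 → h * D.f a * h⁻¹ = D.f c →
      h * D.f b * h⁻¹ = D.f₂ d → sm a b = sm b a := by
    intro a b c d ha hb hc hd e1 e2
    refine D.f_inj (sm_lt ha hb) (sm_lt hb ha) ?_
    rw [D.hf a b ha hb, D.hf b a hb ha]
    have : (h * D.f a * h⁻¹) * (h * D.f b * h⁻¹) = (h * D.f b * h⁻¹) * (h * D.f a * h⁻¹) := by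
      rw [e1, e2]; exact D.comm c d hc hd
    rw [conj_mul, conj_mul] at this
    exact mul_left_cancel (mul_right_cancel this)
  rcases D.image_cases hp (show 8 < 24 by omega) (by decide +kernel) with ⟨c8, l8, e8⟩ | ⟨c8, l8, e8⟩
  · refine Or.inl (key D.f D.hf rfl ?_)
    intro a ha h3
    by_cases ha0 : a = 0
    · exact ⟨0, by omega, by rw [ha0, D.f_zero, mul_one, mul_inv_cancel]⟩
    rcases D.image_cases hp ha h3 with r | ⟨c, lc, e⟩
    · exact r
    exfalso
    rcases D.image_cases hp (show 12 < 24 by omega) (by decide +kernel) with ⟨c12, l12, e12⟩ | ⟨c12, l12, e12⟩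
    · have k := allLt_spec noncomm_ok a ha
      rw [h3, ← hcc 8 a c8 c (by omega) ha l8 lc e8 e, ← hcc 12 a c12 c (by omega) ha l12 lc e12 e] at k
      simp only [Nat.beq_refl, Bool.not_true, Bool.and_self, Bool.or_false] at k
      exact ha0 (Nat.eq_of_beq_eq_true k)
    · exact absurd (hcc 8 12 c8 c12 (by omega) (by omega) l8 l12 e8 e12) (by decide +kernel)
  · refine Or.inr (key D.f₂ D.hf₂ D.z_eq ?_)
    intro a ha h3
    by_cases ha0 : a = 0
    · exact ⟨0, by omega, by rw [ha0, D.f_zero, D.f₂_zero, mul_one, mul_inv_cancel]⟩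
    rcases D.image_cases hp ha h3 with ⟨c, lc, e⟩ | r
    · exfalso
      rcases D.image_cases hp (show 12 < 24 by omega) (by decide +kernel) with ⟨c12, l12, e12⟩ | ⟨c12, l12, e12⟩
      · exact absurd (hcc 12 8 c12 c8 (by omega) (by omega) l12 l8 e12 e8).symm (by decide +kernel)
      · have k := allLt_spec noncomm_ok a ha
        rw [h3, hcc a 8 c c8 ha (by omega) lc l8 e e8, hcc a 12 c c12 ha (by omega) lc l12 e e12] at k
        simp only [Nat.beq_refl, Bool.not_true, Bool.and_self, Bool.or_false] at k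
        exact ha0 (Nat.eq_of_beq_eq_true k)
    · exact r

/-- an element either fixes both copies, acting by listed automorphisms, or exchanges them -/
theorem action {h : G} (hp : D.Pres h) :
    (∃ c₁ c₂, c₁ < 24 ∧ c₂ < 24 ∧ ∃ d₁ d₂ : Bool, ∀ a, a < 24 →
      h * D.f a * h⁻¹ = D.f (autI c₁ d₁ a) ∧ h * D.f₂ a * h⁻¹ = D.f₂ (autI c₂ d₂ a)) ∨
    ((∀ a, a < 24 → ∃ c, c < 24 ∧ h * D.f a * h⁻¹ = D.f₂ c) ∧
      (∀ a, a < 24 → ∃ c, c < 24 ∧ h * D.f₂ a * h⁻¹ = D.f c)) := by
  have nb : ∀ E : TwoCopy G, ∀ h : G, (∀ a, a < 24 → ∃ c, c < 24 ∧ h * E.f a * h⁻¹ = E.f c) →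
      (∀ a, a < 24 → ∃ c, c < 24 ∧ h * E.f₂ a * h⁻¹ = E.f c) → False := by
    intro E h h1 h2
    choose u hu eu using h1
    have hinj : Function.Injective (fun i : Fin 24 => (⟨u i i.2, hu i i.2⟩ : Fin 24)) := by
      intro i j hij
      have e : u i i.2 = u j j.2 := congrArg Fin.val hij
      exact Fin.ext (E.f_inj i.2 j.2 (mul_left_cancel (mul_right_cancel
        ((eu i i.2).trans (by rw [e]; exact (eu j j.2).symm)))))
    have hs := Finite.injective_iff_surjective.1 hinj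
    obtain ⟨v, hv, ev⟩ := h2 12 (by omega)
    have hall : ∀ t, t < 24 → sm v t = sm t v := by
      intro t ht
      obtain ⟨i, hi⟩ := hs ⟨t, ht⟩
      have hi' : u i i.2 = t := congrArg Fin.val hi
      refine E.f_inj (sm_lt hv ht) (sm_lt ht hv) ?_
      rw [E.hf v t hv ht, E.hf t v ht hv, ← ev, ← hi', ← eu i i.2, conj_mul, conj_mul,
        E.comm i 12 i.2 (by omega)]
    have k := allLt_spec central_ok v hv
    rw [hall 8 (by omega), hall 12 (by omega)] at k
    simp only [Nat.beq_refl, Bool.not_true, Bool.false_or] at k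
    have lv : v < 2 := Nat.le_of_ble_eq_true k
    obtain ⟨i, hi⟩ := hs ⟨v, hv⟩
    have hi' : u i i.2 = v := congrArg Fin.val hi
    have e : E.f i = E.f₂ 12 := by
      refine mul_left_cancel (mul_right_cancel ((eu i i.2).trans ?_))
      rw [hi', ev]
    obtain ⟨e', l⟩ := E.meet i 12 i.2 (by omega) e
    omega
  have cls : ∀ E : TwoCopy G, ∀ h : G, (∀ a, a < 24 → ∃ c, c < 24 ∧ h * E.f a * h⁻¹ = E.f c) →
      ∃ c, c < 24 ∧ ∃ d : Bool, ∀ a, a < 24 → h * E.f a * h⁻¹ = E.f (autI c d a) := by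
    intro E h h1
    choose u hu eu using h1
    let φ : ℕ → ℕ := fun a => if ha : a < 24 then u a ha else 0
    have hφ : ∀ a (ha : a < 24), φ a = u a ha := fun a ha => dif_pos ha
    obtain ⟨c, hc, d, hd⟩ := aut_class (φ := φ) (fun a ha => by rw [hφ a ha]; exact hu a ha)
      (fun a b ha hb => by
        rw [hφ a ha, hφ b hb, hφ _ (sm_lt ha hb)]
        refine E.f_inj (hu _ _) (sm_lt (hu _ _) (hu _ _)) ?_
        rw [E.hf _ _ (hu a ha) (hu b hb), ← eu, ← eu, ← eu, E.hf a b ha hb, conj_mul])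
      (fun a ha h0 => by
        rw [hφ a ha] at h0
        refine E.inj a ha ?_
        have := eu a ha
        rw [h0, E.f_zero, conj_eq_one_iff] at this
        exact this)
    exact ⟨c, hc, d, fun a ha => by rw [← hd a ha, hφ a ha]; exact eu a ha⟩
  rcases D.image_side hp with h1 | h1 <;> rcases D.flip.image_side (D.flip_pres hp) with h2 | h2
  · obtain ⟨c₁, hc₁, d₁, e₁⟩ := cls D h h1
    obtain ⟨c₂, hc₂, d₂, e₂⟩ := cls D.flip h h2
    exact Or.inl ⟨c₁, c₂, hc₁, hc₂, d₁, d₂, fun a ha => ⟨e₁ a ha, e₂ a ha⟩⟩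
  · exact (nb D h h1 h2).elim
  · exact (nb D.flip h h2 h1).elim
  · exact Or.inr ⟨h1, h2⟩

end TwoCopy

theorem CentData.pres {G : Type*} [Group G] (E : CentData G) {h : G} (hh : h * E.f 1 = E.f 1 * h) :
    E.toTwoCopy.Pres h :=
  ⟨fun x hx => by
      obtain ⟨p, hp, rfl⟩ := hx
      exact E.k_conj h hh p hp,
    fun x hx => E.q_conj hh hx, by rw [hh, mul_inv_cancel_right]⟩

end Cfsg.Agent.Spor.UFour
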