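import Cfsg.Agent.Lib.Spor.UFourThreeType.SetupParam

/-!
The centralizer with the model labels, together with the interchanging element in codes.
-/

set_option autoImplicit false
set_option maxRecDepth 100000

namespace Cfsg.Agent.Spor.UFour

/-- the four-group in codes -/
def w4 : List ℕ := [0, 4, 104, 108]

/-- the action of the interchanging element on the four-group in codes -/
def sw4 (w : ℕ) : ℕ := bif Nat.beq w 4 then 104 else bif Nat.beq w 104 then 4 else w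

theorem a8_cm_ok : (a8List.all fun r => a8List.all fun r' =>
    !Nat.beq (pm (pm (pm r r') r) r') 4 || Nat.beq (cm r r') 4) = true := by decide +kernel

/-- the conditions on the three codes -/
def baseCond (r r' t : ℕ) : Bool :=
  Nat.beq (cm r r') 4 && pD t && Nat.beq (mul t t) 0 && Nat.beq (cm 2 t) 104 &&
  w4.contains (cm 2 r) && w4.contains (cm 2 r') && w4.contains (cm t r) && w4.contains (cm t r') &&
  Nat.beq (sw4 (cm 2 r')) (cm t r) && Nat.beq (sw4 (cm 2 r)) (cm 2 r) && Nat.beq (sw4 (cm t r')) (cm t r') &&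
  inT t

/-- the centralizer with the model labels and the interchanging element -/
structure Base (G : Type*) [Group G] extends HRel G where
  cent : ∀ x : G, x * f 1 = f 1 * x → ∃ p, p < 1152 ∧ x = toHRel.ev p
  inj : ∀ p, p < 1152 → toHRel.ev p = 1 → p = 0
  /-- the interchanging element -/
  g₀ : G
  /-- the code sent to `s` -/
  r : ℕ
  /-- the code of the second involution -/
  r' : ℕ
  /-- the code of its image -/
  t : ℕ
  r_mem : r ∈ a8List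
  r'_mem : r' ∈ a8List
  t_lt : t < 1152
  cond : baseCond r r' t = true
  g₀_z : g₀ * toHRel.ev 4 * g₀⁻¹ = toHRel.ev 104
  g₀_q : g₀ * toHRel.ev 104 * g₀⁻¹ = toHRel.ev 4
  g₀_r : g₀ * toHRel.ev r * g₀⁻¹ = toHRel.ev 2
  g₀_r' : g₀ * toHRel.ev r' * g₀⁻¹ = toHRel.ev t
  g₀_s : ∃ w ∈ w4, g₀ * toHRel.ev 2 * g₀⁻¹ = toHRel.ev (mul w r)
  g₀_t : ∃ w ∈ w4, g₀ * toHRel.ev t * g₀⁻¹ = toHRel.ev (mul w r')

namespace HRel

variable {G : Type*} [Group G] (R : HRel G)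

theorem ev_two : R.ev 2 = R.s := by
  show R.f 0 * R.f' 0 * R.s * 1 = R.s
  rw [f_zero, f'_zero, one_mul, one_mul, mul_one]

theorem ev_one : R.ev 1 = R.u := by
  show R.f 0 * R.f' 0 * 1 * R.u = R.u
  rw [f_zero, f'_zero, one_mul, one_mul, one_mul]

end HRel

namespace Half

variable {G : Type*} [Group G] (R : Half G)

/-- the centralizer relations of the labelled data -/
theorem exists_hrel : ∃ H : HRel G, H.f = R.f ∧ H.s = R.s ∧ H.u = R.u := by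
  obtain ⟨-, -, h1, h2⟩ := R.params
  refine ⟨{ f := R.f, s := R.s, u := R.u, hf := R.hf, s_sq := R.s_sq
            comm := fun a b ha hb => by rw [R.s_f b hb]; exact R.toTwoCopy.comm a b ha hb
            s_z := by rw [R.s_f 1 (by omega)]; exact R.z_eq
            u_sq := by rw [R.u_sq, h1], u_conj := R.u_f, su := by rw [R.s_u, h2] }, rfl, rfl, rfl⟩

include R in
theorem exists_base : Nonempty (Base G) := by
  obtain ⟨hsg, hcs, -, -⟩ := R.params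
  obtain ⟨H, hf, hs, hu⟩ := R.exists_hrel
  have hf' : ∀ b, b < 24 → H.f' b = R.f₂ b := fun b hb => by rw [HRel.f', hf, hs]; exact R.s_f b hb
  have pe : ∀ p, p < 1152 → p % 4 = 0 → H.ev p = R.pv p := by
    intro p hp h4
    have hC : pC p = false := by show Nat.beq (p / 2 % 2) 1 = false; rw [show p / 2 % 2 = 0 by omega]; rfl
    have hD : pD p = false := by show Nat.beq (p % 2) 1 = false; rw [show p % 2 = 0 by omega]; rfl
    show H.f (pA p) * H.f' (pB p) * _ * _ = _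
    rw [hC, hD, cond_false, cond_false, mul_one, mul_one, hf, hf' _ (HRel.pB_lt p)]
    rfl
  have hzf : H.f 1 = R.f 1 := by rw [hf]
  have hcent : ∀ x : G, x * H.f 1 = H.f 1 * x → ∃ p, p < 1152 ∧ x = H.ev p := by
    intro x hx
    rw [hzf] at hx
    obtain ⟨p, hp, c, d, e⟩ := R.cover x hx
    refine ⟨code (pA p) (pB p) c d, HRel.code_lt (HRel.pA_lt hp) (HRel.pB_lt p) c d, ?_⟩
    rw [e, H.ev_code (HRel.pA_lt hp) (HRel.pB_lt p), hf, hf' _ (HRel.pB_lt p), hs, hu]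
    rfl
  have hev : ∀ p, p < 1152 → H.ev p * R.f 1 = R.f 1 * H.ev p := by
    intro p hp
    rw [← hzf, ← H.ev_z, ← H.ev_mul hp (by omega), ← H.ev_mul (by omega) hp]
    congr 1
    have h : allLt 1152 (fun p => Nat.beq (mul p 4) (mul 4 p)) = true := by decide +kernel
    exact Nat.eq_of_beq_eq_true (allLt_spec h p hp)
  have hinj : ∀ p, p < 1152 → H.ev p = 1 → p = 0 := by
    intro p hp he
    let F : Fin 1152 → Subgroup.centralizer ({R.f 1} : Set G) := fun i =>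
      ⟨H.ev i, Subgroup.mem_centralizer_singleton_iff.2 (hev i i.2)⟩
    haveI : Finite (Subgroup.centralizer ({R.f 1} : Set G)) := Nat.finite_of_card_ne_zero (by rw [R.card]; omega)
    have hb : Function.Bijective F := (Nat.bijective_iff_surjective_and_card _).2 ⟨fun ⟨x, hx⟩ => by
        obtain ⟨q, hq, e⟩ := hcent x (by rw [hzf]; exact Subgroup.mem_centralizer_singleton_iff.1 hx)
        exact ⟨⟨q, hq⟩, Subtype.ext e.symm⟩, by rw [Nat.card_fin, R.card]⟩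
    exact congrArg Fin.val (@hb.1 ⟨p, hp⟩ ⟨0, by omega⟩ (Subtype.ext (he.trans H.ev_zero.symm)))
  have heq : ∀ p q, p < 1152 → q < 1152 → H.ev p = H.ev q → p = q := fun p q hp hq e =>
    mul_inv_zero hp hq (hinj _ (HRel.mul_lt hp (HRel.inv_lt hq)) (by
      rw [H.ev_mul hp (HRel.inv_lt hq), H.ev_inv hq, e, mul_inv_cancel]))
  have hw4 : wL R.sg = w4 := by rw [hsg]; rfl
  have hq : qC R.sg = 104 := by rw [hsg]; rfl
  have hsw : ∀ w, swW R.sg w = sw4 w := fun w => by rw [hsg]; rfl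
  obtain ⟨hrl, hr4, -, -⟩ := R.a8_spec R.r_mem
  obtain ⟨hr'l, hr'4, hr'2, -⟩ := R.a8_spec R.r'_mem
  have w4p : ∀ w ∈ w4, w < 1152 ∧ w % 4 = 0 := by decide
  obtain ⟨t, ht, et⟩ : ∃ t, t < 1152 ∧ R.g * R.pv R.r' * R.g⁻¹ = H.ev t ∧ pD t = true := by
    refine ⟨code R.cb R.ca true true, HRel.code_lt R.cab.2 R.cab.1 _ _, ?_, ?_⟩
    · rw [R.g_r', hcs, cond_true, H.ev_code R.cab.2 R.cab.1, cond_true, cond_true, hf, hf' _ R.cab.1, hs, hu,
        R.toTwoCopy.pv_code R.cab.1 R.cab.2, R.toTwoCopy.comm _ _ R.cab.2 R.cab.1, ← R.s_f _ R.cab.1,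
        ← R.s_f _ R.cab.2]
      simp only [mul_assoc]

    · have h : allLt 24 (fun a => allLt 24 fun b => pD (code a b true true)) = true := by decide +kernel
      exact allLt_spec (allLt_spec h _ R.cab.2) _ R.cab.1
  obtain ⟨et, hD⟩ := et
  have gz : R.g * H.ev 4 * R.g⁻¹ = H.ev 104 := by
    rw [H.ev_z, hzf, pe 104 (by omega) rfl, ← hq]; exact R.g_z
  have gq : R.g * H.ev 104 * R.g⁻¹ = H.ev 4 := by
    rw [pe 104 (by omega) rfl, ← hq, H.ev_z, hzf]; exact R.g_q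
  have gr : R.g * H.ev R.r * R.g⁻¹ = H.ev 2 := by rw [pe _ hrl hr4, R.g_r, H.ev_two, hs]
  have gr' : R.g * H.ev R.r' * R.g⁻¹ = H.ev t := by rw [pe _ hr'l hr'4, et]
  have cmv : ∀ p q, p < 1152 → q < 1152 → H.ev (cm p q) = H.ev p * H.ev q * (H.ev p)⁻¹ * (H.ev q)⁻¹ := by
    intro p q hp hq
    rw [cm, H.ev_mul (HRel.mul_lt hp hq) (HRel.mul_lt (HRel.inv_lt hp) (HRel.inv_lt hq)), H.ev_mul hp hq,
      H.ev_mul (HRel.inv_lt hp) (HRel.inv_lt hq), H.ev_inv hp, H.ev_inv hq, mul_assoc (H.ev p * H.ev q)]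
  have cml : ∀ p q, p < 1152 → q < 1152 → cm p q < 1152 := fun p q hp hq =>
    HRel.mul_lt (HRel.mul_lt hp hq) (HRel.mul_lt (HRel.inv_lt hp) (HRel.inv_lt hq))
  have inW : ∀ a c y, y < 1152 → R.g * R.pv a * R.g⁻¹ = H.ev y → c ∈ [R.r, R.r'] → a ∈ [R.r, R.r'] →
      cm y c ∈ w4 ∧ R.g * R.pv a * R.g⁻¹ * R.pv c * (R.g * R.pv a * R.g⁻¹)⁻¹ * (R.pv c)⁻¹ = R.pv (cm y c) := by
    intro a c y hy ey hc ha
    obtain ⟨w, hw, e⟩ := R.bcomm a ha c hc
    have hcl : c < 1152 ∧ c % 4 = 0 := ⟨(R.a8_spec (R.mem_a8 hc)).1, (R.a8_spec (R.mem_a8 hc)).2.1⟩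
    rw [hw4] at hw
    have : cm y c = w := heq _ _ (cml _ _ hy hcl.1) (w4p w hw).1 (by
      rw [cmv _ _ hy hcl.1, pe c hcl.1 hcl.2, ← ey, e, pe w (w4p w hw).1 (w4p w hw).2])
    exact ⟨this ▸ hw, by rw [this]; exact e⟩
  have m1 : R.r ∈ [R.r, R.r'] := List.mem_cons_self
  have m2 : R.r' ∈ [R.r, R.r'] := List.mem_cons_of_mem _ List.mem_cons_self
  have e2 : R.g * R.pv R.r * R.g⁻¹ = H.ev 2 := by rw [R.g_r, H.ev_two, hs]
  obtain ⟨a1, b1⟩ := inW _ _ 2 (by omega) e2 m1 m1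
  obtain ⟨a2, b2⟩ := inW _ _ 2 (by omega) e2 m2 m1
  obtain ⟨a3, b3⟩ := inW _ _ t ht et m1 m2
  obtain ⟨a4, b4⟩ := inW _ _ t ht et m2 m2
  have sw_mem : ∀ w ∈ w4, sw4 w ∈ w4 := by decide
  have eqw : ∀ w v, w ∈ w4 → v ∈ w4 → R.pv w = R.pv v → w = v := fun w v hw hv e =>
    R.toTwoCopy.pv_inj (w4p w hw).1 (w4p v hv).1 (w4p w hw).2 (w4p v hv).2 e
  have gc : ∀ {a c w v : ℕ}, a ∈ [R.r, R.r'] → c ∈ [R.r, R.r'] → w ∈ w4 → v ∈ w4 →
      R.g * R.pv a * R.g⁻¹ * R.pv c * (R.g * R.pv a * R.g⁻¹)⁻¹ * (R.pv c)⁻¹ = R.pv w →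
      R.g * R.pv c * R.g⁻¹ * R.pv a * (R.g * R.pv c * R.g⁻¹)⁻¹ * (R.pv a)⁻¹ = R.pv v → sw4 w = v := by
    intro a c w v ha hc hw hv x y
    refine eqw _ _ (sw_mem w hw) hv ?_
    rw [← hsw]
    exact R.g_comm ha hc (hw4.symm ▸ hw) (hw4.symm ▸ hv) x y
  have hT2 : mul t t = 0 := heq _ _ (HRel.mul_lt ht ht) (by omega) (by
    rw [H.ev_mul ht ht, ← et, R.img_sq R.r'_mem, H.ev_zero])
  have hst : cm 2 t = 104 := heq _ _ (cml _ _ (by omega) ht) (by omega) (by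
    rw [cmv _ _ (by omega) ht, ← et, H.ev_two, hs, pe 104 (by omega) rfl, ← hq, ← R.g_r,
      show R.g * R.pv R.r * R.g⁻¹ * (R.g * R.pv R.r' * R.g⁻¹) * (R.g * R.pv R.r * R.g⁻¹)⁻¹ *
        (R.g * R.pv R.r' * R.g⁻¹)⁻¹ = R.g * (R.pv R.r * R.pv R.r' * (R.pv R.r)⁻¹ * (R.pv R.r')⁻¹) * R.g⁻¹ by group,
      inv_eq_of_mul_eq_one_right (R.a8_spec R.r_mem).2.2.1, inv_eq_of_mul_eq_one_right hr'2,
      ← R.toTwoCopy.pv_pm hrl hr'l, ← R.toTwoCopy.pv_pm (TwoCopy.pm_lt hrl hr'l) hrl,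
      ← R.toTwoCopy.pv_pm (TwoCopy.pm_lt (TwoCopy.pm_lt hrl hr'l) hrl) hr'l, R.rr, R.toTwoCopy.z_pv]
    exact R.g_z)
  have hinT : inT t = true := by
    have h1 := (R.img_w R.r'_mem (show qC R.sg ∈ wL R.sg by simp [wL]))
    rw [hq, et, ← pe 104 (by omega) rfl] at h1
    have : cj t 104 = 104 := heq _ _ (HRel.mul_lt (HRel.mul_lt ht (by omega)) (HRel.inv_lt ht)) (by omega) (by
      rw [H.ev_cj ht (by omega), ← h1, mul_inv_cancel_right])
    show Nat.beq (cj t 104) 104 = true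
    rw [this]; rfl
  have hrr : cm R.r R.r' = 4 := by
    have k := List.all_eq_true.1 (List.all_eq_true.1 a8_cm_ok _ R.r_mem) _ R.r'_mem
    rw [R.rr, Nat.beq_refl, Bool.not_true, Bool.false_or] at k
    exact Nat.eq_of_beq_eq_true k
  have gs : ∀ a y, a ∈ [R.r, R.r'] → y < 1152 → R.g * R.pv a * R.g⁻¹ = H.ev y →
      ∃ w ∈ w4, R.g * H.ev y * R.g⁻¹ = H.ev (mul w a) := by
    intro a y ha hy ey
    obtain ⟨w, hw, e⟩ := R.gg a ha
    rw [hw4] at hw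
    obtain ⟨hal, ha4, -, -⟩ := R.a8_spec (R.mem_a8 ha)
    refine ⟨w, hw, ?_⟩
    rw [H.ev_mul (w4p w hw).1 hal, pe w (w4p w hw).1 (w4p w hw).2, pe a hal ha4, ← e, ← ey]
    group
  refine ⟨{ toHRel := H, cent := hcent, inj := hinj, g₀ := R.g, r := R.r, r' := R.r', t := t, r_mem := R.r_mem,
            r'_mem := R.r'_mem, t_lt := ht, cond := ?_, g₀_z := gz, g₀_q := gq, g₀_r := gr, g₀_r' := gr',
            g₀_s := gs _ 2 m1 (by omega) e2, g₀_t := gs _ t m2 ht et }⟩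
  simp only [baseCond, Bool.and_eq_true]
  refine ⟨⟨⟨⟨⟨⟨⟨⟨⟨⟨⟨?_, hD⟩, ?_⟩, ?_⟩, List.contains_iff_mem.2 a1⟩, List.contains_iff_mem.2 a2⟩,
    List.contains_iff_mem.2 a3⟩, List.contains_iff_mem.2 a4⟩, ?_⟩, ?_⟩, ?_⟩, hinT⟩
  · rw [hrr, Nat.beq_refl]
  · rw [hT2, Nat.beq_refl]
  · rw [hst, Nat.beq_refl]
  · rw [gc m1 m2 a2 a3 b2 b3, Nat.beq_refl]
  · rw [gc m1 m1 a1 a1 b1 b1, Nat.beq_refl]
  · rw [gc m2 m2 a4 a4 b4 b4, Nat.beq_refl]

end Half

end Cfsg.Agent.Spor.UFour
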