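import Cfsg.Agent.Lib.Spor.UFourThreeType.SetupCopy
import Cfsg.Agent.Lib.Solv.Component
import Cfsg.Agent.Lib.Fusion.Cores
import Mathlib.Tactic.IntervalCases

/-!
The hypotheses on the centralizer of the involution, restated with two commuting copies of SL(2,3).
-/

set_option autoImplicit false
set_option maxRecDepth 100000

namespace Cfsg.Agent.Spor.UFour

/-- membership of an index in the quaternion subgroup -/
def q8 (a : ℕ) : Bool := Nat.beq (sm (sm a a) (sm a a)) 0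

/-- membership of a pure code in the product of the quaternion subgroups -/
def qP (p : ℕ) : Bool := q8 (pA p) && q8 (pB p)

theorem q8_ok : allLt 24 (fun a => allLt 24 fun b => (!(q8 a && q8 b) || q8 (sm a b)) &&
    (!(q8 a) || (q8 (si a) && q8 (sm 1 a))) && (!Nat.blt (sm (sm a a) (sm a a)) 2 || q8 a) &&
    (!Nat.beq (sm (sm (sm a a) (sm a a)) (sm (sm a a) (sm a a))) 0 || q8 a)) = true := by decide +kernel

theorem qP_zero : qP 0 = true := by decide +kernel

namespace TwoCopy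

variable {G : Type*} [Group G] (D : TwoCopy G)

theorem z_pv : D.pv 4 = D.f 1 := by
  rw [show (4 : ℕ) = code 1 0 false false by decide +kernel, D.pv_code (by omega) (by omega), D.f₂_zero, mul_one]

theorem z_comm {p : ℕ} (hp : p < 1152) : D.f 1 * D.pv p = D.pv p * D.f 1 := by
  have a1 := HRel.pA_lt hp; have b1 := HRel.pB_lt p
  have e : D.f 1 * D.f (pA p) = D.f (pA p) * D.f 1 := by
    rw [← D.hf 1 _ (by omega) a1, ← D.hf _ 1 a1 (by omega), (misc a1).2.2.2.2.1]
  rw [pv, ← mul_assoc, e, mul_assoc, D.comm 1 _ (by omega) b1, ← mul_assoc]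

theorem z_ne : D.f 1 ≠ 1 := fun h => absurd (D.inj 1 (by omega) h) (by omega)

/-- the product of the two copies -/
def inK (x : G) : Prop := ∃ p, p < 1152 ∧ D.pv p = x

/-- the product of the two quaternion subgroups -/
def inQ (x : G) : Prop := ∃ p, p < 1152 ∧ qP p = true ∧ D.pv p = x

theorem qP_code {a b : ℕ} (ha : a < 24) (hb : b < 24) (h1 : q8 a = true) (h2 : q8 b = true) :
    qP (code a b false false) = true := by
  have k1 := allLt_spec (allLt_spec q8_ok a ha) a ha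
  have k2 := allLt_spec (allLt_spec q8_ok b hb) b hb
  simp only [Bool.and_eq_true, Bool.or_eq_true, h1, h2, Bool.not_true, Bool.false_eq_true, false_or] at k1 k2
  have h := allLt_spec (allLt_spec code_pair_ok a ha) b hb
  simp only [Bool.and_eq_true, Bool.or_eq_true] at h
  obtain ⟨⟨u1, u2⟩ | ⟨u1, u2⟩, -⟩ := h
  · rw [qP, Nat.eq_of_beq_eq_true u1, Nat.eq_of_beq_eq_true u2, h1, h2]; rfl
  · rw [qP, Nat.eq_of_beq_eq_true u1, Nat.eq_of_beq_eq_true u2, k1.1.1.2.2, k2.1.1.2.2]; rfl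

theorem qP_pm {p q : ℕ} (hp : p < 1152) (hq : q < 1152) (h1 : qP p = true) (h2 : qP q = true) :
    qP (pm p q) = true := by
  have a1 := HRel.pA_lt hp; have a2 := HRel.pA_lt hq; have b1 := HRel.pB_lt p; have b2 := HRel.pB_lt q
  simp only [qP, Bool.and_eq_true] at h1 h2
  have k1 := allLt_spec (allLt_spec q8_ok _ a1) _ a2
  have k2 := allLt_spec (allLt_spec q8_ok _ b1) _ b2
  simp only [Bool.and_eq_true, Bool.or_eq_true, h1, h2, Bool.not_true, Bool.and_self, Bool.false_eq_true,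
    false_or] at k1 k2
  exact qP_code (sm_lt a1 a2) (sm_lt b1 b2) k1.1.1.1 k2.1.1.1

theorem qP_pI {p : ℕ} (hp : p < 1152) (h : qP p = true) : qP (pI p) = true := by
  have a1 := HRel.pA_lt hp; have b1 := HRel.pB_lt p
  simp only [qP, Bool.and_eq_true] at h
  have k1 := allLt_spec (allLt_spec q8_ok _ a1) _ a1
  have k2 := allLt_spec (allLt_spec q8_ok _ b1) _ b1
  simp only [Bool.and_eq_true, Bool.or_eq_true, h, Bool.not_true, Bool.false_eq_true, false_or] at k1 k2
  exact qP_code (misc a1).2.1 (misc b1).2.1 k1.1.1.2.1 k2.1.1.2.1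

theorem pow_four {p : ℕ} (hp : p < 1152) :
    D.pv p ^ 4 = D.f (sm (sm (pA p) (pA p)) (sm (pA p) (pA p))) *
      D.f₂ (sm (sm (pB p) (pB p)) (sm (pB p) (pB p))) := by
  have a1 := HRel.pA_lt hp; have b1 := HRel.pB_lt p
  rw [pv, (show Commute _ _ from D.comm _ _ a1 b1).mul_pow, D.hf _ _ (sm_lt a1 a1) (sm_lt a1 a1),
    D.hf _ _ a1 a1, D.hf₂ _ _ (sm_lt b1 b1) (sm_lt b1 b1), D.hf₂ _ _ b1 b1]
  simp only [pow_succ, pow_zero, one_mul, mul_assoc]

theorem pow_four_of_qP {p : ℕ} (hp : p < 1152) (h : qP p = true) : D.pv p ^ 4 = 1 := by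
  simp only [qP, q8, Bool.and_eq_true] at h
  rw [D.pow_four hp, Nat.eq_of_beq_eq_true h.1, Nat.eq_of_beq_eq_true h.2, D.f_zero, D.f₂_zero, mul_one]

theorem qP_of_pow_four {p : ℕ} (hp : p < 1152) (h : D.pv p ^ 4 = 1) : qP p = true := by
  have a1 := HRel.pA_lt hp; have b1 := HRel.pB_lt p
  rw [D.pow_four hp] at h
  generalize hA : sm (sm (pA p) (pA p)) (sm (pA p) (pA p)) = A at h
  generalize hB : sm (sm (pB p) (pB p)) (sm (pB p) (pB p)) = B at h
  have lA : A < 24 := hA ▸ sm_lt (sm_lt a1 a1) (sm_lt a1 a1)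
  have lB : B < 24 := hB ▸ sm_lt (sm_lt b1 b1) (sm_lt b1 b1)
  have e : D.f A = D.f₂ (si B) := by rw [D.f₂_si lB]; exact eq_inv_of_mul_eq_one_left h
  obtain ⟨e1, l1⟩ := D.meet _ _ lA (misc lB).2.1 e
  have k := allLt_spec (allLt_spec pure_ok _ lA) _ lB
  rw [← e1, Nat.beq_refl, show Nat.blt A 2 = true from Nat.ble_eq_true_of_le l1, Bool.and_self, Bool.not_true,
    Bool.false_or, Bool.and_eq_true] at k
  have k1 := allLt_spec (allLt_spec q8_ok _ a1) _ a1
  have k2 := allLt_spec (allLt_spec q8_ok _ b1) _ b1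
  simp only [Bool.and_eq_true, Bool.or_eq_true, hA, hB, show Nat.blt A 2 = true from Nat.ble_eq_true_of_le l1, k.2,
    Bool.not_true, Bool.false_eq_true, false_or] at k1 k2
  rw [qP, k1.1.2, k2.1.2]; rfl

theorem qP_of_pow_eight {p : ℕ} (hp : p < 1152) (h : D.pv p ^ 8 = 1) : qP p = true := by
  have a1 := HRel.pA_lt hp; have b1 := HRel.pB_lt p
  have h2 : D.pv (pm p p) ^ 4 = 1 := by rw [D.pv_pm hp hp, ← pow_two, ← pow_mul]; exact h
  have h3 := D.qP_of_pow_four (pm_lt hp hp) h2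
  simp only [qP, Bool.and_eq_true] at h3
  have hA : q8 (sm (pA p) (pA p)) = true := by
    have h := allLt_spec (allLt_spec code_pair_ok _ (sm_lt a1 a1)) _ (sm_lt b1 b1)
    simp only [Bool.and_eq_true, Bool.or_eq_true] at h
    obtain ⟨⟨u, -⟩ | ⟨u, -⟩, -⟩ := h
    · rw [← Nat.eq_of_beq_eq_true u]; exact h3.1
    · have k := allLt_spec (allLt_spec q8_ok _ (HRel.pA_lt (pm_lt hp hp))) _ (HRel.pA_lt (pm_lt hp hp))
      simp only [Bool.and_eq_true, Bool.or_eq_true, h3.1, Bool.not_true, Bool.false_eq_true, false_or] at k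
      have := k.1.1.2.2
      rwa [show pA (pm p p) = sm 1 (sm (pA p) (pA p)) from Nat.eq_of_beq_eq_true u,
        (misc (sm_lt a1 a1)).2.2.2.2.2.1] at this
  have hB : q8 (sm (pB p) (pB p)) = true := by
    have h := allLt_spec (allLt_spec code_pair_ok _ (sm_lt a1 a1)) _ (sm_lt b1 b1)
    simp only [Bool.and_eq_true, Bool.or_eq_true] at h
    obtain ⟨⟨-, u⟩ | ⟨-, u⟩, -⟩ := h
    · rw [← Nat.eq_of_beq_eq_true u]; exact h3.2
    · have k := allLt_spec (allLt_spec q8_ok _ (HRel.pB_lt (pm p p))) _ (HRel.pB_lt (pm p p))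
      simp only [Bool.and_eq_true, Bool.or_eq_true, h3.2, Bool.not_true, Bool.false_eq_true, false_or] at k
      have := k.1.1.2.2
      rwa [show pB (pm p p) = sm 1 (sm (pB p) (pB p)) from Nat.eq_of_beq_eq_true u,
        (misc (sm_lt b1 b1)).2.2.2.2.2.1] at this
  have k1 := allLt_spec (allLt_spec q8_ok _ a1) _ a1
  have k2 := allLt_spec (allLt_spec q8_ok _ b1) _ b1
  simp only [q8] at hA hB
  simp only [Bool.and_eq_true, Bool.or_eq_true, hA, hB, Bool.not_true, Bool.false_eq_true, false_or] at k1 k2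
  rw [qP, k1.2, k2.2]; rfl

end TwoCopy

/-- the centralizer of the involution `f 1` with the product of the two copies and its quaternion part -/
structure CentData (G : Type*) [Group G] extends TwoCopy G where
  card : Nat.card (Subgroup.centralizer ({f 1} : Set G)) = 1152
  k_conj : ∀ h : G, h * f 1 = f 1 * h → ∀ p, p < 1152 → toTwoCopy.inK (h * toTwoCopy.pv p * h⁻¹)
  q_cent : ∀ h : G, h * f 1 = f 1 * h → (∀ p, p < 1152 → qP p = true → h * toTwoCopy.pv p = toTwoCopy.pv p * h) →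
    toTwoCopy.inQ h
  cut : ∀ g : G, toTwoCopy.inQ (g * f 1 * g⁻¹) → g * f 1 * g⁻¹ ≠ f 1 →
    Nat.card {x : G // toTwoCopy.inQ x ∧ toTwoCopy.inQ (g⁻¹ * x * g)} = 4
  nwc : ∃ g : G, toTwoCopy.inQ (g * f 1 * g⁻¹) ∧ g * f 1 * g⁻¹ ≠ f 1

namespace CentData

variable {G : Type*} [Group G] (E : CentData G)

theorem q_conj {h : G} (hh : h * E.f 1 = E.f 1 * h) {x : G} (hx : E.inQ x) : E.inQ (h * x * h⁻¹) := by
  obtain ⟨p, hp, hq, rfl⟩ := hx
  obtain ⟨p', hp', e⟩ := E.k_conj h hh p hp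
  refine ⟨p', hp', E.qP_of_pow_four hp' ?_, e⟩
  rw [e, conj_pow, E.pow_four_of_qP hp hq, mul_one, mul_inv_cancel]

end CentData

end Cfsg.Agent.Spor.UFour
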