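import Cfsg.Agent.Lib.Spor.UFourThreeType.Code
import Mathlib.LinearAlgebra.Matrix.SpecialLinearGroup
import Mathlib.Data.ZMod.Basic
import Mathlib.GroupTheory.OrderOfElement

/-!
Indices for copies of SL(2,3) in a group and codes for the elements of a product of two commuting copies
with common centre.
-/

set_option autoImplicit false
set_option maxRecDepth 100000

namespace Cfsg.Agent.Spor.UFour

/-- an entry of an index as a scalar -/
def slEnt (a k : ℕ) : ZMod 3 := (sEnt a k : ℕ)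

/-- the matrix of an index -/
def slMat (a : ℕ) : Matrix (Fin 2) (Fin 2) (ZMod 3) :=
  Matrix.of fun i j => slEnt a (2 * i.val + j.val)

/-- the special linear matrix of an index -/
def slDec (a : ℕ) : Matrix.SpecialLinearGroup (Fin 2) (ZMod 3) :=
  if h : (slMat a).det = 1 then (⟨slMat a, h⟩ : Matrix.SpecialLinearGroup (Fin 2) (ZMod 3)) else 1

theorem slEnt_det : ∀ a : Fin 24, slEnt a 0 * slEnt a 3 - slEnt a 1 * slEnt a 2 = 1 := by decide +kernel

theorem slEnt_mul : ∀ a b : Fin 24, ∀ i j : Fin 2, slEnt (sm a b) (2 * i.val + j.val) =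
    slEnt a (2 * i.val) * slEnt b j.val + slEnt a (2 * i.val + 1) * slEnt b (2 + j.val) := by decide +kernel

theorem slEnt_surj : ∀ a b c d : ZMod 3, a * d - b * c = 1 → ∃ k : Fin 24,
    slEnt k 0 = a ∧ slEnt k 1 = b ∧ slEnt k 2 = c ∧ slEnt k 3 = d := by decide +kernel

theorem slEnt_inj : ∀ a : Fin 24, slEnt a 0 = 1 → slEnt a 1 = 0 → slEnt a 2 = 0 → slEnt a 3 = 1 → a = 0 := by
  decide +kernel

theorem slDec_coe {a : ℕ} (ha : a < 24) : (slDec a : Matrix (Fin 2) (Fin 2) (ZMod 3)) = slMat a := by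
  have h : (slMat a).det = 1 := by
    rw [Matrix.det_fin_two]; exact slEnt_det ⟨a, ha⟩
  show ((if h : (slMat a).det = 1 then _ else _ : Matrix.SpecialLinearGroup (Fin 2) (ZMod 3)) : Matrix (Fin 2) (Fin 2) (ZMod 3)) = _
  by_cases h' : (slMat a).det = 1
  · exact congrArg Subtype.val (dif_pos h' : slDec a = _)
  · exact absurd h h'

theorem slDec_mul {a b : ℕ} (ha : a < 24) (hb : b < 24) : slDec (sm a b) = slDec a * slDec b := by
  apply Subtype.ext
  rw [slDec_coe (sm_lt ha hb), Matrix.SpecialLinearGroup.coe_mul, slDec_coe ha, slDec_coe hb]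
  ext i j
  rw [Matrix.mul_apply, Fin.sum_univ_two]
  have := slEnt_mul ⟨a, ha⟩ ⟨b, hb⟩ i j
  fin_cases i <;> fin_cases j <;> simpa [slMat] using this

theorem slDec_surj (M : Matrix.SpecialLinearGroup (Fin 2) (ZMod 3)) : ∃ a, a < 24 ∧ slDec a = M := by
  obtain ⟨k, h0, h1, h2, h3⟩ := slEnt_surj (M.1 0 0) (M.1 0 1) (M.1 1 0) (M.1 1 1)
    (by rw [← Matrix.det_fin_two]; exact M.2)
  refine ⟨k, k.2, Subtype.ext ?_⟩
  rw [slDec_coe k.2]
  ext i j
  fin_cases i <;> fin_cases j <;> assumption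

theorem slDec_inj {a : ℕ} (ha : a < 24) (h : slDec a = 1) : a = 0 := by
  have h' : slMat a = 1 := by rw [← slDec_coe ha, h]; rfl
  have e := fun i j => congrFun (congrFun h' i) j
  exact congrArg Fin.val (slEnt_inj ⟨a, ha⟩ (e 0 0) (e 0 1) (e 1 0) (e 1 1))

/-- an indexing of a subgroup isomorphic to SL(2,3) -/
structure SLCopy {G : Type*} [Group G] (H : Subgroup G) where
  /-- the element of an index -/
  f : ℕ → G
  hf : ∀ a b, a < 24 → b < 24 → f (sm a b) = f a * f b
  inj : ∀ a, a < 24 → f a = 1 → a = 0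
  mem : ∀ x, x ∈ H ↔ ∃ a, a < 24 ∧ f a = x

/-- a copy from an isomorphism -/
theorem SLCopy.exists_of_iso {G : Type*} [Group G] {H : Subgroup G}
    (e : H ≃* Matrix.SpecialLinearGroup (Fin 2) (ZMod 3)) : Nonempty (SLCopy H) :=
  ⟨{ f := fun a => (e.symm (slDec a) : G)
     hf := fun a b ha hb => by
       show (e.symm (slDec (sm a b)) : G) = _
       rw [slDec_mul ha hb, map_mul, Subgroup.coe_mul]
     inj := fun a ha h => by
       refine slDec_inj ha (e.symm.injective ?_)
       rw [map_one]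
       exact Subtype.ext h
     mem := fun x => ⟨fun hx => by
         obtain ⟨a, ha, h⟩ := slDec_surj (e ⟨x, hx⟩)
         exact ⟨a, ha, by show (e.symm (slDec a) : G) = x; rw [h, MulEquiv.symm_apply_apply]⟩,
       by rintro ⟨a, -, rfl⟩; exact SetLike.coe_mem _⟩ }⟩

/-- product of pure codes -/
def pm (p q : ℕ) : ℕ := code (sm (pA p) (pA q)) (sm (pB p) (pB q)) false false

/-- inverse of a pure code -/
def pI (p : ℕ) : ℕ := code (si (pA p)) (si (pB p)) false false

/-- the exchange on pure codes -/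
def pS (p : ℕ) : ℕ := code (pB p) (pA p) false false

/-- the outer map on pure codes -/
def pU (p : ℕ) : ℕ := code (sU (pA p)) (sU (pB p)) false false

/-- the two kinds of pure codes of a pair -/
theorem code_pair_ok : allLt 24 (fun a => allLt 24 fun b =>
    ((Nat.beq (pA (code a b false false)) a && Nat.beq (pB (code a b false false)) b) ||
      (Nat.beq (pA (code a b false false)) (sm 1 a) && Nat.beq (pB (code a b false false)) (sm 1 b))) &&
    Nat.beq (Nat.mod (code a b false false) 4) 0) = true := by decide +kernel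

theorem pure_ok : allLt 24 (fun a => allLt 24 fun b => !(Nat.beq a (si b) && Nat.blt a 2) ||
    (Nat.beq a b && Nat.blt b 2)) = true := by decide +kernel

theorem sl_misc_ok : allLt 24 (fun a => Nat.beq (sm a (si a)) 0 && Nat.beq (si (si a)) a) = true := by
  decide +kernel

theorem sl_assoc_ok : allLt 24 (fun a => allLt 24 fun b => allLt 24 fun c =>
    Nat.beq (sm (sm a b) c) (sm a (sm b c))) = true := by decide +kernel

/-- every index is a product of two squares -/
theorem sl_squares_ok : allLt 24 (fun a => !allLt 24 fun b => !(Nat.beq a (sm b b) || !allLt 24 fun c =>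
    !Nat.beq a (sm (sm b b) (sm c c)))) = true := by decide +kernel

theorem sl_squares {a : ℕ} (ha : a < 24) : ∃ b c, b < 24 ∧ c < 24 ∧ a = sm (sm b b) (sm c c) := by
  by_contra h
  push Not at h
  have key := allLt_spec sl_squares_ok a ha
  have aux : ∀ (n : ℕ) (P : ℕ → Bool), (∀ k, k < n → P k = true) → allLt n P = true := by
    intro n P
    induction n with
    | zero => intro _; rfl
    | succ n ih =>
      intro hP
      show (P n && allLt n P) = true
      rw [hP n (by omega), ih fun k hk => hP k (by omega), Bool.true_and]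
  rw [aux 24 _ fun b hb => ?_] at key
  · simp at key
  · have h0 : sm (sm b b) (sm 0 0) = sm b b := by
      rw [(misc (a := 0) (by omega)).2.2.1, (misc (sm_lt hb hb)).2.2.2.1]
    rw [aux 24 _ fun c hc => ?_, show Nat.beq a (sm b b) = false from ?_]
    · rfl
    · exact Bool.eq_false_iff.2 fun e => h b 0 hb (by omega) (by rw [h0]; exact Nat.eq_of_beq_eq_true e)
    · rw [show Nat.beq a (sm (sm b b) (sm c c)) = false from
        Bool.eq_false_iff.2 fun e => h b c hb hc (Nat.eq_of_beq_eq_true e)]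
      rfl

/-- two commuting copies of SL(2,3) with common centre -/
structure TwoCopy (G : Type*) [Group G] where
  /-- the first copy -/
  f : ℕ → G
  /-- the second copy -/
  f₂ : ℕ → G
  hf : ∀ a b, a < 24 → b < 24 → f (sm a b) = f a * f b
  hf₂ : ∀ a b, a < 24 → b < 24 → f₂ (sm a b) = f₂ a * f₂ b
  comm : ∀ a b, a < 24 → b < 24 → f a * f₂ b = f₂ b * f a
  z_eq : f₂ 1 = f 1
  meet : ∀ a b, a < 24 → b < 24 → f a = f₂ b → a = b ∧ a < 2
  inj : ∀ a, a < 24 → f a = 1 → a = 0

namespace TwoCopy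

variable {G : Type*} [Group G] (D : TwoCopy G)

/-- the element of a pure code -/
def pv (p : ℕ) : G := D.f (pA p) * D.f₂ (pB p)

theorem f_zero : D.f 0 = 1 := by
  have h := D.hf 0 0 (by omega) (by omega)
  rw [(misc (a := 0) (by omega)).2.2.1] at h
  exact left_eq_mul.1 h

theorem f₂_zero : D.f₂ 0 = 1 := by
  have h := D.hf₂ 0 0 (by omega) (by omega)
  rw [(misc (a := 0) (by omega)).2.2.1] at h
  exact left_eq_mul.1 h

theorem f_si {a : ℕ} (ha : a < 24) : D.f (si a) = (D.f a)⁻¹ := by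
  refine eq_inv_of_mul_eq_one_left ?_
  rw [← D.hf _ _ (misc ha).2.1 ha, (misc ha).2.2.2.2.2.2, D.f_zero]

theorem f₂_si {a : ℕ} (ha : a < 24) : D.f₂ (si a) = (D.f₂ a)⁻¹ := by
  refine eq_inv_of_mul_eq_one_left ?_
  rw [← D.hf₂ _ _ (misc ha).2.1 ha, (misc ha).2.2.2.2.2.2, D.f₂_zero]

theorem z_sq : D.f 1 * D.f 1 = 1 := by
  rw [← D.hf 1 1 (by omega) (by omega), show sm 1 1 = 0 by decide +kernel, D.f_zero]

theorem pv_code {a b : ℕ} (ha : a < 24) (hb : b < 24) : D.pv (code a b false false) = D.f a * D.f₂ b := by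
  have h := allLt_spec (allLt_spec code_pair_ok a ha) b hb
  simp only [Bool.and_eq_true, Bool.or_eq_true] at h
  obtain ⟨⟨h1, h2⟩ | ⟨h1, h2⟩, -⟩ := h
  · rw [pv, Nat.eq_of_beq_eq_true h1, Nat.eq_of_beq_eq_true h2]
  · rw [pv, Nat.eq_of_beq_eq_true h1, Nat.eq_of_beq_eq_true h2, D.hf _ _ (by omega) ha, D.hf₂ _ _ (by omega) hb,
      D.z_eq]
    have hzc : D.f 1 * D.f a = D.f a * D.f 1 := by
      rw [← D.hf 1 a (by omega) ha, ← D.hf a 1 ha (by omega), (misc ha).2.2.2.2.1]
    rw [hzc, mul_assoc, ← mul_assoc (D.f 1) (D.f 1), D.z_sq, one_mul]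

theorem pv_zero : D.pv 0 = 1 := by
  rw [show (0 : ℕ) = code 0 0 false false by decide +kernel, D.pv_code (by omega) (by omega), D.f_zero, D.f₂_zero,
    mul_one]

theorem pv_pm {p q : ℕ} (hp : p < 1152) (hq : q < 1152) : D.pv (pm p q) = D.pv p * D.pv q := by
  have a1 := HRel.pA_lt hp; have a2 := HRel.pA_lt hq; have b1 := HRel.pB_lt p; have b2 := HRel.pB_lt q
  rw [pm, D.pv_code (sm_lt a1 a2) (sm_lt b1 b2), D.hf _ _ a1 a2, D.hf₂ _ _ b1 b2]
  simp only [pv, mul_assoc]
  rw [← mul_assoc (D.f (pA q)), D.comm _ _ a2 b1, mul_assoc]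

theorem pv_pI {p : ℕ} (hp : p < 1152) : D.pv (pI p) = (D.pv p)⁻¹ := by
  have a1 := HRel.pA_lt hp; have b1 := HRel.pB_lt p
  rw [pI, D.pv_code (misc a1).2.1 (misc b1).2.1, D.f_si a1, D.f₂_si b1, pv, mul_inv_rev]
  exact Commute.inv_inv (D.comm _ _ a1 b1)

theorem pv_eq_one {p : ℕ} (hp : p < 1152) (h4 : p % 4 = 0) (h : D.pv p = 1) : p = 0 := by
  have a1 := HRel.pA_lt hp; have b1 := HRel.pB_lt p
  have h' : D.f (pA p) = D.f₂ (si (pB p)) := by rw [D.f₂_si b1]; exact eq_inv_of_mul_eq_one_left h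
  obtain ⟨e, l⟩ := D.meet _ _ a1 (misc b1).2.1 h'
  have k := allLt_spec (allLt_spec pure_ok _ a1) _ b1
  rw [show Nat.beq (pA p) (si (pB p)) = true from e ▸ Nat.beq_refl _,
    show Nat.blt (pA p) 2 = true from Nat.ble_eq_true_of_le l, Bool.and_self, Bool.not_true, Bool.false_or,
    Bool.and_eq_true] at k
  have e' : pA p = pB p := Nat.eq_of_beq_eq_true k.1
  have e'' : 2 * (p / 96) = p / 4 % 24 := e'
  have l' : 2 * (p / 96) < 2 := l
  omega

theorem code_mod {a b : ℕ} (ha : a < 24) (hb : b < 24) : code a b false false % 4 = 0 :=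
  Nat.eq_of_beq_eq_true (Bool.and_eq_true_iff.mp (allLt_spec (allLt_spec code_pair_ok a ha) b hb)).2

theorem pm_lt {p q : ℕ} (hp : p < 1152) (hq : q < 1152) : pm p q < 1152 :=
  HRel.code_lt (sm_lt (HRel.pA_lt hp) (HRel.pA_lt hq)) (sm_lt (HRel.pB_lt p) (HRel.pB_lt q)) _ _

theorem pI_lt {p : ℕ} (hp : p < 1152) : pI p < 1152 :=
  HRel.code_lt (misc (HRel.pA_lt hp)).2.1 (misc (HRel.pB_lt p)).2.1 _ _

/-- equal values of pure codes -/
theorem pv_eq {p q : ℕ} (hp : p < 1152) (hq : q < 1152) (h : D.pv p = D.pv q) : pm p (pI q) = 0 :=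
  D.pv_eq_one (pm_lt hp (pI_lt hq))
    (code_mod (sm_lt (HRel.pA_lt hp) (HRel.pA_lt (pI_lt hq))) (sm_lt (HRel.pB_lt p) (HRel.pB_lt (pI q))))
    (by rw [D.pv_pm hp (pI_lt hq), D.pv_pI hq, h, mul_inv_cancel])

end TwoCopy

end Cfsg.Agent.Spor.UFour
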