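import Cfsg.Agent.Lib.Spor.UFourThreeType.SetupSwap
import Mathlib.GroupTheory.Coset.Card

/-!
Existence of the interchanging element, and one of its two involutions exchanges the two copies.
-/

set_option autoImplicit false
set_option maxRecDepth 100000

namespace Cfsg.Agent.Spor.UFour

namespace CentData

variable {G : Type*} [Group G] (E : CentData G)

theorem pv104 : E.pv 104 = E.f 2 * E.f₂ 2 := by
  rw [show (104 : ℕ) = code 2 2 false false by decide +kernel, E.toTwoCopy.pv_code (by omega) (by omega)]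

theorem qe_facts : E.inQ (E.pv 104) ∧ E.pv 104 * E.pv 104 = 1 ∧ E.pv 104 ≠ 1 ∧ E.pv 104 ≠ E.f 1 := by
  refine ⟨E.toTwoCopy.inQ_pv (by omega) (by decide +kernel), ?_, fun h => ?_, fun h => ?_⟩
  · rw [← E.toTwoCopy.pv_pm (by omega) (by omega), show pm 104 104 = 0 by decide +kernel, E.toTwoCopy.pv_zero]
  · rw [← E.toTwoCopy.pv_zero] at h
    exact absurd (E.toTwoCopy.pv_inj (by omega) (by omega) (by omega) (by omega) h) (by omega)
  · rw [← E.toTwoCopy.z_pv] at h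
    exact absurd (E.toTwoCopy.pv_inj (by omega) (by omega) (by omega) (by omega) h) (by omega)

/-- commutators of two elements of a 2-subgroup of the centralizer lie in the quaternion product -/
theorem comm_inQ {P : Subgroup G} (hP : ∀ u ∈ P, u * E.f 1 = E.f 1 * u) (h4 : ∀ u ∈ P, u ^ 4 = 1)
    {u v : G} (hu : u ∈ P) (hv : v ∈ P) : E.inQ (u * v * u⁻¹ * v⁻¹) := by
  haveI : Fact (Nat.Prime 2) := ⟨Nat.prime_two⟩
  set C := Subgroup.centralizer ({E.f 1} : Set G)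
  haveI : Finite C := Nat.finite_of_card_ne_zero (by rw [E.card]; omega)
  have hPC : P ≤ C := fun w hw => Subgroup.mem_centralizer_singleton_iff.2 (hP w hw)
  have hQC : E.toTwoCopy.qSub ≤ C := fun w hw =>
    Subgroup.mem_centralizer_singleton_iff.2 (by
      obtain ⟨p, hp, -, rfl⟩ := hw
      exact (E.toTwoCopy.z_comm hp).symm)
  set N := E.toTwoCopy.qSub.subgroupOf C
  haveI : N.Normal := ⟨fun w hw k => E.q_conj (Subgroup.mem_centralizer_singleton_iff.1 k.2) hw⟩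
  have hN : N.index = 36 := by
    have := Subgroup.card_mul_index N
    rw [Nat.card_congr (Subgroup.subgroupOfEquivOfLe hQC).toEquiv, E.toTwoCopy.card_qSub, E.card] at this
    omega
  set M := (P.subgroupOf C).map (QuotientGroup.mk' N)
  have hM : IsPGroup 2 M := by
    rintro ⟨_, w, hw, rfl⟩
    refine ⟨2, Subtype.ext ?_⟩
    show (QuotientGroup.mk' N w) ^ 4 = 1
    rw [← map_pow, show w ^ 4 = 1 from Subtype.ext (h4 _ hw), map_one]
  obtain ⟨n, hn⟩ := IsPGroup.iff_card.1 hM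
  have hd : Nat.card M ∣ 36 := hN ▸ Subgroup.card_subgroup_dvd_card M
  have h4' : Nat.card M ∣ 4 := by
    rw [hn] at hd ⊢
    have : n ≤ 2 := by
      by_contra hc
      have := (pow_dvd_pow 2 (show 3 ≤ n by omega)).trans hd
      norm_num at this
    exact (pow_dvd_pow 2 this).trans (by norm_num)
  have e := comm_of_card_dvd_four h4' ⟨_, ⟨u, hPC hu⟩, hu, rfl⟩ ⟨_, ⟨v, hPC hv⟩, hv, rfl⟩
  have e' : QuotientGroup.mk' N ((⟨u, hPC hu⟩ : C) * ⟨v, hPC hv⟩ * (⟨u, hPC hu⟩ : C)⁻¹ * (⟨v, hPC hv⟩ : C)⁻¹) = 1 := by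
    have e2 := congrArg Subtype.val e
    simp only [Subgroup.coe_mul] at e2
    rw [map_mul, map_mul, map_mul, map_inv, map_inv, e2, mul_inv_cancel_right, mul_inv_cancel]
  exact (QuotientGroup.eq_one_iff _).1 e'

/-- there is an element interchanging `f 1` and `pv 104` -/
theorem exists_swapData : ∃ S : SwapData E, S.qe = E.pv 104 ∧ S.x = E.f 14 * E.f₂ 14 ∧ S.y = E.f 14 * E.f₂ 22 := by
  obtain ⟨g0, hg0, hne⟩ := E.nwc
  have hsq : ∀ g : G, (g * E.f 1 * g⁻¹) * (g * E.f 1 * g⁻¹) = 1 := fun g => by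
    rw [conj_mul, E.toTwoCopy.z_sq, mul_one, mul_inv_cancel]
  have h1 : ∀ g : G, g * E.f 1 * g⁻¹ ≠ 1 := fun g h => E.toTwoCopy.z_ne (conj_eq_one_iff.1 h)
  obtain ⟨k, hk, ek⟩ := E.toTwoCopy.conj_q hg0 (hsq g0) (h1 g0) hne
  obtain ⟨qe_inQ, qe_sq, qe1, qez⟩ := E.qe_facts
  obtain ⟨g, hgd⟩ : ∃ g, g = k⁻¹ * g0 := ⟨_, rfl⟩
  have hg : g * E.f 1 * g⁻¹ = E.pv 104 := by
    rw [hgd, show k⁻¹ * g0 * E.f 1 * (k⁻¹ * g0)⁻¹ = k⁻¹ * (g0 * E.f 1 * g0⁻¹) * k by group, ← ek]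
    group
  let A : Subgroup G := E.toTwoCopy.qSub ⊓ Subgroup.centralizer ({E.pv 104} : Set G)
  let P : Subgroup G := A.comap (MulAut.conj g).toMonoidHom
  have hP1 : ∀ u ∈ P, u * E.f 1 = E.f 1 * u := by
    intro u hu
    have h := Subgroup.mem_centralizer_singleton_iff.1 hu.2
    change g * u * g⁻¹ * E.pv 104 = E.pv 104 * (g * u * g⁻¹) at h
    rw [← hg, conj_mul, conj_mul] at h
    exact mul_left_cancel (mul_right_cancel h)
  have hP2 : ∀ u ∈ P, u ^ 4 = 1 := by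
    intro u hu
    obtain ⟨p, hp, h, e⟩ := hu.1
    have : (g * u * g⁻¹) ^ 4 = 1 := by
      rw [show g * u * g⁻¹ = E.pv p from e.symm]; exact E.pow_four_of_qP hp h
    rwa [conj_pow, conj_eq_one_iff] at this
  have hmemP : ∀ a b, a < 24 → b < 24 → q8 a = true → q8 b = true →
      pm (code a b false false) 104 = pm 104 (code a b false false) →
      g⁻¹ * (E.f a * E.f₂ b) * g ∈ P := by
    intro a b ha hb qa qb hc
    show g * (g⁻¹ * (E.f a * E.f₂ b) * g) * g⁻¹ ∈ A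
    rw [show g * (g⁻¹ * (E.f a * E.f₂ b) * g) * g⁻¹ = E.f a * E.f₂ b by group]
    refine ⟨E.toTwoCopy.inQ_of_pair ha hb qa qb, Subgroup.mem_centralizer_singleton_iff.2 ?_⟩
    have hl : code a b false false < 1152 := HRel.code_lt ha hb _ _
    rw [← E.toTwoCopy.pv_code ha hb, ← E.toTwoCopy.pv_pm hl (by omega), hc, E.toTwoCopy.pv_pm (by omega) hl]
  have hzq : E.inQ (g⁻¹ * E.f 1 * g) := by
    have h := E.comm_inQ hP1 hP2 (hmemP 2 0 (by omega) (by omega) (by decide +kernel) (by decide +kernel)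
      (by decide +kernel)) (hmemP 14 14 (by omega) (by omega) (by decide +kernel) (by decide +kernel)
      (by decide +kernel))
    have e : g⁻¹ * (E.f 2 * E.f₂ 0) * g * (g⁻¹ * (E.f 14 * E.f₂ 14) * g) * (g⁻¹ * (E.f 2 * E.f₂ 0) * g)⁻¹ *
        (g⁻¹ * (E.f 14 * E.f₂ 14) * g)⁻¹ = g⁻¹ * ((E.f 2 * E.f₂ 0) * (E.f 14 * E.f₂ 14) * (E.f 2 * E.f₂ 0)⁻¹ *
        (E.f 14 * E.f₂ 14)⁻¹) * g := by group
    rw [e, ← E.toTwoCopy.pv_code (show 2 < 24 by omega) (show 0 < 24 by omega),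
      ← E.toTwoCopy.pv_code (show 14 < 24 by omega) (show 14 < 24 by omega),
      ← E.toTwoCopy.pv_pI (HRel.code_lt (by omega) (by omega) _ _),
      ← E.toTwoCopy.pv_pI (HRel.code_lt (by omega) (by omega) _ _),
      ← E.toTwoCopy.pv_pm (HRel.code_lt (by omega) (by omega) _ _) (HRel.code_lt (by omega) (by omega) _ _),
      ← E.toTwoCopy.pv_pm (TwoCopy.pm_lt (HRel.code_lt (by omega) (by omega) _ _)
        (HRel.code_lt (by omega) (by omega) _ _)) (TwoCopy.pI_lt (HRel.code_lt (by omega) (by omega) _ _)),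
      ← E.toTwoCopy.pv_pm (TwoCopy.pm_lt (TwoCopy.pm_lt (HRel.code_lt (by omega) (by omega) _ _)
        (HRel.code_lt (by omega) (by omega) _ _)) (TwoCopy.pI_lt (HRel.code_lt (by omega) (by omega) _ _)))
        (TwoCopy.pI_lt (HRel.code_lt (by omega) (by omega) _ _)),
      show pm (pm (pm (code 2 0 false false) (code 14 14 false false)) (pI (code 2 0 false false)))
        (pI (code 14 14 false false)) = 4 by decide +kernel, E.toTwoCopy.z_pv] at h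
    exact h
  have hzne : g⁻¹ * E.f 1 * g ≠ E.f 1 := by
    intro h
    refine qez ?_
    rw [← hg]
    calc g * E.f 1 * g⁻¹ = g * (g⁻¹ * E.f 1 * g) * g⁻¹ := by rw [h]
      _ = E.f 1 := by group
  have hzi : (g⁻¹ * E.f 1 * g) * (g⁻¹ * E.f 1 * g) = 1 ∧ g⁻¹ * E.f 1 * g ≠ 1 := by
    have h := hsq g⁻¹; have h' := h1 g⁻¹
    rw [inv_inv] at h h'
    exact ⟨h, h'⟩
  obtain ⟨k', hk', ek'⟩ := E.toTwoCopy.conj_q hzq hzi.1 hzi.2 hzne
  obtain ⟨g1, hg1⟩ : ∃ g1, g1 = g * k' := ⟨_, rfl⟩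
  have hg1z : g1 * E.f 1 * g1⁻¹ = E.pv 104 := by
    obtain ⟨p, hp, rfl⟩ := hk'
    rw [hg1, show g * E.pv p * E.f 1 * (g * E.pv p)⁻¹ = g * (E.pv p * E.f 1) * (E.pv p)⁻¹ * g⁻¹ by group,
      ← E.toTwoCopy.z_comm hp, ← hg]
    group
  have hg1q : g1 * E.pv 104 * g1⁻¹ = E.f 1 := by
    rw [hg1, show g * k' * E.pv 104 * (g * k')⁻¹ = g * (k' * E.pv 104 * k'⁻¹) * g⁻¹ by group, ek']
    group
  have hwset : ∀ w, E.inQ w → E.inQ (g1⁻¹ * w * g1) →
      w = 1 ∨ w = E.f 1 ∨ w = E.pv 104 ∨ w = E.pv 104 * E.f 1 := by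
    intro w hw1 hw2
    have hc := E.cut g1 (by rw [hg1z]; exact qe_inQ) (by rw [hg1z]; exact qez)
    have hzQ : E.inQ (g1⁻¹ * E.f 1 * g1) := by
      rw [← hg1q, show g1⁻¹ * (g1 * E.pv 104 * g1⁻¹) * g1 = E.pv 104 by group]; exact qe_inQ
    have hqQ : E.inQ (g1⁻¹ * E.pv 104 * g1) := by
      rw [← hg1z, show g1⁻¹ * (g1 * E.f 1 * g1⁻¹) * g1 = E.f 1 by group]; exact E.toTwoCopy.inQ_z
    have hqz : E.inQ (E.pv 104 * E.f 1) := mul_mem (show E.pv 104 ∈ E.toTwoCopy.qSub from qe_inQ) E.toTwoCopy.inQ_z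
    have hqzQ : E.inQ (g1⁻¹ * (E.pv 104 * E.f 1) * g1) := by
      rw [show g1⁻¹ * (E.pv 104 * E.f 1) * g1 = (g1⁻¹ * E.pv 104 * g1) * (g1⁻¹ * E.f 1 * g1) by group]
      exact mul_mem (show g1⁻¹ * E.pv 104 * g1 ∈ E.toTwoCopy.qSub from hqQ) hzQ
    have h1Q : E.inQ (g1⁻¹ * 1 * g1) := by
      rw [mul_one, inv_mul_cancel]; exact one_mem E.toTwoCopy.qSub
    let F : Fin 4 → {x : G // E.inQ x ∧ E.inQ (g1⁻¹ * x * g1)} := ![⟨1, one_mem E.toTwoCopy.qSub, h1Q⟩,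
      ⟨E.f 1, E.toTwoCopy.inQ_z, hzQ⟩, ⟨E.pv 104, qe_inQ, hqQ⟩, ⟨E.pv 104 * E.f 1, hqz, hqzQ⟩]
    have hqz1 : E.pv 104 * E.f 1 ≠ 1 := fun h => qez (by
      rw [eq_inv_of_mul_eq_one_left h]; exact inv_eq_of_mul_eq_one_right E.toTwoCopy.z_sq)
    have hFi : Function.Injective F := by
      intro i j hij
      have hij : (F i).1 = (F j).1 := congrArg Subtype.val hij
      fin_cases i <;> fin_cases j <;> first | rfl | exfalso
      all_goals simp [F] at hij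
      all_goals first
        | exact absurd hij E.toTwoCopy.z_ne | exact absurd hij.symm E.toTwoCopy.z_ne
        | exact absurd hij qe1 | exact absurd hij.symm qe1 | exact absurd hij qez | exact absurd hij.symm qez
        | exact absurd hij hqz1 | exact absurd hij.symm hqz1
    haveI : Finite {x : G // E.inQ x ∧ E.inQ (g1⁻¹ * x * g1)} := Nat.finite_of_card_ne_zero (by rw [hc]; omega)
    have hb : Function.Bijective F := (Nat.bijective_iff_injective_and_card _).2 ⟨hFi, by rw [hc, Nat.card_fin]⟩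
    obtain ⟨i, hi⟩ := hb.2 ⟨w, hw1, hw2⟩
    have e : (F i).1 = w := congrArg Subtype.val hi
    fin_cases i <;> simp [F] at e <;> simp [← e]
  have hcode : ∀ p q r, p < 1152 → q < 1152 → pm p q = r → E.pv p * E.pv q = E.pv r :=
    fun p q r hp hq h => by rw [← h, E.toTwoCopy.pv_pm hp hq]
  have ex : E.f 14 * E.f₂ 14 = E.pv (code 14 14 false false) := (E.toTwoCopy.pv_code (by omega) (by omega)).symm
  have ey : E.f 14 * E.f₂ 22 = E.pv (code 14 22 false false) := (E.toTwoCopy.pv_code (by omega) (by omega)).symm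
  have l1 : code 14 14 false false < 1152 := HRel.code_lt (by omega) (by omega) _ _
  have l2 : code 14 22 false false < 1152 := HRel.code_lt (by omega) (by omega) _ _
  refine ⟨{ g := g1, qe := E.pv 104, x := E.f 14 * E.f₂ 14, y := E.f 14 * E.f₂ 22, q_inQ := qe_inQ,
            q_ne := ⟨qe1, qez⟩, g_z := hg1z, g_q := hg1q, wset := hwset,
            x_inQ := E.toTwoCopy.inQ_of_pair (by omega) (by omega) (by decide +kernel) (by decide +kernel),
            y_inQ := E.toTwoCopy.inQ_of_pair (by omega) (by omega) (by decide +kernel) (by decide +kernel),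
            x_sq := ?_, y_sq := ?_, x_q := ?_, y_q := ?_, xy := ?_ }, rfl, rfl, rfl⟩
  · rw [ex, hcode _ _ 0 l1 l1 (by decide +kernel), E.toTwoCopy.pv_zero]
  · rw [ey, hcode _ _ 0 l2 l2 (by decide +kernel), E.toTwoCopy.pv_zero]
  · rw [ex, hcode _ _ _ l1 (by omega) rfl, hcode _ _ _ (by omega) l1 rfl]
    congr 1
  · rw [ey, hcode _ _ _ l2 (by omega) rfl, hcode _ _ _ (by omega) l2 rfl]
    congr 1
  · rw [ex, ey, hcode _ _ _ l1 l2 rfl, hcode _ _ _ (TwoCopy.pm_lt l1 l2) l1 rfl,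
      hcode _ _ 4 (TwoCopy.pm_lt (TwoCopy.pm_lt l1 l2) l1) l2 (by decide +kernel), E.toTwoCopy.z_pv]

/-- an element of the centralizer acting as inner automorphisms on both copies is in their product -/
theorem inK_of_inner {h : G} (hh : h * E.f 1 = E.f 1 * h) {c₁ c₂ : ℕ} (h1 : c₁ < 24) (h2 : c₂ < 24)
    (ha : ∀ a, a < 24 → h * E.f a * h⁻¹ = E.f (autI c₁ false a) ∧ h * E.f₂ a * h⁻¹ = E.f₂ (autI c₂ false a)) :
    E.inK h := by
  have hk : E.f c₁ * E.f₂ c₂ ∈ E.toTwoCopy.kSub := E.toTwoCopy.inK_of_pair h1 h2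
  have hzc : ∀ x, x < 24 → E.f 1 * E.f x = E.f x * E.f 1 := fun x hx => by
    rw [← E.hf 1 x (by omega) hx, ← E.hf x 1 hx (by omega), (misc hx).2.2.2.2.1]
  obtain ⟨v, hv⟩ : ∃ v, v = (E.f c₁ * E.f₂ c₂)⁻¹ * h := ⟨_, rfl⟩
  have hvz : v * E.f 1 = E.f 1 * v := by
    have hkz : Commute (E.f c₁ * E.f₂ c₂) (E.f 1) :=
      Commute.mul_left (hzc c₁ h1).symm (E.comm 1 c₂ (by omega) h2).symm
    rw [hv, mul_assoc, hh, ← mul_assoc, hkz.inv_left.eq, mul_assoc]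
  have hQ := E.q_cent v hvz (fun p hp _ => by
    have a1 := HRel.pA_lt hp; have b1 := HRel.pB_lt p
    have c1 : v * E.f (pA p) * v⁻¹ = E.f (pA p) := by
      rw [hv, show (E.f c₁ * E.f₂ c₂)⁻¹ * h * E.f (pA p) * ((E.f c₁ * E.f₂ c₂)⁻¹ * h)⁻¹ =
        (E.f₂ c₂)⁻¹ * ((E.f c₁)⁻¹ * (h * E.f (pA p) * h⁻¹) * E.f c₁) * E.f₂ c₂ by group, (ha _ a1).1]
      simp only [autI, scj, cond_false]
      rw [E.hf _ _ (sm_lt h1 a1) (misc h1).2.1, E.hf _ _ h1 a1, E.toTwoCopy.f_si h1]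
      have k : E.f (pA p) * E.f₂ c₂ = E.f₂ c₂ * E.f (pA p) := E.comm _ _ a1 h2
      rw [show (E.f₂ c₂)⁻¹ * ((E.f c₁)⁻¹ * (E.f c₁ * E.f (pA p) * (E.f c₁)⁻¹) * E.f c₁) * E.f₂ c₂ =
        (E.f₂ c₂)⁻¹ * (E.f (pA p) * E.f₂ c₂) by group, k, inv_mul_cancel_left]
    have c2 : v * E.f₂ (pB p) * v⁻¹ = E.f₂ (pB p) := by
      rw [hv, show (E.f c₁ * E.f₂ c₂)⁻¹ * h * E.f₂ (pB p) * ((E.f c₁ * E.f₂ c₂)⁻¹ * h)⁻¹ =
        (E.f₂ c₂)⁻¹ * ((E.f c₁)⁻¹ * (h * E.f₂ (pB p) * h⁻¹) * E.f c₁) * E.f₂ c₂ by group, (ha _ b1).2]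
      simp only [autI, scj, cond_false]
      have k := E.comm c₁ (sm (sm c₂ (pB p)) (si c₂)) h1 (sm_lt (sm_lt h2 b1) (misc h2).2.1)
      rw [mul_assoc (E.f c₁)⁻¹, ← k, inv_mul_cancel_left, E.hf₂ _ _ (sm_lt h2 b1) (misc h2).2.1,
        E.hf₂ _ _ h2 b1, E.toTwoCopy.f₂_si h2]
      group
    calc v * E.pv p = (v * E.f (pA p) * v⁻¹) * (v * E.f₂ (pB p) * v⁻¹) * v := by
          simp only [TwoCopy.pv]; group
      _ = E.pv p * v := by rw [c1, c2]; rfl)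
  have : h = (E.f c₁ * E.f₂ c₂) * v := by rw [hv, mul_inv_cancel_left]
  rw [this]
  exact mul_mem hk (E.toTwoCopy.inK_of_inQ hQ :)

/-- one of the two involutions exchanges the copies -/
theorem exists_swap (S : SwapData E) (hq : S.qe = E.pv 104) (hx : S.x = E.f 14 * E.f₂ 14) :
    (∀ a, a < 24 → ∃ c, c < 24 ∧ (S.g * S.x * S.g⁻¹) * E.f a * (S.g * S.x * S.g⁻¹)⁻¹ = E.f₂ c) ∧
      (∀ a, a < 24 → ∃ c, c < 24 ∧ (S.g * S.x * S.g⁻¹) * E.f₂ a * (S.g * S.x * S.g⁻¹)⁻¹ = E.f c) ∨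
    (∀ a, a < 24 → ∃ c, c < 24 ∧ (S.g * S.y * S.g⁻¹) * E.f a * (S.g * S.y * S.g⁻¹)⁻¹ = E.f₂ c) ∧
      (∀ a, a < 24 → ∃ c, c < 24 ∧ (S.g * S.y * S.g⁻¹) * E.f₂ a * (S.g * S.y * S.g⁻¹)⁻¹ = E.f c) := by
  obtain ⟨n1, n2, n3⟩ := S.notK
  have diag : ∀ a : G, E.inQ a → a * S.qe = S.qe * a → ¬ E.inK (S.g * a * S.g⁻¹) → ∀ c₁ c₂, c₁ < 24 → c₂ < 24 →
      ∀ d₁ d₂ : Bool, (∀ t, t < 24 → S.g * a * S.g⁻¹ * E.f t * (S.g * a * S.g⁻¹)⁻¹ = E.f (autI c₁ d₁ t) ∧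
        S.g * a * S.g⁻¹ * E.f₂ t * (S.g * a * S.g⁻¹)⁻¹ = E.f₂ (autI c₂ d₂ t)) → d₁ = true ∧ d₂ = true := by
    intro a ha haq hn c₁ c₂ h1 h2 d₁ d₂ h
    obtain ⟨hbz, hbq⟩ := S.img_cent ha haq
    have hcm := S.img_comm ha haq S.x_inQ S.x_q
    generalize S.g * a * S.g⁻¹ = b at h hbz hbq hcm hn
    have e2 : code (autI c₁ d₁ 2) (autI c₂ d₂ 2) false false = 104 := by
      rw [show (104 : ℕ) = code 2 2 false false by decide +kernel]
      refine E.toTwoCopy.code_inj (autI_lt h1 (by omega) d₁) (autI_lt h2 (by omega) d₂) (by omega) (by omega) ?_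
      rw [← (h 2 (by omega)).1, ← (h 2 (by omega)).2, conj_mul, ← E.pv104, ← hq, hbq, mul_inv_cancel_right]
    have e14 : code (sm (autI c₁ d₁ 14) (si 14)) (sm (autI c₂ d₂ 14) (si 14)) false false ∈
        ([0, 4, 104, 108] : List ℕ) := by
      have u1 : autI c₁ d₁ 14 < 24 := autI_lt h1 (by omega) d₁
      have u2 : autI c₂ d₂ 14 < 24 := autI_lt h2 (by omega) d₂
      have s14 : si 14 < 24 := (misc (by omega)).2.1
      have ev : b * S.x * b⁻¹ * S.x⁻¹ =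
          E.pv (code (sm (autI c₁ d₁ 14) (si 14)) (sm (autI c₂ d₂ 14) (si 14)) false false) := by
        rw [hx, E.toTwoCopy.pv_code (sm_lt u1 s14) (sm_lt u2 s14), E.hf _ _ u1 s14, E.hf₂ _ _ u2 s14,
          E.toTwoCopy.f_si (by omega), E.toTwoCopy.f₂_si (by omega), ← (h 14 (by omega)).1, ← (h 14 (by omega)).2,
          mul_inv_rev]
        have k : Commute (E.f 14)⁻¹ (b * E.f₂ 14 * b⁻¹) := by
          rw [(h 14 (by omega)).2]
          exact Commute.inv_left (E.comm 14 _ (by omega) u2)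
        have k2 : Commute (E.f₂ 14)⁻¹ (E.f 14)⁻¹ :=
          Commute.inv_inv (show Commute (E.f₂ 14) (E.f 14) from (E.comm 14 14 (by omega) (by omega)).symm)
        calc b * (E.f 14 * E.f₂ 14) * b⁻¹ * ((E.f₂ 14)⁻¹ * (E.f 14)⁻¹)
            = b * E.f 14 * b⁻¹ * (b * E.f₂ 14 * b⁻¹ * ((E.f₂ 14)⁻¹ * (E.f 14)⁻¹)) := by group
          _ = b * E.f 14 * b⁻¹ * (b * E.f₂ 14 * b⁻¹ * (E.f 14)⁻¹ * (E.f₂ 14)⁻¹) := by
              rw [k2.eq, ← mul_assoc (b * E.f₂ 14 * b⁻¹)]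
          _ = b * E.f 14 * b⁻¹ * ((E.f 14)⁻¹ * (b * E.f₂ 14 * b⁻¹) * (E.f₂ 14)⁻¹) := by rw [← k.eq]
          _ = _ := by simp only [mul_assoc]
      have hl := HRel.code_lt (sm_lt u1 s14) (sm_lt u2 s14) false false
      have h4 := TwoCopy.code_mod (sm_lt u1 s14) (sm_lt u2 s14)
      rw [ev, hq] at hcm
      rcases hcm with e | e | e | e
      · rw [← E.toTwoCopy.pv_zero] at e
        rw [E.toTwoCopy.pv_inj hl (by omega) h4 rfl e]; simp
      · rw [← E.toTwoCopy.z_pv] at e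
        rw [E.toTwoCopy.pv_inj hl (by omega) h4 rfl e]; simp
      · rw [E.toTwoCopy.pv_inj hl (by omega) h4 rfl e]; simp
      · rw [← E.toTwoCopy.z_pv, ← E.toTwoCopy.pv_pm (by omega) (by omega),
          show pm 104 4 = 108 by decide +kernel] at e
        rw [E.toTwoCopy.pv_inj hl (by omega) h4 rfl e]; simp
    cases d₁ <;> cases d₂
    · exact absurd (E.inK_of_inner hbz h1 h2 h) hn
    · exfalso
      have k := allLt_spec (allLt_spec type_ok c₁ h1) c₂ h2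
      rw [List.contains_iff_mem.2 e14, e2, Nat.beq_refl] at k
      simp at k
    · exfalso
      have k := allLt_spec (allLt_spec type_ok c₁ h1) c₂ h2
      rw [List.contains_iff_mem.2 e14, e2, Nat.beq_refl] at k
      simp at k
    · exact ⟨rfl, rfl⟩
  rcases E.toTwoCopy.action (E.pres (S.img_cent S.x_inQ S.x_q).1) with ⟨c₁, c₂, h1, h2, d₁, d₂, ax⟩ | ax
  swap
  · exact Or.inl ax
  rcases E.toTwoCopy.action (E.pres (S.img_cent S.y_inQ S.y_q).1) with ⟨c₁', c₂', h1', h2', d₁', d₂', ay⟩ | ay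
  swap
  · exact Or.inr ay
  exfalso
  obtain ⟨rfl, rfl⟩ := diag S.x S.x_inQ S.x_q n1 c₁ c₂ h1 h2 d₁ d₂ ax
  obtain ⟨rfl, rfl⟩ := diag S.y S.y_inQ S.y_q n2 c₁' c₂' h1' h2' d₁' d₂' ay
  have hxyQ : E.inQ (S.x * S.y) := mul_mem (show S.x ∈ E.toTwoCopy.qSub from S.x_inQ) S.y_inQ
  have hxyq : S.x * S.y * S.qe = S.qe * (S.x * S.y) := by rw [mul_assoc, S.y_q, ← mul_assoc, S.x_q, mul_assoc]
  have comp : ∀ t, t < 24 → S.g * (S.x * S.y) * S.g⁻¹ * E.f t * (S.g * (S.x * S.y) * S.g⁻¹)⁻¹ =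
      E.f (autI c₁ true (autI c₁' true t)) := by
    intro t ht
    rw [show S.g * (S.x * S.y) * S.g⁻¹ * E.f t * (S.g * (S.x * S.y) * S.g⁻¹)⁻¹ = S.g * S.x * S.g⁻¹ *
      (S.g * S.y * S.g⁻¹ * E.f t * (S.g * S.y * S.g⁻¹)⁻¹) * (S.g * S.x * S.g⁻¹)⁻¹ by group, (ay t ht).1,
      (ax _ (autI_lt h1' ht true)).1]
  rcases E.toTwoCopy.action (E.pres (S.img_cent hxyQ hxyq).1) with ⟨e₁, e₂, he1, he2, u₁, u₂, axy⟩ | axy
  · obtain ⟨rfl, rfl⟩ := diag _ hxyQ hxyq n3 e₁ e₂ he1 he2 u₁ u₂ axy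
    have k := allLt_spec (allLt_spec (allLt_spec parity_ok c₁ h1) c₁' h1') e₁ he1
    have f2 := E.toTwoCopy.f_inj (autI_lt h1 (autI_lt h1' (by omega) true) true) (autI_lt he1 (by omega) true)
      ((comp 2 (by omega)).symm.trans (axy 2 (by omega)).1)
    have f12 := E.toTwoCopy.f_inj (autI_lt h1 (autI_lt h1' (by omega) true) true) (autI_lt he1 (by omega) true)
      ((comp 12 (by omega)).symm.trans (axy 12 (by omega)).1)
    rw [f2, f12, Nat.beq_refl, Nat.beq_refl] at k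
    simp at k
  · obtain ⟨c, hc, e⟩ := axy.1 12 (by omega)
    rw [comp 12 (by omega)] at e
    obtain ⟨e', l⟩ := E.meet _ _ (autI_lt h1 (autI_lt h1' (by omega) true) true) hc e
    have : allLt 24 (fun c => allLt 24 fun d => !Nat.blt (autI c true (autI d true 12)) 2) = true := by decide +kernel
    have k := allLt_spec (allLt_spec this c₁ h1) c₁' h1'
    rw [show Nat.blt (autI c₁ true (autI c₁' true 12)) 2 = true from Nat.ble_eq_true_of_le l] at k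
    simp at k

end CentData

end Cfsg.Agent.Spor.UFour
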