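import Cfsg.Agent.Lib.Spor.UFourThreeType.SetupCent

/-!
The hypotheses of the characterisation of U4(3) give the centralizer data.
-/

set_option autoImplicit false
set_option maxRecDepth 100000

namespace Cfsg.Agent.Spor.UFour

theorem invol_index : allLt 24 (fun a => !Nat.beq (sm a a) 0 || Nat.blt a 2) = true := by decide +kernel

/-- the centralizer data from the hypotheses of the statements -/
theorem centData_of_hyp {G : Type*} [Group G] [Finite G] (z : G) (hz : orderOf z = 2)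
    (H₁ H₂ : Subgroup (Subgroup.centralizer ({z} : Set G)))
    (hK : H₁ ⊔ H₂ = Subgroup.closure {x : Subgroup.centralizer ({z} : Set G) | Odd (orderOf x)})
    (hn₁ : (H₁.subgroupOf (H₁ ⊔ H₂)).Normal) (hn₂ : (H₂.subgroupOf (H₁ ⊔ H₂)).Normal)
    (e₁ : H₁ ≃* Matrix.SpecialLinearGroup (Fin 2) (ZMod 3)) (e₂ : H₂ ≃* Matrix.SpecialLinearGroup (Fin 2) (ZMod 3))
    (hmeet : (H₁ ⊓ H₂).map (Subgroup.subtype (Subgroup.centralizer ({z} : Set G))) = Subgroup.zpowers z)
    (Q : Subgroup (Subgroup.centralizer ({z} : Set G)))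
    (hQ : Q = (Cfsg.pCore 2 ↥(H₁ ⊔ H₂)).map (Subgroup.subtype (H₁ ⊔ H₂)))
    (hF : Cfsg.generalizedFittingSubgroup (Subgroup.centralizer ({z} : Set G)) = Q)
    (hnwc : ∃ g : G, (∃ hq : g * z * g⁻¹ ∈ Subgroup.centralizer ({z} : Set G),
      (⟨g * z * g⁻¹, hq⟩ : Subgroup.centralizer ({z} : Set G)) ∈ Q) ∧ g * z * g⁻¹ ≠ z)
    (hH : Nat.card ↥(Subgroup.centralizer ({z} : Set G)) = 2 ^ 7 * 3 ^ 2)
    (hQQg : ∀ g : G, g * z * g⁻¹ ∈ Q.map (Subgroup.subtype (Subgroup.centralizer ({z} : Set G))) → g * z * g⁻¹ ≠ z →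
      Nat.card ↥((Q.map (Subgroup.subtype (Subgroup.centralizer ({z} : Set G)))) ⊓
        (Q.map (Subgroup.subtype (Subgroup.centralizer ({z} : Set G)))).map (MulAut.conj g).toMonoidHom) = 4) :
    Nonempty (CentData G) := by
  haveI : Fact (Nat.Prime 2) := ⟨Nat.prime_two⟩
  obtain ⟨S₁⟩ := SLCopy.exists_of_iso e₁
  obtain ⟨S₂⟩ := SLCopy.exists_of_iso e₂
  have hz1 : z ≠ 1 := fun h => by rw [h, orderOf_one] at hz; omega
  have hz2 : z * z = 1 := by rw [← pow_two, ← hz, pow_orderOf_eq_one]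
  -- the centre of the centralizer
  obtain ⟨zC, hzC, hzv⟩ : z ∈ (H₁ ⊓ H₂).map (Subgroup.subtype (Subgroup.centralizer ({z} : Set G))) := by
    rw [hmeet]; exact Subgroup.mem_zpowers z
  change (zC : G) = z at hzv
  have hzcomm : ∀ x : Subgroup.centralizer ({z} : Set G), x * zC = zC * x := fun x => by
    have := (Subgroup.mem_centralizer_singleton_iff).1 x.2
    exact Subtype.ext (by rw [Subgroup.coe_mul, Subgroup.coe_mul, hzv]; exact this)
  have hzC2 : zC * zC = 1 := Subtype.ext (by rw [Subgroup.coe_mul, hzv, Subgroup.coe_one, hz2])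
  have hzC1 : zC ≠ 1 := fun h => hz1 (by rw [← hzv, h]; rfl)
  have hmc : ∀ x ∈ H₁ ⊓ H₂, x = 1 ∨ x = zC := by
    intro x hx
    have h : (x : G) ∈ Subgroup.zpowers z := hmeet ▸ Subgroup.mem_map_of_mem _ hx
    obtain ⟨n, hn⟩ := Subgroup.mem_zpowers_iff.1 h
    rw [← zpow_mod_orderOf, hz] at hn
    rcases Int.emod_two_eq_zero_or_one n with h' | h'
    · exact Or.inl (Subtype.ext (by rw [← hn]; norm_num [h']))
    · exact Or.inr (Subtype.ext (by rw [← hn, hzv]; norm_num [h']))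
  have hf1 : ∀ {H : Subgroup (Subgroup.centralizer ({z} : Set G))} (S : SLCopy H), zC ∈ H → S.f 1 = zC := by
    intro H S h
    obtain ⟨a, ha, e⟩ := (S.mem zC).1 h
    have h2 : S.f (sm a a) = 1 := by rw [S.hf a a ha ha, e, hzC2]
    have k := allLt_spec invol_index a ha
    rw [S.inj _ (sm_lt ha ha) h2] at k
    simp only [Nat.beq_refl, Bool.not_true, Bool.false_or] at k
    have : a < 2 := Nat.le_of_ble_eq_true k
    interval_cases a
    · exfalso
      have h0 : S.f 0 = 1 := by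
        have h := S.hf 0 0 (by omega) (by omega)
        rw [(misc (a := 0) (by omega)).2.2.1] at h
        exact left_eq_mul.1 h
      exact hzC1 (e ▸ h0)
    · exact e
  have z₁ := hf1 S₁ (Subgroup.mem_inf.1 hzC).1
  have z₂ := hf1 S₂ (Subgroup.mem_inf.1 hzC).2
  -- the two copies commute
  have hcm : ∀ x ∈ H₁, ∀ y ∈ H₂, x * y * x⁻¹ * y⁻¹ = 1 ∨ x * y * x⁻¹ * y⁻¹ = zC := by
    intro x hx y hy
    refine hmc _ (Subgroup.mem_inf.2 ⟨?_, ?_⟩)
    · have h := hn₁.conj_mem ⟨x⁻¹, Subgroup.mem_sup_left (inv_mem hx)⟩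
        (Subgroup.mem_subgroupOf.2 (inv_mem hx)) ⟨y, Subgroup.mem_sup_right hy⟩
      rw [Subgroup.mem_subgroupOf] at h
      have := mul_mem hx h
      simpa [mul_assoc] using this
    · have h := hn₂.conj_mem ⟨y, Subgroup.mem_sup_right hy⟩
        (Subgroup.mem_subgroupOf.2 hy) ⟨x, Subgroup.mem_sup_left hx⟩
      rw [Subgroup.mem_subgroupOf] at h
      exact mul_mem (by simpa [mul_assoc] using h) (inv_mem hy)
  have hcomm : ∀ a b, a < 24 → b < 24 → S₁.f a * S₂.f b = S₂.f b * S₁.f a := by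
    intro a b ha hb
    obtain ⟨y, hy, hyH⟩ : ∃ y, y = S₂.f b ∧ y ∈ H₂ := ⟨_, rfl, (S₂.mem _).2 ⟨b, hb, rfl⟩⟩
    rw [← hy]
    have hsq : ∀ c, c < 24 → S₁.f (sm c c) * y = y * S₁.f (sm c c) := by
      intro c hc
      rw [S₁.hf c c hc hc]
      rcases hcm _ ((S₁.mem _).2 ⟨c, hc, rfl⟩) y hyH with h | h
      · have h' : S₁.f c * y = y * S₁.f c := by
          calc S₁.f c * y = (S₁.f c * y * (S₁.f c)⁻¹ * y⁻¹) * (y * S₁.f c) := by group
            _ = _ := by rw [h, one_mul]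
        rw [mul_assoc, h', ← mul_assoc, h', mul_assoc]
      · have h' : S₁.f c * y = zC * (y * S₁.f c) := by
          calc S₁.f c * y = (S₁.f c * y * (S₁.f c)⁻¹ * y⁻¹) * (y * S₁.f c) := by group
            _ = _ := by rw [h]
        calc S₁.f c * S₁.f c * y = S₁.f c * zC * (y * S₁.f c) := by rw [mul_assoc, h', ← mul_assoc (S₁.f c)]
          _ = zC * (S₁.f c * y) * S₁.f c := by rw [hzcomm]; simp only [mul_assoc]
          _ = zC * (zC * (y * S₁.f c)) * S₁.f c := by rw [h']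
          _ = _ := by rw [← mul_assoc zC zC, hzC2, one_mul, mul_assoc]
    obtain ⟨c, d, hc, hd, rfl⟩ := sl_squares ha
    rw [S₁.hf _ _ (sm_lt hc hc) (sm_lt hd hd), mul_assoc, hsq d hd, ← mul_assoc, hsq c hc, mul_assoc]
  let DC : TwoCopy (Subgroup.centralizer ({z} : Set G)) :=
    { f := S₁.f, f₂ := S₂.f, hf := S₁.hf, hf₂ := S₂.hf, comm := hcomm, z_eq := z₂.trans z₁.symm,
      inj := S₁.inj,
      meet := fun a b ha hb h => by
        have hi : ∀ {H : Subgroup (Subgroup.centralizer ({z} : Set G))} (S : SLCopy H), S.f 1 = zC →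
            ∀ c, c < 24 → ∀ k, k < 2 → S.f c = S.f k → c = k := by
          intro H S h1 c hc k hk hck
          have e : S.f (sm c k) = S.f (sm k k) := by rw [S.hf c k hc (by omega), S.hf k k (by omega) (by omega), hck]
          have hkk : sm k k = 0 := by interval_cases k <;> decide +kernel
          have h0 : S.f 0 = 1 := by
            have h := S.hf 0 0 (by omega) (by omega)
            rw [(misc (a := 0) (by omega)).2.2.1] at h
            exact left_eq_mul.1 h
          have := S.inj (sm c k) (sm_lt hc (by omega : k < 24)) (by rw [e, hkk, h0])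
          interval_cases k
          · rwa [(misc hc).2.2.2.1] at this
          · rw [(misc hc).2.2.2.2.1] at this
            rw [← (misc hc).2.2.2.2.2.1, this]
            decide +kernel
        rcases hmc (S₁.f a) ⟨(S₁.mem _).2 ⟨a, ha, rfl⟩, (S₂.mem _).2 ⟨b, hb, h.symm⟩⟩ with h1 | h1
        · have ea := S₁.inj a ha h1
          exact ⟨ea.trans (S₂.inj b hb (h.symm.trans h1)).symm, by omega⟩
        · have ea := hi S₁ z₁ a ha 1 (by omega) (h1.trans z₁.symm)
          exact ⟨ea.trans (hi S₂ z₂ b hb 1 (by omega) ((h.symm.trans h1).trans z₂.symm)).symm, by omega⟩ }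
  -- the product of the two copies
  let K' : Subgroup (Subgroup.centralizer ({z} : Set G)) :=
    { carrier := {x | DC.inK x}
      one_mem' := ⟨0, by omega, DC.pv_zero⟩
      mul_mem' := by
        rintro _ _ ⟨p, hp, rfl⟩ ⟨q, hq, rfl⟩
        exact ⟨pm p q, TwoCopy.pm_lt hp hq, DC.pv_pm hp hq⟩
      inv_mem' := by
        rintro _ ⟨p, hp, rfl⟩
        exact ⟨pI p, TwoCopy.pI_lt hp, DC.pv_pI hp⟩ }
  have hK' : H₁ ⊔ H₂ = K' := by
    refine le_antisymm (sup_le ?_ ?_) ?_
    · intro x hx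
      obtain ⟨a, ha, rfl⟩ := (S₁.mem x).1 hx
      exact ⟨code a 0 false false, HRel.code_lt ha (by omega) _ _, by
        rw [DC.pv_code ha (by omega), DC.f₂_zero, mul_one]⟩
    · intro x hx
      obtain ⟨b, hb, rfl⟩ := (S₂.mem x).1 hx
      exact ⟨code 0 b false false, HRel.code_lt (by omega) hb _ _, by
        rw [DC.pv_code (by omega) hb, DC.f_zero, one_mul]⟩
    · rintro _ ⟨p, hp, rfl⟩
      exact Subgroup.mul_mem_sup ((S₁.mem _).2 ⟨_, HRel.pA_lt hp, rfl⟩) ((S₂.mem _).2 ⟨_, HRel.pB_lt p, rfl⟩)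
  have hKc : ∀ h : Subgroup.centralizer ({z} : Set G), ∀ x ∈ H₁ ⊔ H₂, h * x * h⁻¹ ∈ H₁ ⊔ H₂ := by
    intro h x hx
    rw [hK] at hx ⊢
    refine (show _ ≤ Subgroup.comap (MulAut.conj h).toMonoidHom (Subgroup.closure _) from ?_) hx
    refine (Subgroup.closure_le _).2 fun y hy => ?_
    refine Subgroup.subset_closure ?_
    show Odd (orderOf (MulAut.conj h y))
    rw [MulEquiv.orderOf_eq]
    exact hy
  -- the quaternion part
  let Q0 : Subgroup ↥(H₁ ⊔ H₂) :=
    { carrier := {x | DC.inQ x.1}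
      one_mem' := ⟨0, by omega, qP_zero, DC.pv_zero⟩
      mul_mem' := by
        rintro x y ⟨p, hp, h1, e1⟩ ⟨q, hq, h2, e2⟩
        exact ⟨pm p q, TwoCopy.pm_lt hp hq, TwoCopy.qP_pm hp hq h1 h2,
          by rw [DC.pv_pm hp hq, e1, e2]; rfl⟩
      inv_mem' := by
        rintro x ⟨p, hp, h1, e1⟩
        exact ⟨pI p, TwoCopy.pI_lt hp, TwoCopy.qP_pI hp h1, by rw [DC.pv_pI hp, e1]; rfl⟩ }
  have hmemK : ∀ x : Subgroup.centralizer ({z} : Set G), x ∈ H₁ ⊔ H₂ ↔ DC.inK x := fun x => by rw [hK']; rfl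
  haveI : Q0.Normal := ⟨by
    rintro x ⟨p, hp, h1, e1⟩ k
    obtain ⟨p', hp', e'⟩ := (hmemK _).1 (hKc k.1 x.1 x.2)
    refine ⟨p', hp', DC.qP_of_pow_four hp' ?_, e'⟩
    rw [e', conj_pow, ← e1, DC.pow_four_of_qP hp h1, mul_one, mul_inv_cancel]⟩
  have hQ0 : IsPGroup 2 Q0 := fun x => ⟨2, by
    obtain ⟨p, hp, h1, e1⟩ := x.2
    refine Subtype.ext (Subtype.ext ?_)
    show (x : ↥(H₁ ⊔ H₂)).1 ^ 4 = 1
    rw [← e1, DC.pow_four_of_qP hp h1]⟩
  have hQeq : ∀ x : Subgroup.centralizer ({z} : Set G), x ∈ Q ↔ DC.inQ x := by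
    intro x
    rw [hQ]
    constructor
    · rintro ⟨y, hy, rfl⟩
      obtain ⟨p, hp, e⟩ := (hmemK _).1 y.2
      refine ⟨p, hp, DC.qP_of_pow_eight hp ?_, e⟩
      obtain ⟨n, hn⟩ := Fusion.isPGroup_pCore 2 _ ⟨y, hy⟩
      have hn' : (y.1 : Subgroup.centralizer ({z} : Set G)) ^ (2 ^ n) = 1 := by
        have := congrArg Subtype.val (congrArg Subtype.val hn)
        simpa only [SubgroupClass.coe_pow, OneMemClass.coe_one] using this
      have hd1 : orderOf y.1 ∣ 2 ^ n := orderOf_dvd_of_pow_eq_one hn'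
      have hd2 : orderOf y.1 ∣ 1152 := by
        have := orderOf_dvd_natCard y.1
        rwa [hH] at this
      obtain ⟨m, -, hm⟩ := (Nat.dvd_prime_pow Nat.prime_two).1 hd1
      have h48 : y.1 ^ 48 = 1 := by
        rw [e.symm]
        have a1 := HRel.pA_lt hp
        have b1 := HRel.pB_lt p
        have key : ∀ {H : Subgroup (Subgroup.centralizer ({z} : Set G))} (S : SLCopy H) (a : ℕ), a < 24 →
            S.f a ^ 24 = 1 := by
          intro H S a ha
          have hc : Nat.card H ∣ 24 := by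
            have hs : Function.Surjective (fun i : Fin 24 => (⟨S.f i, (S.mem _).2 ⟨i, i.2, rfl⟩⟩ : H)) := by
              rintro ⟨w, hw⟩
              obtain ⟨c, hc, rfl⟩ := (S.mem w).1 hw
              exact ⟨⟨c, hc⟩, rfl⟩
            have hi : Function.Injective (fun i : Fin 24 => (⟨S.f i, (S.mem _).2 ⟨i, i.2, rfl⟩⟩ : H)) := by
              intro i j hij
              have hij : S.f i = S.f j := congrArg Subtype.val hij
              have h0 : S.f 0 = 1 := by
                have h := S.hf 0 0 (by omega) (by omega)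
                rw [(misc (a := 0) (by omega)).2.2.1] at h
                exact left_eq_mul.1 h
              have hj : S.f (si j) * S.f j = 1 := by
                rw [← S.hf _ _ (misc j.2).2.1 j.2, (misc j.2).2.2.2.2.2.2, h0]
              have h1 : sm (si j) i = 0 := S.inj _ (sm_lt (misc j.2).2.1 i.2) (by
                rw [S.hf _ _ (misc j.2).2.1 i.2, hij, hj])
              have h2 : sm j (sm (si j) i) = sm (sm j (si j)) i :=
                (Nat.eq_of_beq_eq_true (allLt_spec (allLt_spec (allLt_spec sl_assoc_ok j j.2) (si j)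
                  (misc j.2).2.1) i i.2)).symm
              rw [h1, Nat.eq_of_beq_eq_true (Bool.and_eq_true_iff.mp (allLt_spec sl_misc_ok j j.2)).1,
                (misc i.2).2.2.1, (misc j.2).2.2.2.1] at h2
              exact Fin.ext h2.symm
            rw [← Nat.card_eq_of_bijective _ ⟨hi, hs⟩, Nat.card_fin]
          have h24 : orderOf (⟨S.f a, (S.mem _).2 ⟨a, ha, rfl⟩⟩ : H) ∣ 24 := (orderOf_dvd_natCard _).trans hc
          rw [Subgroup.orderOf_mk] at h24
          exact orderOf_dvd_iff_pow_eq_one.1 h24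
        show (S₁.f (pA p) * S₂.f (pB p)) ^ 48 = 1
        rw [(show Commute _ _ from hcomm _ _ a1 b1).mul_pow, show 48 = 24 * 2 from rfl, pow_mul, pow_mul,
          key S₁ _ a1, key S₂ _ b1, one_pow, one_mul]
      have hd3 : orderOf y.1 ∣ 48 := orderOf_dvd_of_pow_eq_one h48
      rw [hm] at hd3
      have hm4 : m ≤ 4 := by
        by_contra hc
        have := (pow_dvd_pow 2 (show 5 ≤ m by omega)).trans hd3
        norm_num at this
      have h16 : y.1 ^ 16 = 1 := orderOf_dvd_iff_pow_eq_one.1 (hm ▸ pow_dvd_pow 2 hm4)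
      rw [e]
      have hpm : DC.pv (pm p p) = y.1 ^ 2 := by rw [DC.pv_pm hp hp, pow_two, e]
      have h8 := DC.qP_of_pow_eight (TwoCopy.pm_lt hp hp) (by rw [hpm, ← pow_mul]; exact h16)
      have := DC.pow_four_of_qP (TwoCopy.pm_lt hp hp) h8
      rw [hpm, ← pow_mul] at this
      exact this
    · rintro ⟨p, hp, h1, e⟩
      refine ⟨⟨x, (hmemK x).2 ⟨p, hp, e⟩⟩, Fusion.le_pCore hQ0 ?_, rfl⟩
      exact ⟨p, hp, h1, e⟩
  -- transfer to the group
  let D : TwoCopy G :=
    { f := fun a => (S₁.f a : G), f₂ := fun a => (S₂.f a : G)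
      hf := fun a b ha hb => by show (S₁.f (sm a b) : G) = _; rw [S₁.hf a b ha hb]; rfl
      hf₂ := fun a b ha hb => by show (S₂.f (sm a b) : G) = _; rw [S₂.hf a b ha hb]; rfl
      comm := fun a b ha hb => congrArg Subtype.val (hcomm a b ha hb)
      z_eq := congrArg Subtype.val DC.z_eq
      meet := fun a b ha hb h => DC.meet a b ha hb (Subtype.ext h)
      inj := fun a ha h => DC.inj a ha (Subtype.ext h) }
  have hDz : D.f 1 = z := by show (S₁.f 1 : G) = z; rw [z₁, hzv]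
  have hmemC : ∀ h : G, h * z = z * h → h ∈ Subgroup.centralizer ({z} : Set G) := fun h hh =>
    Subgroup.mem_centralizer_singleton_iff.2 hh
  have hQg : ∀ x : G, x ∈ Q.map (Subgroup.subtype (Subgroup.centralizer ({z} : Set G))) ↔ D.inQ x := by
    intro x
    constructor
    · rintro ⟨y, hy, rfl⟩
      obtain ⟨p, hp, h1, e⟩ := (hQeq y).1 hy
      exact ⟨p, hp, h1, congrArg Subtype.val e⟩
    · rintro ⟨p, hp, h1, rfl⟩
      exact ⟨DC.pv p, (hQeq _).2 ⟨p, hp, h1, rfl⟩, rfl⟩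
  refine ⟨⟨D, ?_, ?_, ?_, ?_, ?_⟩⟩
  · rw [hDz, hH]; norm_num
  · intro h hh p hp
    rw [hDz] at hh
    obtain ⟨q, hq, e⟩ := (hmemK _).1 (hKc ⟨h, hmemC h hh⟩ (DC.pv p) ((hmemK _).2 ⟨p, hp, rfl⟩))
    exact ⟨q, hq, congrArg Subtype.val e⟩
  · intro h hh hc
    rw [hDz] at hh
    have hm : (⟨h, hmemC h hh⟩ : Subgroup.centralizer ({z} : Set G)) ∈
        Subgroup.centralizer (Q : Set (Subgroup.centralizer ({z} : Set G))) := by
      rw [Subgroup.mem_centralizer_iff]
      intro y hy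
      obtain ⟨p, hp, h1, e⟩ := (hQeq y).1 hy
      refine Subtype.ext ?_
      rw [← e]
      exact (hc p hp h1).symm
    rw [← hF] at hm
    have hle := Solv.centralizer_gfit_le hm
    rw [hF] at hle
    exact (hQg h).1 ⟨_, hle, rfl⟩
  · intro g hg hne
    rw [hDz] at hg hne
    rw [← hQQg g ((hQg _).2 hg) hne]
    refine Nat.card_congr (Equiv.subtypeEquivRight fun x => ?_)
    rw [Subgroup.mem_inf, hQg, Subgroup.mem_map]
    refine and_congr_right fun _ => ⟨fun h => ⟨g⁻¹ * x * g, (hQg _).2 h, ?_⟩, ?_⟩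
    · show g * (g⁻¹ * x * g) * g⁻¹ = x
      group
    · rintro ⟨y, hy, rfl⟩
      show D.inQ (g⁻¹ * (g * y * g⁻¹) * g)
      rw [show g⁻¹ * (g * y * g⁻¹) * g = y by group]
      exact (hQg y).1 hy
  · obtain ⟨g, ⟨hq, hgQ⟩, hne⟩ := hnwc
    exact ⟨g, by rw [hDz]; exact (hQg _).1 ⟨_, hgQ, rfl⟩, by rw [hDz]; exact hne⟩

end Cfsg.Agent.Spor.UFour
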