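import Cfsg.Agent.Lib.Spor.UFourThreeType.SetupExists

/-!
New labels for the second copy of SL(2,3) by the exchanging involution, and an element inducing the outer
automorphism on both copies.
-/

set_option autoImplicit false
set_option maxRecDepth 100000

namespace Cfsg.Agent.Spor.UFour

theorem fix_ok : allLt 24 (fun a => allLt 24 fun b => !(q8 a && q8 b &&
    Nat.beq (code a b false false) (code b a false false) && !Nat.beq (code a b false false) 0 &&
    !Nat.beq (code a b false false) 4 && Nat.beq (code (sm a a) (sm b b) false false) 0) ||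
    !allLt 24 fun c => !Nat.beq (code (scj c 2) (scj c 2) false false) (code a b false false) &&
      !Nat.beq (code (scj c 2) (scj c 3) false false) (code a b false false)) = true := by decide +kernel

theorem scj_ok : allLt 24 (fun c => allLt 24 fun a => Nat.blt (scj c a) 24 && Nat.beq (scj (si c) (scj c a)) a &&
    Nat.beq (scj c (scj (si c) a)) a && Nat.beq (scj c 1) 1) = true := by decide +kernel

theorem scj_spec {c a : ℕ} (hc : c < 24) (ha : a < 24) :
    scj c a < 24 ∧ scj (si c) (scj c a) = a ∧ scj c (scj (si c) a) = a ∧ scj c 1 = 1 := by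
  have k := allLt_spec (allLt_spec scj_ok c hc) a ha
  simp only [Bool.and_eq_true] at k
  exact ⟨Nat.le_of_ble_eq_true k.1.1.1, Nat.eq_of_beq_eq_true k.1.1.2, Nat.eq_of_beq_eq_true k.1.2,
    Nat.eq_of_beq_eq_true k.2⟩

theorem type_eq_ok : allLt 24 (fun c => allLt 24 fun d =>
    !(Nat.beq (scj 2 (autI c false 2)) (autI d true 2) && Nat.beq (scj 2 (autI c false 12)) (autI d true 12)) &&
    !(Nat.beq (scj 2 (autI c true 2)) (autI d false 2) && Nat.beq (scj 2 (autI c true 12)) (autI d false 12)))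
    = true := by decide +kernel

theorem q8_center_ok : allLt 24 (fun v => !(Nat.beq (scj v 8) 8 && Nat.beq (scj v 12) 12) || Nat.blt v 2)
    = true := by decide +kernel

theorem cent_pair_ok : allLt 288 (fun k =>
    !Nat.beq (pm (Nat.mul 4 k) 104) (pm 104 (Nat.mul 4 k)) ||
    ([0, 4] : List ℕ).contains (pm (pm (Nat.mul 4 k) (code 14 14 false false))
      (pI (pm (code 14 14 false false) (Nat.mul 4 k)))) &&
    ([0, 4] : List ℕ).contains (pm (pm (Nat.mul 4 k) (code 14 22 false false))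
      (pI (pm (code 14 22 false false) (Nat.mul 4 k))))) = true := by decide +kernel

/-- the eight involutions of the centralizer of the four-group in the quaternion product outside it -/
def a8List : List ℕ := [728, 732, 760, 764, 1112, 1116, 1144, 1148]

theorem a8_ok : allLt 288 (fun i => !(qP (Nat.mul 4 i) && Nat.beq (pm (Nat.mul 4 i) (Nat.mul 4 i)) 0 &&
      Nat.beq (pm (Nat.mul 4 i) 104) (pm 104 (Nat.mul 4 i))) ||
    allLt 288 fun j => !(qP (Nat.mul 4 j) && Nat.beq (pm (Nat.mul 4 j) (Nat.mul 4 j)) 0 &&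
      Nat.beq (pm (Nat.mul 4 j) 104) (pm 104 (Nat.mul 4 j))) ||
      !Nat.beq (pm (pm (pm (Nat.mul 4 i) (Nat.mul 4 j)) (Nat.mul 4 i)) (Nat.mul 4 j)) 4 ||
      (a8List.contains (Nat.mul 4 i) && a8List.contains (Nat.mul 4 j))) = true := by decide +kernel

theorem q108_comm : allLt 288 (fun k => !Nat.beq (pm (Nat.mul 4 k) 108) (pm 108 (Nat.mul 4 k)) ||
    Nat.beq (pm (Nat.mul 4 k) 104) (pm 104 (Nat.mul 4 k))) = true := by decide +kernel

/-- the code of the second involution of the four-group -/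
def qC (b : Bool) : ℕ := bif b then 108 else 104

/-- the four-group in codes -/
def wL (b : Bool) : List ℕ := [0, 4, qC b, qC !b]

/-- labelled data: the exchanging involution, the interchanging element, the outer element -/
structure Half (G : Type*) [Group G] extends TwoCopy G where
  /-- the exchanging involution -/
  s : G
  /-- the interchanging element -/
  g : G
  /-- the outer element -/
  u : G
  /-- the sign in the second involution of the four-group -/
  sg : Bool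
  /-- the first square parameter -/
  ε₁ : ℕ
  /-- the second square parameter -/
  ε₂ : ℕ
  /-- the code of the element sent to `s` -/
  r : ℕ
  /-- the code of the second involution -/
  r' : ℕ
  /-- whether the image of the second involution exchanges the copies -/
  cs : Bool
  /-- the inner part of the image of the second involution -/
  ca : ℕ
  /-- the inner part of the image of the second involution -/
  cb : ℕ
  s_sq : s * s = 1
  s_f : ∀ a, a < 24 → s * f a * s = f₂ a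
  u_f : ∀ a, a < 24 → u * f a * u⁻¹ = f (sU a)
  u_f₂ : ∀ a, a < 24 → u * f₂ a * u⁻¹ = f₂ (sU a)
  ε_lt : ε₁ < 2 ∧ ε₂ < 2
  u_sq : u * u = f ε₁
  s_u : s * u * s = u * f ε₂
  g_z : g * f 1 * g⁻¹ = toTwoCopy.pv (qC sg)
  g_q : g * toTwoCopy.pv (qC sg) * g⁻¹ = f 1
  r_mem : r ∈ a8List
  r'_mem : r' ∈ a8List
  rr : pm (pm (pm r r') r) r' = 4
  g_r : g * toTwoCopy.pv r * g⁻¹ = s
  cab : ca < 24 ∧ cb < 24
  g_r' : g * toTwoCopy.pv r' * g⁻¹ = (bif cs then s else 1) * (toTwoCopy.pv (code ca cb false false) * u)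
  bcomm : ∀ a ∈ [r, r'], ∀ c ∈ [r, r'], ∃ w ∈ wL sg,
    g * toTwoCopy.pv a * g⁻¹ * toTwoCopy.pv c * (g * toTwoCopy.pv a * g⁻¹)⁻¹ * (toTwoCopy.pv c)⁻¹ =
      toTwoCopy.pv w
  gg : ∀ c ∈ [r, r'], ∃ w ∈ wL sg,
    g * g * toTwoCopy.pv c * (g * g)⁻¹ * (toTwoCopy.pv c)⁻¹ = toTwoCopy.pv w
  cover : ∀ h : G, h * f 1 = f 1 * h → ∃ p, p < 1152 ∧ ∃ c d : Bool,
    h = toTwoCopy.pv p * (bif c then s else 1) * (bif d then u else 1)
  card : Nat.card (Subgroup.centralizer ({f 1} : Set G)) = 1152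

namespace SwapData

variable {G : Type*} [Group G] {E : CentData G}

/-- the two involutions in the other order -/
def flipXY (S : SwapData E) : SwapData E :=
  { S with
    x := S.y, y := S.x, x_inQ := S.y_inQ, y_inQ := S.x_inQ, x_sq := S.y_sq, y_sq := S.x_sq, x_q := S.y_q,
    y_q := S.x_q,
    xy := by
      have hc : S.x * E.f 1 = E.f 1 * S.x := inQ_comm_z S.x_inQ
      calc S.y * S.x * S.y * S.x = S.x * (S.x * S.y * S.x * S.y) * S.x := by
            simp only [← mul_assoc, S.x_sq, one_mul]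
        _ = E.f 1 := by rw [S.xy, hc, mul_assoc, S.x_sq, mul_one] }

/-- an element of the centralizer of the four-group moves the two involutions within their cosets -/
theorem cent_comm (S : SwapData E) (hq : S.qe = E.pv 104)
    (hxy : ∀ w ∈ [S.x, S.y], w = E.f 14 * E.f₂ 14 ∨ w = E.f 14 * E.f₂ 22)
    {h : G} (hh : h * E.f 1 = E.f 1 * h) (hhq : h * S.qe = S.qe * h) {c : G} (hc : c ∈ [S.x, S.y]) :
    h * c * h⁻¹ * c⁻¹ = 1 ∨ h * c * h⁻¹ * c⁻¹ = E.f 1 ∨ h * c * h⁻¹ * c⁻¹ = S.qe ∨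
      h * c * h⁻¹ * c⁻¹ = S.qe * E.f 1 := by
  have hcQ : E.inQ c ∧ c * S.qe = S.qe * c := by
    rcases List.mem_cons.1 hc with rfl | hc'
    · exact ⟨S.x_inQ, S.x_q⟩
    · rw [List.mem_singleton.1 hc']; exact ⟨S.y_inQ, S.y_q⟩
  have hxyq : S.x * S.y * S.qe = S.qe * (S.x * S.y) := by rw [mul_assoc, S.y_q, ← mul_assoc, S.x_q, mul_assoc]
  obtain ⟨k, hk, hb⟩ := S.cover hh
  have kcase : k * S.qe = S.qe * k → k * c * k⁻¹ * c⁻¹ = 1 ∨ k * c * k⁻¹ * c⁻¹ = E.f 1 := by
    intro hkq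
    obtain ⟨p, hp, rfl⟩ := hk
    obtain ⟨e1, -⟩ := E.toTwoCopy.pv_pure hp
    rw [e1, hq] at hkq
    rw [e1]
    set t := p / 4
    have ht : 4 * t < 1152 := by omega
    have hc4 : pm (4 * t) 104 = pm 104 (4 * t) := E.toTwoCopy.pv_inj (TwoCopy.pm_lt ht (by omega))
      (TwoCopy.pm_lt (by omega) ht) (TwoCopy.code_mod (sm_lt (HRel.pA_lt ht) (HRel.pA_lt (by omega)))
        (sm_lt (HRel.pB_lt _) (HRel.pB_lt _)))
      (TwoCopy.code_mod (sm_lt (HRel.pA_lt (by omega)) (HRel.pA_lt ht)) (sm_lt (HRel.pB_lt _) (HRel.pB_lt _)))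
      (by rw [E.toTwoCopy.pv_pm ht (by omega), E.toTwoCopy.pv_pm (by omega) ht]; exact hkq)
    have key := allLt_spec cent_pair_ok t (by omega)
    rw [show Nat.mul 4 t = 4 * t from rfl, hc4, Nat.beq_refl] at key
    simp only [Bool.not_true, Bool.false_or, Bool.and_eq_true, List.contains_iff_mem, List.mem_cons,
      List.not_mem_nil, or_false] at key
    obtain ⟨cc, hcc, hcl, hkey⟩ : ∃ cc, E.pv cc = c ∧ cc < 1152 ∧
        (pm (pm (4 * t) cc) (pI (pm cc (4 * t))) = 0 ∨ pm (pm (4 * t) cc) (pI (pm cc (4 * t))) = 4) := by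
      rcases hxy c hc with rfl | rfl
      · exact ⟨_, E.toTwoCopy.pv_code (by omega) (by omega), HRel.code_lt (by omega) (by omega) _ _, key.1⟩
      · exact ⟨_, E.toTwoCopy.pv_code (by omega) (by omega), HRel.code_lt (by omega) (by omega) _ _, key.2⟩
    have e : E.pv (4 * t) * c * (E.pv (4 * t))⁻¹ * c⁻¹ = E.pv (pm (pm (4 * t) cc) (pI (pm cc (4 * t)))) := by
      rw [← hcc, E.toTwoCopy.pv_pm (TwoCopy.pm_lt ht hcl) (TwoCopy.pI_lt (TwoCopy.pm_lt hcl ht)),
        E.toTwoCopy.pv_pI (TwoCopy.pm_lt hcl ht), E.toTwoCopy.pv_pm ht hcl, E.toTwoCopy.pv_pm hcl ht]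
      group
    rcases hkey with u | u
    · left; rw [e, u, E.toTwoCopy.pv_zero]
    · right; rw [e, u, E.toTwoCopy.z_pv]
  have main : ∀ a : G, E.inQ a → a * S.qe = S.qe * a → h = k * (S.g * a * S.g⁻¹) →
      h * c * h⁻¹ * c⁻¹ = 1 ∨ h * c * h⁻¹ * c⁻¹ = E.f 1 ∨ h * c * h⁻¹ * c⁻¹ = S.qe ∨
        h * c * h⁻¹ * c⁻¹ = S.qe * E.f 1 := by
    intro a ha haq e
    obtain ⟨bz, bq⟩ := S.img_cent ha haq
    have hm := S.img_comm ha haq hcQ.1 hcQ.2
    generalize S.g * a * S.g⁻¹ = b at e bz bq hm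
    have hkq : k * S.qe = S.qe * k := by
      have e' : k = h * b⁻¹ := by rw [e, mul_inv_cancel_right]
      rw [e', mul_assoc, (Commute.inv_left (show Commute b S.qe from bq)).eq, ← mul_assoc, hhq, mul_assoc]
    have hkz : k * E.f 1 = E.f 1 * k := by
      obtain ⟨p, hp, rfl⟩ := hk
      exact (E.toTwoCopy.z_comm hp).symm
    have ex : h * c * h⁻¹ * c⁻¹ = k * (b * c * b⁻¹ * c⁻¹) * k⁻¹ * (k * c * k⁻¹ * c⁻¹) := by rw [e]; group
    have hkW : k * (b * c * b⁻¹ * c⁻¹) * k⁻¹ = b * c * b⁻¹ * c⁻¹ := by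
      rcases hm with r | r | r | r <;> rw [r]
      · rw [mul_one, mul_inv_cancel]
      · rw [hkz, mul_inv_cancel_right]
      · rw [hkq, mul_inv_cancel_right]
      · rw [← mul_assoc, hkq, mul_assoc S.qe, hkz, ← mul_assoc, mul_inv_cancel_right]
    rw [ex, hkW]
    rcases hm with r | r | r | r <;> rcases kcase hkq with v | v <;> rw [r, v] <;>
      simp [E.toTwoCopy.z_sq, mul_assoc]
  rcases hb with e | e | e | e
  · rw [e] at hhq ⊢
    rcases kcase hhq with v | v <;> simp [v]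
  · exact main S.x S.x_inQ S.x_q e
  · exact main S.y S.y_inQ S.y_q e
  · exact main (S.x * S.y) (mul_mem (show S.x ∈ E.toTwoCopy.qSub from S.x_inQ) S.y_inQ) hxyq e

end SwapData

namespace CentData

variable {G : Type*} [Group G] (E : CentData G)

theorem half_of_swap (S : SwapData E) (hq : S.qe = E.pv 104)
    (hxy : ∀ w ∈ [S.x, S.y], w = E.f 14 * E.f₂ 14 ∨ w = E.f 14 * E.f₂ 22)
    (hs : (∀ a, a < 24 → ∃ c, c < 24 ∧ (S.g * S.x * S.g⁻¹) * E.f a * (S.g * S.x * S.g⁻¹)⁻¹ = E.f₂ c) ∧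
      (∀ a, a < 24 → ∃ c, c < 24 ∧ (S.g * S.x * S.g⁻¹) * E.f₂ a * (S.g * S.x * S.g⁻¹)⁻¹ = E.f c)) :
    Nonempty (Half G) := by
  obtain ⟨s, hsd⟩ : ∃ s, s = S.g * S.x * S.g⁻¹ := ⟨_, rfl⟩
  rw [← hsd] at hs
  have hs2 : s * s = 1 := by rw [hsd, conj_mul, S.x_sq, mul_one, mul_inv_cancel]
  have hsi : s⁻¹ = s := inv_eq_of_mul_eq_one_right hs2
  rw [hsi] at hs
  have hss : ∀ w, s * (s * w * s) * s = w := fun w => by
    rw [show s * (s * w * s) * s = (s * s) * w * (s * s) by group, hs2, one_mul, mul_one]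
  obtain ⟨hsz, hsq⟩ := S.img_cent S.x_inQ S.x_q
  rw [← hsd] at hsz hsq
  have hz1 : s * E.f 1 * s = E.f 1 := by rw [hsz, mul_assoc, hs2, mul_one]
  -- the second involution of the four-group as a pair of equal labels
  obtain ⟨a, ha, b, hb, qa, qb, hab⟩ : ∃ a, a < 24 ∧ ∃ b, b < 24 ∧ q8 a = true ∧ q8 b = true ∧
      S.qe = E.f a * (s * E.f b * s) := by
    obtain ⟨a, b', ha, hb', qa, qb', e⟩ := E.toTwoCopy.inQ_pair S.q_inQ
    obtain ⟨b, hb, eb⟩ := hs.2 b' hb'
    refine ⟨a, ha, b, hb, qa, ?_, by rw [← eb, hss]; exact e⟩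
    have h4 : (E.f₂ b') ^ 4 = 1 := by
      simp only [q8] at qb'
      have := E.hf₂ _ _ (sm_lt hb' hb') (sm_lt hb' hb')
      rw [Nat.eq_of_beq_eq_true qb', E.toTwoCopy.f₂_zero, E.hf₂ _ _ hb' hb'] at this
      simp only [pow_succ, pow_zero, one_mul, ← mul_assoc] at this ⊢
      exact this.symm
    have h4' : E.f b ^ 4 = 1 := by
      rw [← eb]
      nth_rewrite 2 [← hsi]
      rw [conj_pow, h4, mul_one, mul_inv_cancel]
    have h0 : sm (sm b b) (sm b b) = 0 := E.inj _ (sm_lt (sm_lt hb hb) (sm_lt hb hb)) (by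
      rw [E.hf _ _ (sm_lt hb hb) (sm_lt hb hb), E.hf b b hb hb, ← h4']
      simp only [pow_succ, pow_zero, one_mul, mul_assoc])
    show Nat.beq (sm (sm b b) (sm b b)) 0 = true
    rw [h0]; rfl
  let D1 : TwoCopy G :=
    { f := E.f, f₂ := fun t => s * E.f t * s, hf := E.hf
      hf₂ := fun t t' h1 h2 => by
        show s * E.f (sm t t') * s = s * E.f t * s * (s * E.f t' * s)
        rw [E.hf t t' h1 h2, show s * E.f t * s * (s * E.f t' * s) = s * E.f t * (s * s) * E.f t' * s by group, hs2,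
          mul_one]
        simp only [mul_assoc]
      comm := fun t t' h1 h2 => by
        obtain ⟨v, hv, ev⟩ := hs.1 t' h2
        show E.f t * (s * E.f t' * s) = s * E.f t' * s * E.f t
        rw [ev]; exact E.comm t v h1 hv
      z_eq := hz1
      meet := fun t t' h1 h2 e => by
        obtain ⟨v, hv, ev⟩ := hs.1 t' h2
        have e' : E.f t = s * E.f t' * s := e
        rw [ev] at e'
        obtain ⟨e1, l⟩ := E.meet t v h1 hv e'
        subst e1
        have e2 : E.f t' = E.f t := by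
          rw [← hss (E.f t'), ev]
          interval_cases t
          · rw [E.toTwoCopy.f₂_zero, E.toTwoCopy.f_zero, mul_one, hs2]
          · rw [E.z_eq, hz1]
        exact ⟨(E.toTwoCopy.f_inj h2 h1 e2).symm, l⟩
      inj := E.inj }
  have hab' : D1.pv (code a b false false) = S.qe := by rw [D1.pv_code ha hb]; exact hab.symm
  have hsym : code a b false false = code b a false false := by
    refine D1.code_inj ha hb hb ha ?_
    show E.f a * (s * E.f b * s) = E.f b * (s * E.f a * s)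
    rw [← hab]
    calc S.qe = s * S.qe * s := by rw [hsq, mul_assoc, hs2, mul_one]
      _ = s * E.f a * (s * E.f b * (s * s)) := by rw [hab]; simp only [mul_assoc]
      _ = (s * E.f a * s) * E.f b := by
          rw [hs2, mul_one]; simp only [mul_assoc]
      _ = _ := (D1.comm b a hb ha).symm
  have hne : code a b false false ≠ 0 ∧ code a b false false ≠ 4 := by
    refine ⟨fun e => S.q_ne.1 ?_, fun e => S.q_ne.2 ?_⟩
    · rw [← hab', e, D1.pv_zero]
    · rw [← hab', e, D1.z_pv]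
  have hqsq : code (sm a a) (sm b b) false false = 0 := by
    rw [D1.code_inj (sm_lt ha ha) (sm_lt hb hb) (show 0 < 24 by omega) (show 0 < 24 by omega) ?_]
    · decide +kernel
    · rw [D1.hf a a ha ha, D1.hf₂ b b hb hb, D1.f_zero, D1.f₂_zero, mul_one]
      have h2 : S.qe * S.qe = 1 := S.q_sq
      rw [hab] at h2
      rw [show D1.f a * D1.f a * (D1.f₂ b * D1.f₂ b) = D1.f a * (D1.f a * D1.f₂ b) * D1.f₂ b by
        simp only [mul_assoc], D1.comm a b ha hb]
      simpa only [D1, mul_assoc] using h2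
  obtain ⟨c, hc, hcq⟩ : ∃ c, c < 24 ∧ ∃ sg : Bool,
      code (scj c 2) (scj c (bif sg then 3 else 2)) false false = code a b false false := by
    have k := allLt_spec (allLt_spec fix_ok a ha) b hb
    rw [qa, qb, hqsq, ← hsym, Nat.beq_refl, Nat.beq_refl, show Nat.beq (code a b false false) 0 = false from
        Bool.eq_false_iff.2 fun e => hne.1 (Nat.eq_of_beq_eq_true e),
      show Nat.beq (code a b false false) 4 = false from
        Bool.eq_false_iff.2 fun e => hne.2 (Nat.eq_of_beq_eq_true e)] at k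
    simp only [Bool.and_self, Bool.not_false, Bool.not_true, Bool.false_or] at k
    obtain ⟨c, hc, e⟩ := not_allLt k
    simp only [Bool.and_eq_false_iff, Bool.not_eq_false'] at e
    rcases e with e | e
    · exact ⟨c, hc, false, Nat.eq_of_beq_eq_true e⟩
    · exact ⟨c, hc, true, Nat.eq_of_beq_eq_true e⟩
  obtain ⟨sg, hcq⟩ := hcq
  let D2 : TwoCopy G :=
    { f := fun t => E.f (scj c t), f₂ := fun t => s * E.f (scj c t) * s
      hf := fun t t' h1 h2 => by
        show E.f (scj c (sm t t')) = E.f (scj c t) * E.f (scj c t')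
        rw [← E.hf _ _ (scj_spec hc h1).1 (scj_spec hc h2).1]
        exact congrArg E.f (autI_hom hc h1 h2 false)
      hf₂ := fun t t' h1 h2 => by
        show s * E.f (scj c (sm t t')) * s = s * E.f (scj c t) * s * (s * E.f (scj c t') * s)
        rw [show scj c (sm t t') = sm (scj c t) (scj c t') from autI_hom hc h1 h2 false]
        exact D1.hf₂ _ _ (scj_spec hc h1).1 (scj_spec hc h2).1
      comm := fun t t' h1 h2 => D1.comm _ _ (scj_spec hc h1).1 (scj_spec hc h2).1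
      z_eq := by
        show s * E.f (scj c 1) * s = E.f (scj c 1)
        rw [(scj_spec hc (show 1 < 24 by omega)).2.2.2]; exact hz1
      meet := fun t t' h1 h2 e => by
        obtain ⟨e1, l⟩ := D1.meet _ _ (scj_spec hc h1).1 (scj_spec hc h2).1 e
        have r1 := (scj_spec hc h1).2.1
        have r2 := (scj_spec hc h2).2.1
        rw [← e1] at r2
        refine ⟨r1.symm.trans r2, ?_⟩
        rw [← r1]
        interval_cases hv : scj c t
        · have : allLt 24 (fun x => Nat.blt (scj x 0) 2) = true := by decide +kernel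
          exact Nat.le_of_ble_eq_true (allLt_spec this _ (misc hc).2.1)
        · rw [(scj_spec (misc hc).2.1 (show 1 < 24 by omega)).2.2.2]; omega
      inj := fun t h1 e => by
        have := E.inj _ (scj_spec hc h1).1 e
        rw [← (scj_spec hc h1).2.1, this]
        have h : allLt 24 (fun x => Nat.beq (scj x 0) 0) = true := by decide +kernel
        exact Nat.eq_of_beq_eq_true (allLt_spec h _ (misc hc).2.1) }
  have hfz : D2.f 1 = E.f 1 := by
    show E.f (scj c 1) = E.f 1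
    rw [(scj_spec hc (show 1 < 24 by omega)).2.2.2]
  have hsf : ∀ t, t < 24 → s * D2.f t * s = D2.f₂ t := fun t _ => rfl
  have e2f : ∀ t, t < 24 → ∃ v, v < 24 ∧ E.f t = D2.f v := fun t h => ⟨scj (si c) t, (scj_spec (misc hc).2.1 h).1,
    by show E.f t = E.f (scj c (scj (si c) t)); rw [(scj_spec hc h).2.2.1]⟩
  have e2f₂ : ∀ t, t < 24 → ∃ v, v < 24 ∧ E.f₂ t = D2.f₂ v := fun t h => by
    obtain ⟨v, hv, ev⟩ := hs.2 t h
    obtain ⟨v', hv', ev'⟩ := e2f v hv
    exact ⟨v', hv', by rw [← hsf v' hv', ← ev', ← ev, hss]⟩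
  have toD2 : ∀ w, E.inK w → D2.inK w := by
    intro w hw
    obtain ⟨p, q, hp, hq', rfl⟩ := E.toTwoCopy.inK_pair hw
    obtain ⟨v, hv, ev⟩ := e2f p hp
    obtain ⟨v', hv', ev'⟩ := e2f₂ q hq'
    rw [ev, ev']; exact D2.inK_of_pair hv hv'
  have ofD2 : ∀ w, D2.inK w → E.inK w := by
    intro w hw
    obtain ⟨p, q, hp, hq', rfl⟩ := D2.inK_pair hw
    obtain ⟨v, hv, ev⟩ := hs.1 _ (scj_spec hc hq').1
    show E.inK (E.f (scj c p) * (s * E.f (scj c q) * s))
    rw [ev]; exact E.toTwoCopy.inK_of_pair (scj_spec hc hp).1 hv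
  have qD2 : ∀ w, E.inQ w ↔ D2.inQ w := by
    intro w
    constructor
    · intro hw
      obtain ⟨p, hp, e⟩ := toD2 w (E.toTwoCopy.inK_of_inQ hw)
      obtain ⟨p', hp', h', e'⟩ := hw
      exact ⟨p, hp, D2.qP_of_pow_four hp (by rw [e, ← e', E.pow_four_of_qP hp' h']), e⟩
    · intro hw
      obtain ⟨p, hp, e⟩ := ofD2 w (D2.inK_of_inQ hw)
      obtain ⟨p', hp', h', e'⟩ := hw
      exact ⟨p, hp, E.qP_of_pow_four hp (by rw [e, ← e', D2.pow_four_of_qP hp' h']), e⟩
  let E' : CentData G :=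
    { toTwoCopy := D2
      card := by rw [hfz]; exact E.card
      k_conj := fun h hh p hp => by
        rw [hfz] at hh
        obtain ⟨p', hp', e⟩ := ofD2 _ ⟨p, hp, rfl⟩
        rw [← e]
        exact toD2 _ (E.k_conj h hh p' hp')
      q_cent := fun h hh hcen => by
        rw [hfz] at hh
        refine (qD2 h).1 (E.q_cent h hh fun p hp h' => ?_)
        obtain ⟨p', hp', h'', e⟩ := (qD2 _).1 ⟨p, hp, h', rfl⟩
        rw [← e]; exact hcen p' hp' h''
      cut := fun g h1 h2 => by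
        rw [hfz] at h1 h2
        rw [← E.cut g ((qD2 _).2 h1) h2]
        exact Nat.card_congr (Equiv.subtypeEquivRight fun x => and_congr (qD2 x).symm (qD2 _).symm)
      nwc := by
        obtain ⟨g, h1, h2⟩ := E.nwc
        exact ⟨g, by rw [hfz]; exact (qD2 _).1 h1, by rw [hfz]; exact h2⟩ }
  have hqv : D2.pv (qC sg) = S.qe := by
    have l3 : (bif sg then 3 else 2) < 24 := by cases sg <;> decide
    rw [show qC sg = code 2 (bif sg then 3 else 2) false false by cases sg <;> decide +kernel,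
      D2.pv_code (by omega) l3, ← hab', ← hcq,
      D1.pv_code (scj_spec hc (show 2 < 24 by omega)).1 (scj_spec hc l3).1]
  -- the images of the two involutions
  obtain ⟨t₂, ht₂⟩ : ∃ t, t = S.g * S.y * S.g⁻¹ := ⟨_, rfl⟩
  obtain ⟨n1, n2, n3⟩ := S.notK
  have ht2c := S.img_cent S.y_inQ S.y_q
  rw [← ht₂] at n2 ht2c
  have hst : S.g * (S.x * S.y) * S.g⁻¹ = s * t₂ := by rw [hsd, ht₂, conj_mul]
  rw [hst] at n3
  have hqst : s * t₂ * s * t₂⁻¹ = S.qe := by
    rw [← S.g_z, ← S.xy, hsd, ht₂, show S.g * S.x * S.g⁻¹ * (S.g * S.y * S.g⁻¹) * (S.g * S.x * S.g⁻¹) *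
      (S.g * S.y * S.g⁻¹)⁻¹ = S.g * (S.x * S.y * S.x * S.y⁻¹) * S.g⁻¹ by group, inv_eq_of_mul_eq_one_right S.y_sq]
  have diag : ∀ t : G, t * E.f 1 = E.f 1 * t → ¬ E.inK t → s * t * s = S.qe * t →
      (∃ c₁ c₂, c₁ < 24 ∧ c₂ < 24 ∧ ∀ v, v < 24 →
        t * D2.f v * t⁻¹ = D2.f (autI c₁ true v) ∧ t * D2.f₂ v * t⁻¹ = D2.f₂ (autI c₂ true v)) ∨
      ((∀ v, v < 24 → ∃ w, w < 24 ∧ t * D2.f v * t⁻¹ = D2.f₂ w) ∧
        (∀ v, v < 24 → ∃ w, w < 24 ∧ t * D2.f₂ v * t⁻¹ = D2.f w)) := by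
    intro t htz htK htq
    rcases D2.action (E'.pres (h := t) (show t * D2.f 1 = D2.f 1 * t by rw [hfz]; exact htz)) with
      ⟨c₁, c₂, h1, h2, d₁, d₂, h⟩ | h
    swap
    · exact Or.inr h
    refine Or.inl ⟨c₁, c₂, h1, h2, ?_⟩
    have hd : d₁ = d₂ := by
      have key : ∀ v, v < 24 → scj 2 (autI c₁ d₁ v) = autI c₂ d₂ v := by
        intro v hv
        have l3 : (bif sg then 3 else 2) < 24 := by cases sg <;> decide
        have u1 := autI_lt h1 hv d₁
        refine D2.f_inj (scj_spec (by omega) u1).1 (autI_lt h2 hv d₂) ?_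
        have e1 : s * t * s * D2.f v * (s * t * s)⁻¹ = D2.f (autI c₂ d₂ v) := by
          rw [mul_inv_rev, mul_inv_rev, hsi,
            show s * t * s * D2.f v * (s * (t⁻¹ * s)) = s * (t * (s * D2.f v * s) * t⁻¹) * s by group, hsf v hv,
            (h v hv).2, ← hsf _ (autI_lt h2 hv d₂), hss]
        have e2 : S.qe * t * D2.f v * (S.qe * t)⁻¹ = D2.f (scj 2 (autI c₁ d₁ v)) := by
          rw [mul_inv_rev, show S.qe * t * D2.f v * (t⁻¹ * S.qe⁻¹) = S.qe * (t * D2.f v * t⁻¹) * S.qe⁻¹ by group,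
            (h v hv).1, ← hqv, show qC sg = code 2 (bif sg then 3 else 2) false false by cases sg <;> decide +kernel,
            D2.pv_code (by omega) l3, mul_inv_rev]
          calc D2.f 2 * D2.f₂ _ * D2.f (autI c₁ d₁ v) * ((D2.f₂ _)⁻¹ * (D2.f 2)⁻¹)
              = D2.f 2 * (D2.f (autI c₁ d₁ v) * D2.f₂ _) * ((D2.f₂ _)⁻¹ * (D2.f 2)⁻¹) := by
                rw [mul_assoc (D2.f 2), ← D2.comm (autI c₁ d₁ v) (bif sg then 3 else 2) u1 l3]
            _ = D2.f 2 * D2.f (autI c₁ d₁ v) * (D2.f 2)⁻¹ := by group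
            _ = _ := by
              rw [scj, D2.hf _ _ (sm_lt (by omega) u1) (misc (by omega : (2:ℕ) < 24)).2.1,
                D2.hf _ _ (by omega) u1, D2.f_si (show 2 < 24 by omega)]
        rw [← e2, ← e1, htq]
      have k := allLt_spec (allLt_spec type_eq_ok c₁ h1) c₂ h2
      cases d₁ <;> cases d₂ <;> first | rfl | (exfalso; rw [key 2 (by omega), key 12 (by omega)] at k; simp at k)
    subst hd
    cases d₁
    · exact absurd (ofD2 t (E'.inK_of_inner (h := t) (show t * D2.f 1 = D2.f 1 * t by rw [hfz]; exact htz)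
        h1 h2 h)) htK
    · exact h
  have hq_t2 : s * t₂ * s = S.qe * t₂ := by rw [← hqst, inv_mul_cancel_right]
  have hq_st : s * (s * t₂) * s = S.qe * (s * t₂) := by
    calc s * (s * t₂) * s = s * (s * t₂ * s) := by simp only [mul_assoc]
      _ = s * S.qe * t₂ := by rw [hq_t2, mul_assoc]
      _ = S.qe * (s * t₂) := by rw [hsq, mul_assoc]
  obtain ⟨t, cs, ht, htz, c₁, c₂, h1, h2, hact⟩ : ∃ (t : G) (cs : Bool), t₂ = (bif cs then s else 1) * t ∧
      t * E.f 1 = E.f 1 * t ∧ ∃ c₁ c₂, c₁ < 24 ∧ c₂ < 24 ∧ ∀ v, v < 24 →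
        t * D2.f v * t⁻¹ = D2.f (autI c₁ true v) ∧ t * D2.f₂ v * t⁻¹ = D2.f₂ (autI c₂ true v) := by
    rcases diag t₂ ht2c.1 n2 hq_t2 with h | h
    · exact ⟨t₂, false, by simp, ht2c.1, h⟩
    · have hz' : s * t₂ * E.f 1 = E.f 1 * (s * t₂) := by rw [mul_assoc, ht2c.1, ← mul_assoc, hsz, mul_assoc]
      refine ⟨s * t₂, true, by rw [cond_true, ← mul_assoc, hs2, one_mul], hz', ?_⟩
      rcases diag (s * t₂) hz' n3 hq_st with r | r
      · exact r
      exfalso
      obtain ⟨w, hw, ew⟩ := h.1 12 (by omega)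
      obtain ⟨w', hw', ew'⟩ := r.1 12 (by omega)
      rw [mul_inv_rev, hsi, show s * t₂ * D2.f 12 * (t₂⁻¹ * s) = s * (t₂ * D2.f 12 * t₂⁻¹) * s by group, ew,
        ← hsf w hw, hss] at ew'
      obtain ⟨-, l⟩ := D2.meet w w' hw hw' ew'
      have e0 : t₂ * D2.f 12 * t₂⁻¹ = D2.f w := by
        rw [ew, ← hsf w hw]
        interval_cases w
        · rw [D2.f_zero, mul_one, hs2]
        · rw [hfz, hz1]
      have e3 : D2.f 12 * D2.f 12 = 1 := by
        have : (t₂ * D2.f 12 * t₂⁻¹) * (t₂ * D2.f 12 * t₂⁻¹) = 1 := by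
          rw [e0]
          interval_cases w
          · rw [D2.f_zero, mul_one]
          · exact D2.z_sq
        rw [conj_mul, conj_eq_one_iff] at this
        exact this
      rw [← D2.hf 12 12 (by omega) (by omega)] at e3
      exact absurd (D2.inj _ (sm_lt (by omega) (by omega)) e3) (by decide +kernel)
  -- the outer element
  obtain ⟨k, hk⟩ : ∃ k, k = D2.f c₁ * D2.f₂ c₂ := ⟨_, rfl⟩
  obtain ⟨u, hu⟩ : ∃ u, u = k⁻¹ * t := ⟨_, rfl⟩
  have hkK : D2.inK k := hk ▸ D2.inK_of_pair h1 h2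
  have huz : u * D2.f 1 = D2.f 1 * u := by
    obtain ⟨p, hp, e⟩ := hkK
    have hkz : Commute k (D2.f 1) := by rw [← e]; exact (D2.z_comm hp).symm
    rw [hu, mul_assoc, hfz, htz, ← mul_assoc, ← hfz, hkz.inv_left.eq, mul_assoc]
  have huf : ∀ v, v < 24 → u * D2.f v * u⁻¹ = D2.f (sU v) ∧ u * D2.f₂ v * u⁻¹ = D2.f₂ (sU v) := by
    intro v hv
    have l := (misc hv).1
    constructor
    · rw [hu, show k⁻¹ * t * D2.f v * (k⁻¹ * t)⁻¹ = k⁻¹ * (t * D2.f v * t⁻¹) * k by group, (hact v hv).1, hk]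
      simp only [autI, scj, cond_true]
      rw [D2.hf _ _ (sm_lt h1 l) (misc h1).2.1, D2.hf _ _ h1 l, D2.f_si h1]
      have k2 := D2.comm (sU v) c₂ l h2
      rw [show (D2.f c₁ * D2.f₂ c₂)⁻¹ * (D2.f c₁ * D2.f (sU v) * (D2.f c₁)⁻¹) * (D2.f c₁ * D2.f₂ c₂) =
        (D2.f₂ c₂)⁻¹ * (D2.f (sU v) * D2.f₂ c₂) by group, k2, inv_mul_cancel_left]
    · rw [hu, show k⁻¹ * t * D2.f₂ v * (k⁻¹ * t)⁻¹ = k⁻¹ * (t * D2.f₂ v * t⁻¹) * k by group, (hact v hv).2, hk]
      simp only [autI, scj, cond_true]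
      have k2 : Commute (D2.f c₁) (D2.f₂ (sm (sm c₂ (sU v)) (si c₂))) :=
        D2.comm _ _ h1 (sm_lt (sm_lt h2 l) (misc h2).2.1)
      rw [mul_inv_rev, mul_assoc (D2.f₂ c₂)⁻¹, k2.inv_left.eq,
        show ∀ X : G, (D2.f₂ c₂)⁻¹ * (X * (D2.f c₁)⁻¹) * (D2.f c₁ * D2.f₂ c₂) = (D2.f₂ c₂)⁻¹ * X * D2.f₂ c₂ from
          fun X => by group,
        D2.hf₂ _ _ (sm_lt h2 l) (misc h2).2.1, D2.hf₂ _ _ h2 l, D2.f₂_si h2]
      group
  have cent : ∀ v : G, v * D2.f 1 = D2.f 1 * v →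
      (∀ x, x < 24 → v * D2.f x * v⁻¹ = D2.f x ∧ v * D2.f₂ x * v⁻¹ = D2.f₂ x) → ∃ e, e < 2 ∧ v = D2.f e := by
    intro v hvz hv
    have hin := E'.q_cent v hvz (fun p hp _ => by
      show v * (D2.f (pA p) * D2.f₂ (pB p)) = D2.f (pA p) * D2.f₂ (pB p) * v
      rw [show v * (D2.f (pA p) * D2.f₂ (pB p)) = (v * D2.f (pA p) * v⁻¹) * (v * D2.f₂ (pB p) * v⁻¹) * v by group,
        (hv _ (HRel.pA_lt hp)).1, (hv _ (HRel.pB_lt p)).2])
    obtain ⟨p, q, hp, hq', -, -, e⟩ := D2.inQ_pair hin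
    have hA : ∀ x, x < 24 → scj p x = x ∧ scj q x = x := by
      intro x hx
      obtain ⟨g1, g2⟩ := hv x hx
      rw [e] at g1 g2
      constructor
      · refine D2.f_inj (scj_spec hp hx).1 hx ?_
        rw [scj, D2.hf _ _ (sm_lt hp hx) (misc hp).2.1, D2.hf _ _ hp hx, D2.f_si hp]
        conv_rhs => rw [← g1]
        rw [mul_assoc (D2.f p) (D2.f₂ q), ← D2.comm x q hx hq']
        group
      · refine D2.flip.f_inj (scj_spec hq' hx).1 hx ?_
        show D2.f₂ (scj q x) = D2.f₂ x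
        rw [scj, D2.hf₂ _ _ (sm_lt hq' hx) (misc hq').2.1, D2.hf₂ _ _ hq' hx, D2.f₂_si hq']
        conv_rhs => rw [← g2]
        have kc : Commute (D2.f p) (D2.f₂ q * D2.f₂ x * (D2.f₂ q)⁻¹) :=
          (((show Commute _ _ from D2.comm p q hp hq').mul_right (D2.comm p x hp hx)).mul_right
            (show Commute _ _ from D2.comm p q hp hq').inv_right)
        calc D2.f₂ q * D2.f₂ x * (D2.f₂ q)⁻¹ = D2.f₂ q * D2.f₂ x * (D2.f₂ q)⁻¹ * D2.f p * (D2.f p)⁻¹ :=
              (mul_inv_cancel_right _ _).symm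
          _ = D2.f p * (D2.f₂ q * D2.f₂ x * (D2.f₂ q)⁻¹) * (D2.f p)⁻¹ := by rw [kc.eq]
          _ = _ := by group
    have kp := allLt_spec q8_center_ok p hp
    have kq := allLt_spec q8_center_ok q hq'
    rw [(hA 8 (by omega)).1, (hA 12 (by omega)).1] at kp
    rw [(hA 8 (by omega)).2, (hA 12 (by omega)).2] at kq
    simp only [Nat.beq_refl, Bool.and_self, Bool.not_true, Bool.false_or] at kp kq
    have lp : p < 2 := Nat.le_of_ble_eq_true kp
    have lq : q < 2 := Nat.le_of_ble_eq_true kq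
    refine ⟨sm p q, by interval_cases p <;> interval_cases q <;> decide +kernel, ?_⟩
    rw [D2.hf p q hp hq', e]
    interval_cases q
    · rw [D2.f_zero, D2.f₂_zero]
    · rw [D2.z_eq]
  have hU2 : ∀ x, x < 24 → sU (sU x) = x := by
    intro x hx
    have h : allLt 24 (fun x => Nat.beq (sU (sU x)) x) = true := by decide +kernel
    exact Nat.eq_of_beq_eq_true (allLt_spec h x hx)
  obtain ⟨ε₁, hε₁, hu2⟩ := cent (u * u) (by rw [mul_assoc, huz, ← mul_assoc, huz, mul_assoc]) fun x hx => by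
    have l := (misc hx).1
    constructor
    · rw [show u * u * D2.f x * (u * u)⁻¹ = u * (u * D2.f x * u⁻¹) * u⁻¹ by group, (huf x hx).1, (huf _ l).1,
        hU2 x hx]
    · rw [show u * u * D2.f₂ x * (u * u)⁻¹ = u * (u * D2.f₂ x * u⁻¹) * u⁻¹ by group, (huf x hx).2, (huf _ l).2,
        hU2 x hx]
  have hszD : s * D2.f 1 = D2.f 1 * s := by rw [hfz]; exact hsz
  obtain ⟨ε₂, hε₂, hsu⟩ := cent (u⁻¹ * (s * u * s)) (by
      have ki : u⁻¹ * D2.f 1 = D2.f 1 * u⁻¹ := (Commute.inv_left (show Commute u (D2.f 1) from huz)).eq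
      calc u⁻¹ * (s * u * s) * D2.f 1 = u⁻¹ * s * u * (s * D2.f 1) := by simp only [mul_assoc]
        _ = u⁻¹ * s * (u * D2.f 1) * s := by rw [hszD]; simp only [mul_assoc]
        _ = u⁻¹ * (s * D2.f 1) * u * s := by rw [huz]; simp only [mul_assoc]
        _ = (u⁻¹ * D2.f 1) * s * u * s := by rw [hszD]; simp only [mul_assoc]
        _ = _ := by rw [ki]; simp only [mul_assoc]) fun x hx => by
    have l := (misc hx).1
    have key : ∀ w : G, u⁻¹ * (s * u * s) * w * (u⁻¹ * (s * u * s))⁻¹ = u⁻¹ * (s * (u * (s * w * s) * u⁻¹) * s) * u := by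
      intro w
      rw [mul_inv_rev, mul_inv_rev, mul_inv_rev, hsi, inv_inv]
      simp only [mul_assoc]
    constructor
    · rw [key, hsf x hx, (huf x hx).2, ← hsf _ l, hss, ← (huf x hx).1]; group
    · rw [key, ← hsf x hx, hss, (huf x hx).1, hsf _ l, hsf x hx, ← (huf x hx).2]; group
  -- codes of the two involutions
  have code_of : ∀ w, E.inQ w → w * w = 1 → w * S.qe = S.qe * w → ∃ p, p < 288 ∧ qP (4 * p) = true ∧
      pm (4 * p) (4 * p) = 0 ∧ pm (4 * p) 104 = pm 104 (4 * p) ∧ D2.pv (4 * p) = w := by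
    intro w hw hw2 hwq
    obtain ⟨p, hp, hP, e⟩ := (qD2 w).1 hw
    obtain ⟨e1, e2⟩ := D2.pv_pure hp
    rw [e1] at e
    rw [e2] at hP
    have hl : 4 * (p / 4) < 1152 := by omega
    have hmod : ∀ a b, a < 1152 → b < 1152 → pm a b % 4 = 0 := fun a b la lb =>
      TwoCopy.code_mod (sm_lt (HRel.pA_lt la) (HRel.pA_lt lb)) (sm_lt (HRel.pB_lt _) (HRel.pB_lt _))
    refine ⟨p / 4, by omega, hP, ?_, ?_, e⟩
    · exact D2.pv_inj (TwoCopy.pm_lt hl hl) (by omega) (hmod _ _ hl hl) (by omega)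
        (by rw [D2.pv_pm hl hl, e, hw2, D2.pv_zero])
    · have hlq : qC sg < 1152 := by cases sg <;> decide
      have hcm : pm (4 * (p / 4)) (qC sg) = pm (qC sg) (4 * (p / 4)) :=
        D2.pv_inj (TwoCopy.pm_lt hl hlq) (TwoCopy.pm_lt hlq hl) (hmod _ _ hl hlq) (hmod _ _ hlq hl)
          (by rw [D2.pv_pm hl hlq, D2.pv_pm hlq hl, e, hqv, hwq])
      cases sg
      · exact hcm
      · have k := allLt_spec q108_comm (p / 4) (by omega)
        rw [show Nat.mul 4 (p / 4) = 4 * (p / 4) from rfl, show pm (4 * (p / 4)) 108 = pm 108 (4 * (p / 4)) from hcm,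
          Nat.beq_refl, Bool.not_true, Bool.false_or] at k
        exact Nat.eq_of_beq_eq_true k
  obtain ⟨i, hi, hPi, hi2, hiq, ei⟩ := code_of S.x S.x_inQ S.x_sq S.x_q
  obtain ⟨j, hj, hPj, hj2, hjq, ej⟩ := code_of S.y S.y_inQ S.y_sq S.y_q
  have hrr : pm (pm (pm (4 * i) (4 * j)) (4 * i)) (4 * j) = 4 := by
    have li : 4 * i < 1152 := by omega
    have lj : 4 * j < 1152 := by omega
    refine D2.pv_inj (TwoCopy.pm_lt (TwoCopy.pm_lt (TwoCopy.pm_lt li lj) li) lj) (by omega)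
      (TwoCopy.code_mod (sm_lt (HRel.pA_lt (TwoCopy.pm_lt (TwoCopy.pm_lt li lj) li)) (HRel.pA_lt lj))
        (sm_lt (HRel.pB_lt _) (HRel.pB_lt _))) (by omega) ?_
    rw [D2.pv_pm (TwoCopy.pm_lt (TwoCopy.pm_lt li lj) li) lj, D2.pv_pm (TwoCopy.pm_lt li lj) li,
      D2.pv_pm li lj, ei, ej, S.xy, D2.z_pv, hfz]
  have hmem : 4 * i ∈ a8List ∧ 4 * j ∈ a8List := by
    have k := allLt_spec a8_ok i hi
    simp only [show Nat.mul 4 i = 4 * i from rfl, hPi, hi2, hiq, Nat.beq_refl, Bool.and_self, Bool.not_true,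
      Bool.false_or] at k
    have k2 := allLt_spec k j hj
    simp only [show Nat.mul 4 j = 4 * j from rfl, hPj, hj2, hjq, hrr, Nat.beq_refl, Bool.and_self, Bool.not_true,
      Bool.false_or, Bool.and_eq_true, List.contains_iff_mem] at k2
    exact k2
  have toW : ∀ w, (w = 1 ∨ w = E.f 1 ∨ w = S.qe ∨ w = S.qe * E.f 1) → ∃ n ∈ wL sg, w = D2.pv n := by
    rintro w (rfl | rfl | rfl | rfl)
    · exact ⟨0, by simp [wL], D2.pv_zero.symm⟩
    · exact ⟨4, by simp [wL], by rw [D2.z_pv, hfz]⟩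
    · exact ⟨qC sg, by simp [wL], hqv.symm⟩
    · refine ⟨qC !sg, by simp [wL], ?_⟩
      rw [show qC (!sg) = pm (qC sg) 4 by cases sg <;> decide +kernel,
        D2.pv_pm (by cases sg <;> decide) (by omega), hqv, D2.z_pv, hfz]
  have hggc : (S.g * S.g) * E.f 1 = E.f 1 * (S.g * S.g) ∧ (S.g * S.g) * S.qe = S.qe * (S.g * S.g) := by
    constructor
    · rw [← mul_inv_eq_iff_eq_mul, show S.g * S.g * E.f 1 * (S.g * S.g)⁻¹ =
        S.g * (S.g * E.f 1 * S.g⁻¹) * S.g⁻¹ by group, S.g_z, S.g_q]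
    · rw [← mul_inv_eq_iff_eq_mul, show S.g * S.g * S.qe * (S.g * S.g)⁻¹ =
        S.g * (S.g * S.qe * S.g⁻¹) * S.g⁻¹ by group, S.g_q, S.g_z]
  refine ⟨{ toTwoCopy := D2, s := s, g := S.g, u := u, sg := sg, ε₁ := ε₁, ε₂ := ε₂, r := 4 * i, r' := 4 * j,
            cs := cs, ca := c₁, cb := c₂, s_sq := hs2, s_f := hsf, u_f := fun v hv => (huf v hv).1,
            u_f₂ := fun v hv => (huf v hv).2, ε_lt := ⟨hε₁, hε₂⟩, u_sq := hu2,
            s_u := by rw [← hsu, mul_inv_cancel_left],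
            g_z := by rw [hfz, hqv]; exact S.g_z, g_q := by rw [hfz, hqv]; exact S.g_q,
            r_mem := hmem.1, r'_mem := hmem.2, rr := hrr, g_r := by rw [ei]; exact hsd.symm, cab := ⟨h1, h2⟩,
            g_r' := by rw [ej, D2.pv_code h1 h2, ← hk, hu, mul_inv_cancel_left, ← ht, ht₂],
            bcomm := ?_, gg := ?_, cover := ?_, card := by rw [hfz]; exact E.card }⟩
  · intro a' ha' c' hc'
    have hA : ∀ n ∈ [4 * i, 4 * j], ∃ w, D2.pv n = w ∧ E.inQ w ∧ w * S.qe = S.qe * w := by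
      intro n hn
      rcases List.mem_cons.1 hn with rfl | hn'
      · exact ⟨_, ei, S.x_inQ, S.x_q⟩
      · rw [List.mem_singleton.1 hn']; exact ⟨_, ej, S.y_inQ, S.y_q⟩
    obtain ⟨wa, ea, qa', qa''⟩ := hA a' ha'
    obtain ⟨wc, ec, qc', qc''⟩ := hA c' hc'
    rw [ea, ec]
    exact toW _ (S.img_comm qa' qa'' qc' qc'')
  · intro c' hc'
    obtain ⟨w, ew, hw⟩ : ∃ w, D2.pv c' = w ∧ w ∈ [S.x, S.y] := by
      rcases List.mem_cons.1 hc' with rfl | hn'
      · exact ⟨_, ei, by simp⟩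
      · rw [List.mem_singleton.1 hn']; exact ⟨_, ej, by simp⟩
    rw [ew]
    exact toW _ (S.cent_comm hq hxy hggc.1 hggc.2 hw)
  · intro h hh
    rw [hfz] at hh
    obtain ⟨k0, hk0, hb⟩ := S.cover hh
    rw [← hsd, hst, ← ht₂] at hb
    obtain ⟨p, hp, ep⟩ := toD2 k0 hk0
    have hsp : ∀ n, n < 1152 → ∃ n', n' < 1152 ∧ s * D2.pv n = D2.pv n' * s := by
      intro n hn
      have a1 := HRel.pA_lt hn; have b1 := HRel.pB_lt n
      refine ⟨code (pB n) (pA n) false false, HRel.code_lt b1 a1 _ _, ?_⟩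
      rw [D2.pv_code b1 a1]
      show s * (D2.f (pA n) * D2.f₂ (pB n)) = _
      rw [D2.comm _ _ b1 a1, ← hsf _ b1, ← hsf _ a1,
        show s * (D2.f (pA n) * (s * D2.f (pB n) * s)) = s * D2.f (pA n) * s * D2.f (pB n) * s by
          simp only [mul_assoc]]
    obtain ⟨pk, hpk, epk⟩ := hkK
    have htk : t = D2.pv pk * u := by rw [hu, epk, mul_inv_cancel_left]
    rcases hb with e | e | e | e
    · exact ⟨p, hp, false, false, by rw [e, ep]; simp⟩
    · exact ⟨p, hp, true, false, by rw [e, ep]; simp⟩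
    · cases cs
      · exact ⟨pm p pk, TwoCopy.pm_lt hp hpk, false, true, by
          rw [e, ht, htk, D2.pv_pm hp hpk, ep]; simp [mul_assoc]⟩
      · obtain ⟨n', hn', en⟩ := hsp pk hpk
        exact ⟨pm p n', TwoCopy.pm_lt hp hn', true, true, by
          rw [e, ht, htk, cond_true, ← mul_assoc s, en, D2.pv_pm hp hn', ep]; simp [mul_assoc]⟩
    · cases cs
      · obtain ⟨n', hn', en⟩ := hsp pk hpk
        exact ⟨pm p n', TwoCopy.pm_lt hp hn', true, true, by
          rw [e, ht, htk, cond_false, one_mul, ← mul_assoc s, en, D2.pv_pm hp hn', ep]; simp [mul_assoc]⟩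
      · exact ⟨pm p pk, TwoCopy.pm_lt hp hpk, false, true, by
          rw [e, ht, htk, cond_true, ← mul_assoc s s, hs2, one_mul, D2.pv_pm hp hpk, ep]; simp [mul_assoc]⟩

include E in
/-- labelled data exist -/
theorem exists_half : Nonempty (Half G) := by
  obtain ⟨S, hq, hx, hy⟩ := E.exists_swapData
  rcases E.exists_swap S hq hx with h | h
  · refine E.half_of_swap S hq (fun w hw => ?_) h
    rcases List.mem_cons.1 hw with rfl | hw'
    · exact Or.inl hx
    · rw [List.mem_singleton.1 hw']; exact Or.inr hy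
  · refine E.half_of_swap S.flipXY hq (fun w hw => ?_) h
    rcases List.mem_cons.1 hw with rfl | hw'
    · exact Or.inr hy
    · rw [List.mem_singleton.1 hw']; exact Or.inl hx

end CentData

end Cfsg.Agent.Spor.UFour
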