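import Cfsg.Agent.Lib.Spor.UFourThreeType.SetupLabel
import Cfsg.Agent.Lib.Spor.UFourThreeType.Global

/-!
The parameters of the labelled data are determined: the centralizer is the model one.
-/

set_option autoImplicit false
set_option maxRecDepth 100000

namespace Cfsg.Agent.Spor.UFour

/-- the commutator of the exchanging involution with a pure code -/
def cS (c : ℕ) : ℕ := pm (pS c) (pI c)

/-- the commutator of the image of the second involution with a pure code -/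
def cT (cs : Bool) (X c : ℕ) : ℕ :=
  pm (bif cs then pS (pm (pm X (pU c)) (pI X)) else pm (pm X (pU c)) (pI X)) (pI c)

/-- the action of the interchanging element on the four-group -/
def swW (b : Bool) (w : ℕ) : ℕ := bif Nat.beq w 4 then qC b else bif Nat.beq w (qC b) then 4 else w

/-- the conditions on the parameters -/
def paramCond (sg cs : Bool) (e₁ e₂ X r r' : ℕ) : Bool :=
  Nat.beq (pm (pS X) (code e₂ 0 false false)) (pm (qC sg) X) &&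
  Nat.beq (bif cs then pm (pm (pm (pS X) (pU X)) (code e₁ 0 false false)) (code e₂ 0 false false)
    else pm (pm X (pU X)) (code e₁ 0 false false)) 0 &&
  Nat.beq (pm (pm (pm r r') r) r') 4 &&
  (wL sg).contains (cS r) && (wL sg).contains (cS r') && (wL sg).contains (cT cs X r) &&
  (wL sg).contains (cT cs X r') && Nat.beq (swW sg (cS r')) (cT cs X r) && Nat.beq (swW sg (cS r)) (cS r) &&
  Nat.beq (swW sg (cT cs X r')) (cT cs X r')

theorem param_ok : allLt 2 (fun e₁ => allLt 2 fun e₂ => allLt 24 fun a => allLt 24 fun b =>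
    a8List.all fun r => a8List.all fun r' =>
      !(paramCond true true e₁ e₂ (code a b false false) r r') &&
      !(paramCond true false e₁ e₂ (code a b false false) r r') &&
      !(paramCond false false e₁ e₂ (code a b false false) r r') &&
      (!(paramCond false true e₁ e₂ (code a b false false) r r') || (Nat.beq e₁ 1 && Nat.beq e₂ 1))) = true := by
  decide +kernel

theorem w_comm_ok : (a8List.all fun r => (wL true).all (fun w => Nat.beq (pm w r) (pm r w)) &&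
    (wL false).all (fun w => Nat.beq (pm w r) (pm r w)) && Nat.blt r 1152 && Nat.beq (Nat.mod r 4) 0 &&
    Nat.beq (pm r r) 0) = true := by decide +kernel

namespace Half

variable {G : Type*} [Group G] (R : Half G)

theorem a8_spec {x : ℕ} (hx : x ∈ a8List) : x < 1152 ∧ x % 4 = 0 ∧ R.pv x * R.pv x = 1 ∧
    ∀ w ∈ wL R.sg, R.pv w * R.pv x = R.pv x * R.pv w := by
  have k := List.all_eq_true.1 w_comm_ok x hx
  simp only [Bool.and_eq_true, List.all_eq_true] at k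
  obtain ⟨⟨⟨⟨k1, k2⟩, k3⟩, k4⟩, k5⟩ := k
  have hl : x < 1152 := Nat.le_of_ble_eq_true k3
  refine ⟨hl, Nat.eq_of_beq_eq_true k4, ?_, fun w hw => ?_⟩
  · rw [← R.toTwoCopy.pv_pm hl hl, Nat.eq_of_beq_eq_true k5, R.toTwoCopy.pv_zero]
  · have hwl : w < 1152 := by
      rcases List.mem_cons.1 hw with rfl | hw; · omega
      rcases List.mem_cons.1 hw with rfl | hw; · omega
      rcases List.mem_cons.1 hw with rfl | hw; · cases R.sg <;> decide
      rw [List.mem_singleton.1 hw]; cases R.sg <;> decide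
    rw [← R.toTwoCopy.pv_pm hwl hl, ← R.toTwoCopy.pv_pm hl hwl]
    congr 1
    cases hsg : R.sg <;> rw [hsg] at hw
    · exact Nat.eq_of_beq_eq_true (k2 w hw)
    · exact Nat.eq_of_beq_eq_true (k1 w hw)

theorem wL_lt {w : ℕ} (hw : w ∈ wL R.sg) : w < 1152 ∧ w % 4 = 0 := by
  have : ∀ b, ∀ w ∈ wL b, w < 1152 ∧ w % 4 = 0 := by decide
  exact this _ w hw

theorem pv_qC_not : R.pv (qC !R.sg) = R.pv (qC R.sg) * R.f 1 := by
  rw [← R.toTwoCopy.z_pv, ← R.toTwoCopy.pv_pm (by cases R.sg <;> decide) (by omega)]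
  congr 1
  cases R.sg <;> decide +kernel

theorem g_w {w : ℕ} (hw : w ∈ wL R.sg) : R.g * R.pv w * R.g⁻¹ = R.pv (swW R.sg w) := by
  have h0 : swW R.sg 0 = 0 ∧ swW R.sg 4 = qC R.sg ∧ swW R.sg (qC R.sg) = 4 ∧ swW R.sg (qC !R.sg) = qC !R.sg := by
    cases R.sg <;> decide +kernel
  simp only [wL, List.mem_cons, List.not_mem_nil, or_false] at hw
  rcases hw with rfl | rfl | rfl | rfl
  · rw [h0.1, R.toTwoCopy.pv_zero, mul_one, mul_inv_cancel]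
  · rw [h0.2.1, R.toTwoCopy.z_pv]; exact R.g_z
  · rw [h0.2.2.1, R.toTwoCopy.z_pv]; exact R.g_q
  · rw [h0.2.2.2, R.pv_qC_not, ← conj_mul, R.g_q, R.g_z]
    obtain ⟨p, hp, e⟩ : ∃ p, p < 1152 ∧ R.pv p = R.pv (qC R.sg) := ⟨_, by cases R.sg <;> decide, rfl⟩
    rw [← e]; exact R.toTwoCopy.z_comm hp

/-- the image of a centralizing element centralizes the four-group -/
theorem img_w {x : ℕ} (hx : x ∈ a8List) {w : ℕ} (hw : w ∈ wL R.sg) :
    R.pv w * (R.g * R.pv x * R.g⁻¹) = R.g * R.pv x * R.g⁻¹ * R.pv w := by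
  have hm : swW R.sg w ∈ wL R.sg ∧ swW R.sg (swW R.sg w) = w := by
    have : ∀ b, ∀ w ∈ wL b, swW b w ∈ wL b ∧ swW b (swW b w) = w := by decide
    exact this _ w hw
  rw [← hm.2, ← R.g_w hm.1, conj_mul, conj_mul, (R.a8_spec hx).2.2.2 _ hm.1]

theorem img_sq {x : ℕ} (hx : x ∈ a8List) : (R.g * R.pv x * R.g⁻¹) * (R.g * R.pv x * R.g⁻¹) = 1 := by
  rw [conj_mul, (R.a8_spec hx).2.2.1, mul_one, mul_inv_cancel]

theorem mem_a8 {a : ℕ} (ha : a ∈ [R.r, R.r']) : a ∈ a8List := by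
  rcases List.mem_cons.1 ha with rfl | h
  · exact R.r_mem
  · rw [List.mem_singleton.1 h]; exact R.r'_mem

/-- the interchanging element transposes the table of commutators -/
theorem g_comm {a c : ℕ} (ha : a ∈ [R.r, R.r']) (hc : c ∈ [R.r, R.r']) {w v : ℕ} (hw : w ∈ wL R.sg) (hv : v ∈ wL R.sg)
    (e₁ : R.g * R.pv a * R.g⁻¹ * R.pv c * (R.g * R.pv a * R.g⁻¹)⁻¹ * (R.pv c)⁻¹ = R.pv w)
    (e₂ : R.g * R.pv c * R.g⁻¹ * R.pv a * (R.g * R.pv c * R.g⁻¹)⁻¹ * (R.pv a)⁻¹ = R.pv v) :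
    R.pv (swW R.sg w) = R.pv v := by
  obtain ⟨w₀, hw₀, e₀⟩ := R.gg a ha
  have hA := R.a8_spec (R.mem_a8 ha)
  have i₀ := R.img_w (R.mem_a8 hc) hw₀
  have i₁ := R.img_w (R.mem_a8 hc) hv
  have i₂ := (hA.2.2.2 _ hv)
  have hv2 : R.pv v * R.pv v = 1 := by
    rw [← R.toTwoCopy.pv_pm (R.wL_lt hv).1 (R.wL_lt hv).1]
    have : ∀ b, ∀ w ∈ wL b, pm w w = 0 := by decide +kernel
    rw [this _ v hv, R.toTwoCopy.pv_zero]
  have hconj : R.g * (R.g * R.pv a * R.g⁻¹) * R.g⁻¹ = R.pv w₀ * R.pv a := by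
    rw [← e₀]; group
  rw [← R.g_w hw, ← e₁,
    show R.g * (R.g * R.pv a * R.g⁻¹ * R.pv c * (R.g * R.pv a * R.g⁻¹)⁻¹ * (R.pv c)⁻¹) * R.g⁻¹ =
      (R.g * (R.g * R.pv a * R.g⁻¹) * R.g⁻¹) * (R.g * R.pv c * R.g⁻¹) *
      (R.g * (R.g * R.pv a * R.g⁻¹) * R.g⁻¹)⁻¹ * (R.g * R.pv c * R.g⁻¹)⁻¹ by group, hconj]
  have hA1 : (R.pv a)⁻¹ = R.pv a := inv_eq_of_mul_eq_one_right hA.2.2.1
  have hT1 : (R.g * R.pv c * R.g⁻¹)⁻¹ = R.g * R.pv c * R.g⁻¹ := inv_eq_of_mul_eq_one_right (R.img_sq (R.mem_a8 hc))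
  generalize R.g * R.pv c * R.g⁻¹ = t at i₀ i₁ e₂ hT1 ⊢
  have e₂' : R.pv v * R.pv a * t = t * R.pv a := by rw [← e₂]; group
  rw [mul_inv_rev, hA1, hT1,
    show R.pv w₀ * R.pv a * t * (R.pv a * (R.pv w₀)⁻¹) * t = R.pv w₀ * (R.pv a * t * R.pv a) * ((R.pv w₀)⁻¹ * t) by
      group,
    show R.pv a * t * R.pv a = R.pv v * t by
      calc R.pv a * t * R.pv a = R.pv a * (t * R.pv a) := mul_assoc _ _ _
        _ = R.pv a * (R.pv v * R.pv a * t) := by rw [e₂']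
        _ = R.pv v * (R.pv a * R.pv a) * t := by rw [← mul_assoc, ← mul_assoc, ← i₂]; simp only [mul_assoc]
        _ = _ := by rw [hA.2.2.1, mul_one]]
  have hvw : R.pv w₀ * R.pv v = R.pv v * R.pv w₀ := by
    rw [← R.toTwoCopy.pv_pm (R.wL_lt hw₀).1 (R.wL_lt hv).1, ← R.toTwoCopy.pv_pm (R.wL_lt hv).1 (R.wL_lt hw₀).1]
    have : ∀ b, ∀ w ∈ wL b, ∀ v ∈ wL b, pm w v = pm v w := by decide +kernel
    rw [this _ _ hw₀ _ hv]
  have ht2 : t * t = 1 := by nth_rewrite 1 [← hT1]; exact inv_mul_cancel t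
  rw [← mul_assoc (R.pv w₀) (R.pv v), hvw, mul_assoc (R.pv v), i₀,
    show R.pv v * (t * R.pv w₀) * ((R.pv w₀)⁻¹ * t) = R.pv v * (t * t) by group, ht2, mul_one]

theorem s_inv : R.s⁻¹ = R.s := inv_eq_of_mul_eq_one_right R.s_sq

theorem s_pv {p : ℕ} (hp : p < 1152) : R.s * R.pv p * R.s = R.pv (pS p) := by
  have a1 := HRel.pA_lt hp; have b1 := HRel.pB_lt p
  rw [pS, R.toTwoCopy.pv_code b1 a1]
  show R.s * (R.f (pA p) * R.f₂ (pB p)) * R.s = _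
  rw [R.toTwoCopy.comm _ _ b1 a1, ← R.s_f _ b1, ← R.s_f _ a1]
  simp only [mul_assoc, R.s_sq, mul_one]

theorem u_pv {p : ℕ} (hp : p < 1152) : R.u * R.pv p * R.u⁻¹ = R.pv (pU p) := by
  have a1 := HRel.pA_lt hp; have b1 := HRel.pB_lt p
  rw [pU, R.toTwoCopy.pv_code (misc a1).1 (misc b1).1, ← R.u_f _ a1, ← R.u_f₂ _ b1, conj_mul]
  rfl

theorem z_s : R.f 1 * R.s = R.s * R.f 1 := by
  have h := R.s_f 1 (by omega)
  rw [R.z_eq] at h
  calc R.f 1 * R.s = R.s * R.f 1 * R.s * R.s := by rw [h]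
    _ = R.s * R.f 1 := by rw [mul_assoc, R.s_sq, mul_one]

/-- the value of a parameter -/
theorem f_eps {e : ℕ} (he : e < 2) : R.f e = R.pv (code e 0 false false) := by
  rw [R.toTwoCopy.pv_code (by omega) (by omega), R.toTwoCopy.f₂_zero, mul_one]

theorem params : R.sg = false ∧ R.cs = true ∧ R.ε₁ = 1 ∧ R.ε₂ = 1 := by
  obtain ⟨ha, hb⟩ := R.cab
  obtain ⟨he₁, he₂⟩ := R.ε_lt
  set X := code R.ca R.cb false false
  have hX : X < 1152 := HRel.code_lt ha hb _ _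
  have hE : ∀ e, e < 2 → code e 0 false false < 1152 := fun e he => HRel.code_lt (by omega) (by omega) _ _
  have hmod : ∀ a b, a < 1152 → b < 1152 → pm a b % 4 = 0 := fun a b la lb =>
    TwoCopy.code_mod (sm_lt (HRel.pA_lt la) (HRel.pA_lt lb)) (sm_lt (HRel.pB_lt _) (HRel.pB_lt _))
  have lpS : ∀ p, p < 1152 → pS p < 1152 := fun p hp => HRel.code_lt (HRel.pB_lt p) (HRel.pA_lt hp) _ _
  have lpU : ∀ p, p < 1152 → pU p < 1152 := fun p hp =>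
    HRel.code_lt (misc (HRel.pA_lt hp)).1 (misc (HRel.pB_lt p)).1 _ _
  have hq : qC R.sg < 1152 := by cases R.sg <;> decide
  obtain ⟨hrl, -, hr2, -⟩ := R.a8_spec R.r_mem
  obtain ⟨hr'l, -, hr'2, -⟩ := R.a8_spec R.r'_mem
  obtain ⟨T, hT⟩ : ∃ T, T = R.g * R.pv R.r' * R.g⁻¹ := ⟨_, rfl⟩
  have hT2 : T * T = 1 := hT ▸ R.img_sq R.r'_mem
  have hTi : T⁻¹ = T := inv_eq_of_mul_eq_one_right hT2
  have hsT : R.s * T * R.s = R.pv (qC R.sg) * T := by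
    have : R.s * T * R.s * T = R.pv (qC R.sg) := by
      rw [hT, ← R.g_r, conj_mul, conj_mul, conj_mul, ← R.g_z, ← R.toTwoCopy.z_pv, ← R.rr,
        R.toTwoCopy.pv_pm (TwoCopy.pm_lt (TwoCopy.pm_lt hrl hr'l) hrl) hr'l,
        R.toTwoCopy.pv_pm (TwoCopy.pm_lt hrl hr'l) hrl, R.toTwoCopy.pv_pm hrl hr'l]
    rw [← this, mul_assoc (R.s * T * R.s), hT2, mul_one]
  have hTe : T = (bif R.cs then R.s else 1) * (R.pv X * R.u) := hT ▸ R.g_r'
  have hzu : R.f R.ε₂ * R.u = R.u * R.f R.ε₂ := by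
    rcases Nat.lt_succ_iff_lt_or_eq.1 he₂ with h | h
    · rw [show R.ε₂ = 0 by omega, R.toTwoCopy.f_zero, one_mul, mul_one]
    · rw [h]
      have := R.u_f 1 (by omega)
      rw [show sU 1 = 1 by decide +kernel] at this
      exact (mul_inv_eq_iff_eq_mul.1 this).symm
  have hsXu : R.s * (R.pv X * R.u) * R.s = R.pv (pm (pS X) (code R.ε₂ 0 false false)) * R.u := by
    rw [R.toTwoCopy.pv_pm (lpS X hX) (hE _ he₂), ← R.s_pv hX, ← R.f_eps he₂]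
    calc R.s * (R.pv X * R.u) * R.s = R.s * R.pv X * (R.s * R.s) * R.u * R.s := by
          rw [R.s_sq, mul_one]; simp only [mul_assoc]
      _ = R.s * R.pv X * R.s * (R.s * R.u * R.s) := by simp only [mul_assoc]
      _ = _ := by rw [R.s_u, ← hzu]; simp only [mul_assoc]
  have hsqv : R.s * R.pv (qC R.sg) = R.pv (qC R.sg) * R.s := by
    have := R.img_w R.r_mem (show qC R.sg ∈ wL R.sg by simp [wL])
    rw [R.g_r] at this
    exact this.symm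
  have c1 : pm (pS X) (code R.ε₂ 0 false false) = pm (qC R.sg) X := by
    refine R.toTwoCopy.pv_inj (TwoCopy.pm_lt (lpS X hX) (hE _ he₂)) (TwoCopy.pm_lt hq hX)
      (hmod _ _ (lpS X hX) (hE _ he₂)) (hmod _ _ hq hX) ?_
    rw [R.toTwoCopy.pv_pm hq hX]
    refine mul_right_cancel (b := R.u) ?_
    rw [← hsXu, mul_assoc (R.pv (qC R.sg))]
    cases hcs : R.cs <;> rw [hcs] at hTe
    · rw [cond_false, one_mul] at hTe
      rw [← hTe]; exact hsT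
    · rw [cond_true] at hTe
      rw [hTe, show R.s * (R.s * (R.pv X * R.u)) * R.s = (R.s * R.s) * (R.pv X * R.u) * R.s by group, R.s_sq,
        one_mul, ← mul_assoc (R.pv (qC R.sg)), ← hsqv, mul_assoc R.s] at hsT
      rw [mul_assoc R.s (R.pv X * R.u) R.s, hsT, ← mul_assoc R.s, R.s_sq, one_mul]
  have huXu : R.u * (R.pv X * R.u) = R.pv (pm (pU X) (code R.ε₁ 0 false false)) := by
    rw [R.toTwoCopy.pv_pm (lpU X hX) (hE _ he₁), ← R.u_pv hX, ← R.f_eps he₁, ← R.u_sq]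
    group
  have c2 : (bif R.cs then pm (pm (pm (pS X) (pU X)) (code R.ε₁ 0 false false)) (code R.ε₂ 0 false false)
      else pm (pm X (pU X)) (code R.ε₁ 0 false false)) = 0 := by
    have hzc : ∀ e, e < 2 → ∀ p, p < 1152 → R.f e * R.pv p = R.pv p * R.f e := by
      intro e he p hp
      rcases Nat.lt_succ_iff_lt_or_eq.1 he with h | h
      · rw [show e = 0 by omega, R.toTwoCopy.f_zero, one_mul, mul_one]
      · rw [h]; exact R.toTwoCopy.z_comm hp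
    have lU := lpU X hX
    have lS := lpS X hX
    cases hcs : R.cs <;> rw [hcs] at hTe <;> simp only [cond_true, cond_false, one_mul] at hTe ⊢
    · refine R.toTwoCopy.pv_eq_one (TwoCopy.pm_lt (TwoCopy.pm_lt hX lU) (hE _ he₁))
        (hmod _ _ (TwoCopy.pm_lt hX lU) (hE _ he₁)) ?_
      rw [← hT2, hTe, R.toTwoCopy.pv_pm (TwoCopy.pm_lt hX lU) (hE _ he₁), R.toTwoCopy.pv_pm hX lU,
        show R.pv X * R.u * (R.pv X * R.u) = R.pv X * (R.u * (R.pv X * R.u)) from mul_assoc _ _ _, huXu,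
        R.toTwoCopy.pv_pm lU (hE _ he₁), ← mul_assoc]
    · refine R.toTwoCopy.pv_eq_one (TwoCopy.pm_lt (TwoCopy.pm_lt (TwoCopy.pm_lt lS lU) (hE _ he₁)) (hE _ he₂))
        (hmod _ _ (TwoCopy.pm_lt (TwoCopy.pm_lt lS lU) (hE _ he₁)) (hE _ he₂)) ?_
      rw [← hT2, hTe, show R.s * (R.pv X * R.u) * (R.s * (R.pv X * R.u)) =
          (R.s * (R.pv X * R.u) * R.s) * (R.pv X * R.u) by group, hsXu,
        mul_assoc (R.pv (pm (pS X) _)), huXu, R.toTwoCopy.pv_pm lS (hE _ he₂), R.toTwoCopy.pv_pm lU (hE _ he₁),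
        R.toTwoCopy.pv_pm (TwoCopy.pm_lt (TwoCopy.pm_lt lS lU) (hE _ he₁)) (hE _ he₂),
        R.toTwoCopy.pv_pm (TwoCopy.pm_lt lS lU) (hE _ he₁), R.toTwoCopy.pv_pm lS lU, ← R.f_eps he₂]
      have hk : Commute (R.f R.ε₂) (R.pv (pU X) * R.pv (code R.ε₁ 0 false false)) :=
        Commute.mul_right (hzc _ he₂ _ lU) (hzc _ he₂ _ (hE _ he₁))
      rw [mul_assoc (R.pv (pS X)) (R.f R.ε₂), hk.eq]
      simp only [mul_assoc]
  have vS : ∀ c, c < 1152 → R.g * R.pv R.r * R.g⁻¹ * R.pv c * (R.g * R.pv R.r * R.g⁻¹)⁻¹ * (R.pv c)⁻¹ =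
      R.pv (cS c) := by
    intro c hc
    rw [cS, R.toTwoCopy.pv_pm (lpS c hc) (TwoCopy.pI_lt hc), R.toTwoCopy.pv_pI hc, R.g_r, R.s_inv, ← R.s_pv hc]
  have vT : ∀ c, c < 1152 → R.g * R.pv R.r' * R.g⁻¹ * R.pv c * (R.g * R.pv R.r' * R.g⁻¹)⁻¹ * (R.pv c)⁻¹ =
      R.pv (cT R.cs X c) := by
    intro c hc
    have lY : pm (pm X (pU c)) (pI X) < 1152 := TwoCopy.pm_lt (TwoCopy.pm_lt hX (lpU c hc)) (TwoCopy.pI_lt hX)
    have eY : R.pv (pm (pm X (pU c)) (pI X)) = R.pv X * (R.u * R.pv c * R.u⁻¹) * (R.pv X)⁻¹ := by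
      rw [R.toTwoCopy.pv_pm (TwoCopy.pm_lt hX (lpU c hc)) (TwoCopy.pI_lt hX), R.toTwoCopy.pv_pm hX (lpU c hc),
        R.toTwoCopy.pv_pI hX, R.u_pv hc]
    rw [← hT, hTe]
    cases R.cs <;> simp only [cT, cond_true, cond_false, one_mul]
    · rw [R.toTwoCopy.pv_pm lY (TwoCopy.pI_lt hc), R.toTwoCopy.pv_pI hc, eY]; group
    · rw [R.toTwoCopy.pv_pm (lpS _ lY) (TwoCopy.pI_lt hc), R.toTwoCopy.pv_pI hc, ← R.s_pv lY, eY, mul_inv_rev,
        mul_inv_rev, R.s_inv]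
      simp only [mul_assoc]
  have lcS : ∀ c, c < 1152 → cS c < 1152 ∧ cS c % 4 = 0 := fun c hc =>
    ⟨TwoCopy.pm_lt (lpS c hc) (TwoCopy.pI_lt hc), hmod _ _ (lpS c hc) (TwoCopy.pI_lt hc)⟩
  have lcT : ∀ c, c < 1152 → cT R.cs X c < 1152 ∧ cT R.cs X c % 4 = 0 := by
    intro c hc
    have lY : pm (pm X (pU c)) (pI X) < 1152 := TwoCopy.pm_lt (TwoCopy.pm_lt hX (lpU c hc)) (TwoCopy.pI_lt hX)
    cases R.cs
    · exact ⟨TwoCopy.pm_lt lY (TwoCopy.pI_lt hc), hmod _ _ lY (TwoCopy.pI_lt hc)⟩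
    · exact ⟨TwoCopy.pm_lt (lpS _ lY) (TwoCopy.pI_lt hc), hmod _ _ (lpS _ lY) (TwoCopy.pI_lt hc)⟩
  have m1 : R.r ∈ [R.r, R.r'] := List.mem_cons_self
  have m2 : R.r' ∈ [R.r, R.r'] := List.mem_cons_of_mem _ List.mem_cons_self
  have mem : ∀ a ∈ [R.r, R.r'], ∀ c ∈ [R.r, R.r'], ∀ n, n < 1152 → n % 4 = 0 →
      R.g * R.pv a * R.g⁻¹ * R.pv c * (R.g * R.pv a * R.g⁻¹)⁻¹ * (R.pv c)⁻¹ = R.pv n → n ∈ wL R.sg := by
    intro a ha c hc n hn hn4 e
    obtain ⟨w, hw, e'⟩ := R.bcomm a ha c hc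
    rw [e] at e'
    rw [R.toTwoCopy.pv_inj hn (R.wL_lt hw).1 hn4 (R.wL_lt hw).2 e']
    exact hw
  have mS : cS R.r ∈ wL R.sg := mem _ m1 _ m1 _ (lcS _ hrl).1 (lcS _ hrl).2 (vS _ hrl)
  have mS' : cS R.r' ∈ wL R.sg := mem _ m1 _ m2 _ (lcS _ hr'l).1 (lcS _ hr'l).2 (vS _ hr'l)
  have mT : cT R.cs X R.r ∈ wL R.sg := mem _ m2 _ m1 _ (lcT _ hrl).1 (lcT _ hrl).2 (vT _ hrl)
  have mT' : cT R.cs X R.r' ∈ wL R.sg := mem _ m2 _ m2 _ (lcT _ hr'l).1 (lcT _ hr'l).2 (vT _ hr'l)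
  have sw_lt : ∀ w ∈ wL R.sg, swW R.sg w ∈ wL R.sg := by
    have : ∀ b, ∀ w ∈ wL b, swW b w ∈ wL b := by decide
    exact this _
  have eqc : ∀ w v, w ∈ wL R.sg → v ∈ wL R.sg → R.pv w = R.pv v → w = v := fun w v hw hv e =>
    R.toTwoCopy.pv_inj (R.wL_lt hw).1 (R.wL_lt hv).1 (R.wL_lt hw).2 (R.wL_lt hv).2 e
  have s1 := eqc _ _ (sw_lt _ mS') mT (R.g_comm m1 m2 mS' mT (vS _ hr'l) (vT _ hrl))
  have s2 := eqc _ _ (sw_lt _ mS) mS (R.g_comm m1 m1 mS mS (vS _ hrl) (vS _ hrl))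
  have s3 := eqc _ _ (sw_lt _ mT') mT' (R.g_comm m2 m2 mT' mT' (vT _ hr'l) (vT _ hr'l))
  have hcond : paramCond R.sg R.cs R.ε₁ R.ε₂ X R.r R.r' = true := by
    simp only [paramCond, Bool.and_eq_true]
    refine ⟨⟨⟨⟨⟨⟨⟨⟨⟨?_, ?_⟩, ?_⟩, ?_⟩, ?_⟩, ?_⟩, ?_⟩, ?_⟩, ?_⟩, ?_⟩
    · rw [c1, Nat.beq_refl]
    · rw [c2, Nat.beq_refl]
    · rw [R.rr, Nat.beq_refl]
    · exact List.contains_iff_mem.2 mS
    · exact List.contains_iff_mem.2 mS'
    · exact List.contains_iff_mem.2 mT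
    · exact List.contains_iff_mem.2 mT'
    · rw [s1, Nat.beq_refl]
    · rw [s2, Nat.beq_refl]
    · rw [s3, Nat.beq_refl]
  have k := List.all_eq_true.1 (List.all_eq_true.1 (allLt_spec (allLt_spec (allLt_spec (allLt_spec param_ok _ he₁)
    _ he₂) _ ha) _ hb) _ R.r_mem) _ R.r'_mem
  simp only [Bool.and_eq_true, Bool.or_eq_true, Bool.not_eq_true'] at k
  obtain ⟨⟨⟨k1, k2⟩, k3⟩, k4⟩ := k
  cases hsg : R.sg <;> cases hcs : R.cs <;> rw [hsg, hcs] at hcond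
  · rw [hcond] at k3; exact absurd k3 (by simp)
  · rcases k4 with k4 | k4
    · rw [hcond] at k4; exact absurd k4 (by simp)
    · exact ⟨rfl, rfl, Nat.eq_of_beq_eq_true k4.1, Nat.eq_of_beq_eq_true k4.2⟩
  · rw [hcond] at k2; exact absurd k2 (by simp)
  · rw [hcond] at k1; exact absurd k1 (by simp)

end Half

end Cfsg.Agent.Spor.UFour
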