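import Cfsg.Agent.Lib.Spor.UFourThreeType.SetupAct
import Mathlib.GroupTheory.PGroup
import Mathlib.GroupTheory.QuotientGroup.Basic

/-!
An element interchanging the central involution with a conjugate in the quaternion product, and the
involutions it sends into the centralizer; one of them exchanges the two copies of SL(2,3).
-/

set_option autoImplicit false
set_option maxRecDepth 100000

namespace Cfsg.Agent.Spor.UFour

theorem invol_class_ok : allLt 24 (fun a => allLt 24 fun b => !(q8 a && q8 b &&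
    Nat.beq (code (sm a a) (sm b b) false false) 0 && !Nat.beq (code a b false false) 0 &&
    !Nat.beq (code a b false false) 4) ||
    !allLt 24 fun c => allLt 24 fun d =>
      !Nat.beq (code (scj c 2) (scj d 2) false false) (code a b false false)) = true := by decide +kernel

theorem type_ok : allLt 24 (fun c => allLt 24 fun d =>
    !(Nat.beq (code (autI c false 2) (autI d true 2) false false) 104 &&
      ([0, 4, 104, 108] : List ℕ).contains
        (code (sm (autI c false 14) (si 14)) (sm (autI d true 14) (si 14)) false false)) &&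
    !(Nat.beq (code (autI c true 2) (autI d false 2) false false) 104 &&
      ([0, 4, 104, 108] : List ℕ).contains
        (code (sm (autI c true 14) (si 14)) (sm (autI d false 14) (si 14)) false false))) = true := by decide +kernel

theorem parity_ok : allLt 24 (fun c => allLt 24 fun d => allLt 24 fun e =>
    !(Nat.beq (autI c true (autI d true 2)) (autI e true 2) &&
      Nat.beq (autI c true (autI d true 12)) (autI e true 12))) = true := by decide +kernel

theorem qcard_ok : (Finset.univ.filter fun k : Fin 288 => qP (4 * k.val) = true).card = 32 := by decide +kernel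

namespace TwoCopy

variable {G : Type*} [Group G] (D : TwoCopy G)

/-- the product of the quaternion subgroups as a subgroup -/
def qSub : Subgroup G where
  carrier := {x | D.inQ x}
  one_mem' := ⟨0, by omega, qP_zero, D.pv_zero⟩
  mul_mem' := by
    rintro _ _ ⟨p, hp, h1, rfl⟩ ⟨q, hq, h2, rfl⟩
    exact ⟨pm p q, pm_lt hp hq, qP_pm hp hq h1 h2, D.pv_pm hp hq⟩
  inv_mem' := by
    rintro _ ⟨p, hp, h1, rfl⟩
    exact ⟨pI p, pI_lt hp, qP_pI hp h1, D.pv_pI hp⟩

/-- the product of the two copies as a subgroup -/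
def kSub : Subgroup G where
  carrier := {x | D.inK x}
  one_mem' := ⟨0, by omega, D.pv_zero⟩
  mul_mem' := by
    rintro _ _ ⟨p, hp, rfl⟩ ⟨q, hq, rfl⟩
    exact ⟨pm p q, pm_lt hp hq, D.pv_pm hp hq⟩
  inv_mem' := by
    rintro _ ⟨p, hp, rfl⟩
    exact ⟨pI p, pI_lt hp, D.pv_pI hp⟩

theorem inQ_pv {p : ℕ} (hp : p < 1152) (h : qP p = true) : D.inQ (D.pv p) := ⟨p, hp, h, rfl⟩

theorem inQ_z : D.inQ (D.f 1) := ⟨4, by omega, by decide +kernel, D.z_pv⟩

theorem inK_of_inQ {x : G} (h : D.inQ x) : D.inK x := by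
  obtain ⟨p, hp, -, rfl⟩ := h
  exact ⟨p, hp, rfl⟩

theorem pv_pure {p : ℕ} (hp : p < 1152) :
    D.pv p = D.pv (4 * (p / 4)) ∧ qP p = qP (4 * (p / 4)) := by
  have h1 : pA (4 * (p / 4)) = pA p := by show 2 * (4 * (p / 4) / 96) = 2 * (p / 96); omega
  have h2 : pB (4 * (p / 4)) = pB p := by show 4 * (p / 4) / 4 % 24 = p / 4 % 24; omega
  exact ⟨by rw [pv, pv, h1, h2], by rw [qP, qP, h1, h2]⟩

theorem card_qSub : Nat.card D.qSub = 32 := by
  let F : {k : Fin 288 // qP (4 * k.val) = true} → D.qSub := fun k =>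
    ⟨D.pv (4 * k.1.val), D.inQ_pv (by omega) k.2⟩
  have hF : Function.Bijective F := by
    refine ⟨fun a b h => ?_, ?_⟩
    · have := D.pv_inj (p := 4 * a.1.val) (q := 4 * b.1.val) (by omega) (by omega) (by omega) (by omega)
        (congrArg Subtype.val h)
      exact Subtype.ext (Fin.ext (by omega))
    · rintro ⟨_, p, hp, h1, rfl⟩
      obtain ⟨e1, e2⟩ := D.pv_pure hp
      exact ⟨⟨⟨p / 4, by omega⟩, e2 ▸ h1⟩, Subtype.ext e1.symm⟩
  rw [← Nat.card_eq_of_bijective F hF, Nat.card_eq_fintype_card, Fintype.card_subtype, qcard_ok]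

/-- noncentral involutions of the quaternion product are conjugate to `pv 104` -/
theorem conj_q {x : G} (hx : D.inQ x) (h2 : x * x = 1) (h1 : x ≠ 1) (hz : x ≠ D.f 1) :
    ∃ k, D.inK k ∧ k * D.pv 104 * k⁻¹ = x := by
  obtain ⟨a, b, ha, hb, qa, qb, rfl⟩ := D.inQ_pair hx
  have hsq : code (sm a a) (sm b b) false false = 0 := by
    rw [D.code_inj (sm_lt ha ha) (sm_lt hb hb) (show 0 < 24 by omega) (show 0 < 24 by omega) ?_]
    · decide +kernel
    · rw [D.hf a a ha ha, D.hf₂ b b hb hb, D.f_zero, D.f₂_zero, mul_one]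
      rw [show D.f a * D.f a * (D.f₂ b * D.f₂ b) = D.f a * (D.f a * D.f₂ b) * D.f₂ b by simp only [mul_assoc],
        D.comm a b ha hb]
      simpa only [mul_assoc] using h2
  have hne : ∀ t, t = 0 ∨ t = 4 → code a b false false ≠ t := by
    rintro t (rfl | rfl) e
    · exact h1 (by rw [← D.pv_code ha hb, e, D.pv_zero])
    · exact hz (by rw [← D.pv_code ha hb, e, D.z_pv])
  have k := allLt_spec (allLt_spec invol_class_ok a ha) b hb
  rw [qa, qb, hsq, Nat.beq_refl, show Nat.beq (code a b false false) 0 = false from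
      Bool.eq_false_iff.2 fun e => hne 0 (Or.inl rfl) (Nat.eq_of_beq_eq_true e),
    show Nat.beq (code a b false false) 4 = false from
      Bool.eq_false_iff.2 fun e => hne 4 (Or.inr rfl) (Nat.eq_of_beq_eq_true e)] at k
  simp only [Bool.and_self, Bool.not_false, Bool.not_true, Bool.false_or] at k
  obtain ⟨c, hc, e⟩ := not_allLt k
  obtain ⟨d, hd, e⟩ := not_allLt (show (!allLt 24 _) = true by rw [e]; rfl)
  rw [Bool.not_eq_false'] at e
  refine ⟨D.f c * D.f₂ d, D.inK_of_pair hc hd, ?_⟩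
  have s2 : ∀ x, x < 24 → sm x 2 < 24 := fun x hx => sm_lt hx (by omega)
  rw [← D.pv_code ha hb, ← Nat.eq_of_beq_eq_true e]
  simp only [scj]
  rw [D.pv_code (sm_lt (s2 c hc) (misc hc).2.1) (sm_lt (s2 d hd) (misc hd).2.1)]
  rw [D.hf _ _ (s2 c hc) (misc hc).2.1, D.hf _ _ hc (by omega), D.f_si hc, D.hf₂ _ _ (s2 d hd) (misc hd).2.1,
    D.hf₂ _ _ hd (by omega), D.f₂_si hd, show (104 : ℕ) = code 2 2 false false by decide +kernel,
    D.pv_code (by omega) (by omega), mul_inv_rev]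
  have k1 : Commute (D.f₂ d) (D.f 2) := (D.comm 2 d (by omega) hd).symm
  have k2 : Commute (D.f c)⁻¹ (D.f₂ d * D.f₂ 2 * (D.f₂ d)⁻¹) :=
    (((show Commute _ _ from D.comm c d hc hd).mul_right (D.comm c 2 hc (by omega))).mul_right
      (show Commute _ _ from D.comm c d hc hd).inv_right).inv_left
  calc D.f c * D.f₂ d * (D.f 2 * D.f₂ 2) * ((D.f₂ d)⁻¹ * (D.f c)⁻¹)
      = D.f c * (D.f₂ d * D.f 2) * D.f₂ 2 * (D.f₂ d)⁻¹ * (D.f c)⁻¹ := by simp only [mul_assoc]
    _ = D.f c * D.f 2 * ((D.f₂ d * D.f₂ 2 * (D.f₂ d)⁻¹) * (D.f c)⁻¹) := by rw [k1.eq]; simp only [mul_assoc]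
    _ = D.f c * D.f 2 * ((D.f c)⁻¹ * (D.f₂ d * D.f₂ 2 * (D.f₂ d)⁻¹)) := by rw [k2.eq]
    _ = _ := by simp only [mul_assoc]

end TwoCopy

/-- a group of order at most four is abelian -/
theorem comm_of_card_dvd_four {P : Type*} [Group P] [Finite P] (h : Nat.card P ∣ 4) (x y : P) : x * y = y * x := by
  haveI : Fact (Nat.Prime 2) := ⟨Nat.prime_two⟩
  have hc : Nat.card P = 1 ∨ Nat.card P = 2 ∨ Nat.card P = 4 := by
    have := Nat.le_of_dvd (by omega) h
    have h0 : Nat.card P ≠ 0 := Nat.card_pos.ne'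
    interval_cases hn : Nat.card P <;> omega
  rcases hc with hc | hc | hc
  · haveI := (Nat.card_eq_one_iff_unique.1 hc).1
    exact Subsingleton.elim _ _
  · haveI : IsCyclic P := isCyclic_of_prime_card hc
    exact mul_comm' x y
  · exact IsPGroup.commutative_of_card_eq_prime_sq (p := 2) (by rw [hc]; norm_num) x y

/-- an element interchanging `f 1` with a conjugate in the quaternion product, with its attendant data -/
structure SwapData {G : Type*} [Group G] (E : CentData G) where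
  /-- the interchanging element -/
  g : G
  /-- the second involution of the four-group -/
  qe : G
  /-- two involutions in the centralizer of the four-group -/
  x : G
  /-- two involutions in the centralizer of the four-group -/
  y : G
  q_inQ : E.inQ qe
  q_ne : qe ≠ 1 ∧ qe ≠ E.f 1
  g_z : g * E.f 1 * g⁻¹ = qe
  g_q : g * qe * g⁻¹ = E.f 1
  wset : ∀ w, E.inQ w → E.inQ (g⁻¹ * w * g) → w = 1 ∨ w = E.f 1 ∨ w = qe ∨ w = qe * E.f 1
  x_inQ : E.inQ x
  y_inQ : E.inQ y
  x_sq : x * x = 1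
  y_sq : y * y = 1
  x_q : x * qe = qe * x
  y_q : y * qe = qe * y
  xy : x * y * x * y = E.f 1

namespace SwapData

variable {G : Type*} [Group G] {E : CentData G} (S : SwapData E)

include S in
theorem z_sq' : E.f 1 * E.f 1 = 1 := E.toTwoCopy.z_sq

theorem q_sq : S.qe * S.qe = 1 := by
  rw [← S.g_z, conj_mul, E.toTwoCopy.z_sq, mul_one, mul_inv_cancel]

theorem z_q : E.f 1 * S.qe = S.qe * E.f 1 := by
  obtain ⟨p, hp, -, e⟩ := S.q_inQ
  rw [← e]; exact E.toTwoCopy.z_comm hp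

theorem inQ_comm_z {a : G} (ha : E.inQ a) : a * E.f 1 = E.f 1 * a := by
  obtain ⟨p, hp, -, rfl⟩ := ha
  exact (E.toTwoCopy.z_comm hp).symm

/-- the image of an element centralizing the four-group centralizes it -/
theorem img_cent {a : G} (ha : E.inQ a) (haq : a * S.qe = S.qe * a) :
    S.g * a * S.g⁻¹ * E.f 1 = E.f 1 * (S.g * a * S.g⁻¹) ∧
    S.g * a * S.g⁻¹ * S.qe = S.qe * (S.g * a * S.g⁻¹) := by
  refine ⟨?_, ?_⟩
  · conv_lhs => rw [← S.g_q]
    conv_rhs => rw [← S.g_q]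
    rw [conj_mul, conj_mul, haq]
  · conv_lhs => rw [← S.g_z]
    conv_rhs => rw [← S.g_z]
    rw [conj_mul, conj_mul, inQ_comm_z ha]

/-- commutators of images with centralizing elements lie in the four-group -/
theorem img_comm {a c : G} (ha : E.inQ a) (haq : a * S.qe = S.qe * a) (hc : E.inQ c) (hcq : c * S.qe = S.qe * c) :
    S.g * a * S.g⁻¹ * c * (S.g * a * S.g⁻¹)⁻¹ * c⁻¹ = 1 ∨
    S.g * a * S.g⁻¹ * c * (S.g * a * S.g⁻¹)⁻¹ * c⁻¹ = E.f 1 ∨
    S.g * a * S.g⁻¹ * c * (S.g * a * S.g⁻¹)⁻¹ * c⁻¹ = S.qe ∨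
    S.g * a * S.g⁻¹ * c * (S.g * a * S.g⁻¹)⁻¹ * c⁻¹ = S.qe * E.f 1 := by
  refine S.wset _ (mul_mem (E.q_conj (S.img_cent ha haq).1 hc) (inv_mem (show c ∈ E.toTwoCopy.qSub from hc)) :) ?_
  have hc' : S.g⁻¹ * c * S.g * E.f 1 = E.f 1 * (S.g⁻¹ * c * S.g) := by
    have e : E.f 1 = S.g⁻¹ * S.qe * S.g := by rw [← S.g_z]; group
    rw [e, show S.g⁻¹ * c * S.g * (S.g⁻¹ * S.qe * S.g) = S.g⁻¹ * (c * S.qe) * S.g by group,
      show S.g⁻¹ * S.qe * S.g * (S.g⁻¹ * c * S.g) = S.g⁻¹ * (S.qe * c) * S.g by group, hcq]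
  have := mul_mem (show a ∈ E.toTwoCopy.qSub from ha)
    (E.q_conj hc' (inv_mem (show a ∈ E.toTwoCopy.qSub from ha)) : _ ∈ E.toTwoCopy.qSub)
  rw [show a * (S.g⁻¹ * c * S.g * a⁻¹ * (S.g⁻¹ * c * S.g)⁻¹) =
    S.g⁻¹ * (S.g * a * S.g⁻¹ * c * (S.g * a * S.g⁻¹)⁻¹ * c⁻¹) * S.g by group] at this
  exact this

/-- the image of a centralizing involution or its product is outside the product of the copies -/
theorem img_notK {a b : G} (ha : E.inQ a) (haq : a * S.qe = S.qe * a) (hb : E.inQ b) (hbq : b * S.qe = S.qe * b)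
    (hab : a * b ≠ b * a) : ¬ E.inK (S.g * a * S.g⁻¹) := by
  rintro ⟨p, hp, e⟩
  obtain ⟨t, ht, h1, et⟩ := ha
  have h4 : qP p = true := E.qP_of_pow_four hp (by
    rw [e, conj_pow, ← et, E.pow_four_of_qP ht h1, mul_one, mul_inv_cancel])
  have hw := S.wset (S.g * a * S.g⁻¹) ⟨p, hp, h4, e⟩
    (by rw [show S.g⁻¹ * (S.g * a * S.g⁻¹) * S.g = a by group]; exact ⟨t, ht, h1, et⟩)
  obtain ⟨c1, c2⟩ := S.img_cent hb hbq
  have key : S.g * a * S.g⁻¹ * (S.g * b * S.g⁻¹) = S.g * b * S.g⁻¹ * (S.g * a * S.g⁻¹) := by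
    rcases hw with h | h | h | h <;> rw [h]
    · rw [one_mul, mul_one]
    · exact c1.symm
    · exact c2.symm
    · rw [mul_assoc, ← c1, ← mul_assoc, ← c2, mul_assoc]
  rw [conj_mul, conj_mul] at key
  exact hab (mul_left_cancel (mul_right_cancel key))

theorem not_comm : S.x * S.y ≠ S.y * S.x := by
  intro h
  refine E.toTwoCopy.z_ne ?_
  rw [← S.xy]
  calc S.x * S.y * S.x * S.y = S.x * S.y * (S.x * S.y) := by simp only [mul_assoc]
    _ = S.x * S.y * (S.y * S.x) := by rw [h]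
    _ = S.x * (S.y * S.y) * S.x := by simp only [mul_assoc]
    _ = 1 := by rw [S.y_sq, mul_one, S.x_sq]

theorem notK : ¬ E.inK (S.g * S.x * S.g⁻¹) ∧ ¬ E.inK (S.g * S.y * S.g⁻¹) ∧
    ¬ E.inK (S.g * (S.x * S.y) * S.g⁻¹) := by
  refine ⟨S.img_notK S.x_inQ S.x_q S.y_inQ S.y_q S.not_comm,
    S.img_notK S.y_inQ S.y_q S.x_inQ S.x_q S.not_comm.symm,
    S.img_notK (mul_mem (show S.x ∈ E.toTwoCopy.qSub from S.x_inQ) S.y_inQ :)
      (by rw [mul_assoc, S.y_q, ← mul_assoc, S.x_q, mul_assoc]) S.x_inQ S.x_q ?_⟩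
  intro h
  refine S.not_comm ?_
  rw [mul_assoc] at h
  exact (mul_left_cancel h).symm

/-- the centralizer is covered by four cosets of the product of the copies -/
theorem cover {h : G} (hh : h * E.f 1 = E.f 1 * h) : ∃ k, E.inK k ∧
    (h = k ∨ h = k * (S.g * S.x * S.g⁻¹) ∨ h = k * (S.g * S.y * S.g⁻¹) ∨ h = k * (S.g * (S.x * S.y) * S.g⁻¹)) := by
  obtain ⟨n1, n2, n3⟩ := S.notK
  have hxy : (S.x * S.y) * S.qe = S.qe * (S.x * S.y) := by
    rw [mul_assoc, S.y_q, ← mul_assoc, S.x_q, mul_assoc]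
  let c : Fin 4 → G := ![1, S.g * S.x * S.g⁻¹, S.g * S.y * S.g⁻¹, S.g * (S.x * S.y) * S.g⁻¹]
  have hc : ∀ i, c i * E.f 1 = E.f 1 * c i := by
    intro i
    fin_cases i
    · show (1 : G) * _ = _ * 1; rw [one_mul, mul_one]
    · exact (S.img_cent S.x_inQ S.x_q).1
    · exact (S.img_cent S.y_inQ S.y_q).1
    · exact (S.img_cent (mul_mem (show S.x ∈ E.toTwoCopy.qSub from S.x_inQ) S.y_inQ :) hxy).1
  have hinK : ∀ i : Fin 288, E.inK (E.pv (4 * i.val)) := fun i => ⟨_, by omega, rfl⟩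
  let F : Fin 288 × Fin 4 → Subgroup.centralizer ({E.f 1} : Set G) := fun ij =>
    ⟨E.pv (4 * ij.1.val) * c ij.2, Subgroup.mem_centralizer_singleton_iff.2 (by
      rw [mul_assoc, hc, ← mul_assoc, ← E.toTwoCopy.z_comm (by omega), mul_assoc])⟩
  have hx2 : (S.g * S.x * S.g⁻¹)⁻¹ = S.g * S.x * S.g⁻¹ := by
    rw [conj_inv, inv_eq_of_mul_eq_one_right S.x_sq]
  have hy2 : (S.g * S.y * S.g⁻¹)⁻¹ = S.g * S.y * S.g⁻¹ := by
    rw [conj_inv, inv_eq_of_mul_eq_one_right S.y_sq]
  have hd : ∀ i j : Fin 4, E.inK (c i * (c j)⁻¹) → i = j := by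
    intro i j hij
    have hconj : ∀ w : G, E.inK (S.g * S.x * S.g⁻¹ * w * (S.g * S.x * S.g⁻¹)⁻¹) → E.inK w := by
      intro w hw
      obtain ⟨p, hp, e⟩ := hw
      have := E.k_conj _ (S.img_cent S.x_inQ S.x_q).1 p hp
      rw [e] at this
      rw [show S.g * S.x * S.g⁻¹ * (S.g * S.x * S.g⁻¹ * w * (S.g * S.x * S.g⁻¹)⁻¹) * (S.g * S.x * S.g⁻¹)⁻¹ =
        (S.g * (S.x * S.x) * S.g⁻¹) * w * (S.g * (S.x * S.x) * S.g⁻¹)⁻¹ by group, S.x_sq, mul_one, mul_inv_cancel,
        one_mul, inv_one, mul_one] at this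
      exact this
    have hinv : ∀ w : G, E.inK w⁻¹ → E.inK w := fun w hw => by
      have := inv_mem (show w⁻¹ ∈ E.toTwoCopy.kSub from hw)
      rwa [inv_inv] at this
    fin_cases i <;> fin_cases j <;> first | rfl | exfalso
    · exact n1 (hinv _ (by simpa [c] using hij))
    · exact n2 (hinv _ (by simpa [c] using hij))
    · exact n3 (hinv _ (by simpa [c] using hij))
    · exact n1 (by simpa [c] using hij)
    · refine n3 ?_
      have h : E.inK (S.g * S.x * S.g⁻¹ * (S.g * S.y * S.g⁻¹)⁻¹) := by simpa [c] using hij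
      rwa [hy2, conj_mul] at h
    · refine n2 ?_
      have h : E.inK (S.g * S.x * S.g⁻¹ * (S.g * (S.x * S.y) * S.g⁻¹)⁻¹) := by simpa [c] using hij
      rw [← conj_mul, mul_inv_rev, hy2, hx2] at h
      exact hconj _ (by rw [hx2]; simpa only [mul_assoc] using h)
    · exact n2 (by simpa [c] using hij)
    · refine n3 (hinv _ ?_)
      have h : E.inK (S.g * S.y * S.g⁻¹ * (S.g * S.x * S.g⁻¹)⁻¹) := by simpa [c] using hij
      rw [← conj_mul, mul_inv_rev, hy2]
      exact h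
    · refine n1 ?_
      have h : E.inK (S.g * S.y * S.g⁻¹ * (S.g * (S.x * S.y) * S.g⁻¹)⁻¹) := by simpa [c] using hij
      rwa [← conj_mul, mul_inv_rev, hy2, hx2, ← mul_assoc, conj_mul, S.y_sq, mul_one, mul_inv_cancel, one_mul] at h
    · exact n3 (by simpa [c] using hij)
    · refine n2 (hconj _ ?_)
      have h : E.inK (S.g * (S.x * S.y) * S.g⁻¹ * (S.g * S.x * S.g⁻¹)⁻¹) := by simpa [c] using hij
      rw [← conj_mul] at h
      exact h
    · refine n1 ?_
      have h : E.inK (S.g * (S.x * S.y) * S.g⁻¹ * (S.g * S.y * S.g⁻¹)⁻¹) := by simpa [c] using hij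
      rw [← conj_mul, mul_inv_cancel_right] at h
      exact h
  have hF : Function.Injective F := by
    rintro ⟨i, a⟩ ⟨j, b⟩ h
    have h' : E.pv (4 * i.val) * c a = E.pv (4 * j.val) * c b := congrArg Subtype.val h
    have hab : a = b := hd a b (by
      rw [show c a * (c b)⁻¹ = (E.pv (4 * i.val))⁻¹ * E.pv (4 * j.val) by
        rw [eq_inv_mul_iff_mul_eq, ← mul_assoc, h', mul_inv_cancel_right]]
      exact mul_mem (inv_mem (show E.pv (4 * i.val) ∈ E.toTwoCopy.kSub from hinK i)) (hinK j))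
    subst hab
    have := E.toTwoCopy.pv_inj (p := 4 * i.val) (q := 4 * j.val) (by omega) (by omega) (by omega) (by omega)
      (mul_right_cancel h')
    exact Prod.ext (Fin.ext (show i.val = j.val by omega)) rfl
  haveI : Finite (Subgroup.centralizer ({E.f 1} : Set G)) := Nat.finite_of_card_ne_zero (by rw [E.card]; omega)
  have hb : Function.Bijective F := (Nat.bijective_iff_injective_and_card _).2
    ⟨hF, by rw [Nat.card_prod, Nat.card_fin, Nat.card_fin, E.card]⟩
  obtain ⟨⟨i, a⟩, e⟩ := hb.2 ⟨h, Subgroup.mem_centralizer_singleton_iff.2 hh⟩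
  have e' : E.pv (4 * i.val) * c a = h := congrArg Subtype.val e
  refine ⟨E.pv (4 * i.val), hinK i, ?_⟩
  fin_cases a
  · exact Or.inl (by simpa [c] using e'.symm)
  · exact Or.inr (Or.inl (by simpa [c] using e'.symm))
  · exact Or.inr (Or.inr (Or.inl (by simpa [c] using e'.symm)))
  · exact Or.inr (Or.inr (Or.inr (by simpa [c] using e'.symm)))

end SwapData

end Cfsg.Agent.Spor.UFour
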